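import Cfsg.Agent.Lib.CosetEnum.Simple

/-!
# Groups presented by relator words on numbered involutions
-/

set_option autoImplicit false

namespace Cfsg.Lib.CosetEnum.WordPres

/-- A letter as a free generator. -/
def ofFin (k g : ℕ) : FreeGroup (Fin k) := if h : g < k then FreeGroup.of ⟨g, h⟩ else 1

/-- The relators given by words. -/
def rels (k : ℕ) (R : List (List ℕ)) : Set (FreeGroup (Fin k)) :=
  {w | ∃ r ∈ R, w = wordVal (ofFin k) r}

/-- The group presented by the words. -/
abbrev Grp (k : ℕ) (R : List (List ℕ)) : Type := PresentedGroup (rels k R)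

/-- The generators. -/
def gens (k : ℕ) (R : List (List ℕ)) (g : ℕ) : Grp k R := PresentedGroup.mk (rels k R) (ofFin k g)

theorem wordVal_gens {k : ℕ} {R : List (List ℕ)} : ∀ r ∈ R, wordVal (gens k R) r = 1 := by
  intro r hr
  rw [show gens k R = fun g => PresentedGroup.mk (rels k R) (ofFin k g) from rfl, ← map_wordVal]
  exact PresentedGroup.one_of_mem ⟨r, hr, rfl⟩

theorem gens_mul_self {k : ℕ} {R : List (List ℕ)} (hk : k ≤ eps)
    (hR : ((List.range k).all fun g => R.contains [g, g]) = true) (g : ℕ) :
    gens k R g * gens k R g = 1 := by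
  by_cases h : g < k
  · have hm := List.all_eq_true.1 hR g (List.mem_range.2 h)
    rw [List.contains_eq_mem, decide_eq_true_eq] at hm
    have := wordVal_gens (k := k) [g, g] hm
    have he : g ≠ eps := by omega
    simpa [wordVal, gen, he] using this
  · simp [gens, ofFin, h]

theorem closure_gens (k : ℕ) (R : List (List ℕ)) :
    Subgroup.closure (gens k R '' {g | g < k}) = ⊤ := by
  rw [← top_le_iff, ← PresentedGroup.closure_range_of (rels k R), Subgroup.closure_le]
  rintro _ ⟨a, rfl⟩
  refine Subgroup.subset_closure ⟨a.1, a.2, ?_⟩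
  simp [gens, ofFin]
  rfl

/-- Elements satisfying the relator words give a homomorphism. -/
theorem exists_hom {k : ℕ} {R : List (List ℕ)} (hk : k ≤ eps)
    (hlt : (R.all fun r => r.all fun g => Nat.blt g k) = true) {M : Type*} [Group M] (z : ℕ → M)
    (h : ∀ r ∈ R, wordVal z r = 1) : ∃ φ : Grp k R →* M, ∀ g < k, φ (gens k R g) = z g := by
  have hlift : ∀ r : List ℕ, (∀ g ∈ r, g < k) →
      FreeGroup.lift (fun a : Fin k => z a.1) (wordVal (ofFin k) r) = wordVal z r := by
    intro r
    induction r with
    | nil => intro _; simp [wordVal]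
    | cons g w ih =>
      intro hw
      have hg : g < k := hw g (by simp)
      rw [wordVal, wordVal, map_mul, ih fun a ha => hw a (by simp [ha]), gen, gen,
        if_neg (by omega), if_neg (by omega), ofFin, dif_pos hg, FreeGroup.lift_apply_of]
  have hrel : ∀ w ∈ rels k R, FreeGroup.lift (fun a : Fin k => z a.1) w = 1 := by
    rintro w ⟨r, hr, rfl⟩
    have h1 := List.all_eq_true.1 hlt r hr
    rw [hlift r fun g hg => by simpa [Nat.blt_eq] using List.all_eq_true.1 h1 g hg, h r hr]
  refine ⟨PresentedGroup.toGroup hrel, fun g hg => ?_⟩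
  rw [gens, ofFin, dif_pos hg]
  exact PresentedGroup.toGroup.of hrel

/-- Renaming the letters of a word. -/
theorem wordVal_map {M : Type*} [Group M] (z : ℕ → M) {k : ℕ} (hk : k ≤ eps) (σ : ℕ → ℕ)
    (hσ : ∀ g < k, σ g ≠ eps) : ∀ r : List ℕ, (∀ g ∈ r, g < k) →
      wordVal (fun g => z (σ g)) r = wordVal z (r.map σ)
  | [], _ => rfl
  | g :: r, h => by
    have hg : g < k := h g (by simp)
    rw [wordVal, List.map_cons, wordVal,
      wordVal_map z hk σ hσ r fun a ha => h a (by simp [ha]), gen, gen, if_neg (by omega),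
      if_neg (hσ g hg)]

end Cfsg.Lib.CosetEnum.WordPres
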