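/-!
# Kernel-checkable certificates for coset enumeration: the checks

A certificate lists *facts* `(u, g, v)` about numbered nodes, read as `x g • φ u = φ v` for an
unknown labelling `φ` of the nodes by points of a set on which the group acts (node `0` is the base
point). The first facts define new nodes; every later fact follows from earlier ones and one
relation. This file has no imports, so that the generated certificate files stay light.
-/

set_option autoImplicit false

namespace Cfsg.Lib.CosetEnum

universe u

/-- Binary trees with leaf values, split by index. -/
inductive Tab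
  | leaf (v : Nat)
  | node (m : Nat) (l r : Tab)

/-- Evaluate a number to a numeral before passing it on. -/
noncomputable def force {α : Sort u} (i : Nat) (k : Nat → α) : α :=
  Nat.rec (motive := fun _ => α) (k 0) (fun j _ => k (j + 1)) i

theorem force_eq {α : Sort u} (i : Nat) (k : Nat → α) : force i k = k i := by
  cases i <;> rfl

/-- Lookup of a leaf. -/
noncomputable def Tab.get (t : Tab) : Nat → Nat :=
  Tab.rec (motive := fun _ => Nat → Nat) (fun v _ => v)
    (fun m _ _ gl gr i => force i fun j => cond (Nat.ble m j) (gr (Nat.sub j m)) (gl j)) t

/-- Lookup in a table packed 64 entries of 72 bits to a leaf. -/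
noncomputable def Tab.getP (t : Tab) (i : Nat) : Nat :=
  force i fun j =>
    Nat.land (Nat.shiftRight (t.get (Nat.shiftRight j 6)) (Nat.mul 72 (Nat.land j 63)))
      4722366482869645213695

/-- Digit width. -/
def B : Nat := 4194304

/-- The label of an equality fact. -/
def eps : Nat := 31

/-- Start node of a fact. -/
def fu (f : Nat) : Nat := f / 32 / B

/-- End node of a fact. -/
def fv (f : Nat) : Nat := f / 32 % B

/-- Label of a fact. -/
def fg (f : Nat) : Nat := f % 32

/-- Add a label to a word, dropping equality labels. -/
def consG (g : Nat) (w : List Nat) : List Nat := cond (Nat.beq g eps) w (g :: w)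

/-- Equality test on words. -/
def beqW : List Nat → List Nat → Bool
  | [], [] => true
  | a :: l, b :: m => Nat.beq a b && beqW l m
  | _, _ => false

/-- Decode a certificate line into digits. -/
def digits : Nat → Nat → List Nat
  | 0, _ => []
  | n + 1, c => cond (Nat.ble c 1) [] (c % B :: digits n (c / B))

/-- Follow facts from a node; returns the end node and the word read. -/
noncomputable def walk (F : Tab) (bound : Nat) : List Nat → Nat → Option (Nat × List Nat)
  | [], cur => some (cur, [])
  | r :: rs, cur =>
    cond (Nat.blt r bound)
      (force (F.getP r) fun f =>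
        cond (Nat.beq (fu f) cur)
          (force (fv f) fun nx => match walk F bound rs nx with
            | some (e, w) => some (e, consG (fg f) w)
            | none => none)
          (cond (Nat.beq (fv f) cur)
            (force (fu f) fun nx => match walk F bound rs nx with
              | some (e, w) => some (e, consG (fg f) w)
              | none => none)
            none))
      none

/-- Check a derived fact: a relation word read from a node, with one gap. -/
noncomputable def stepOK (R U : List (List Nat)) (F : Tab) (i : Nat) : List Nat → Bool
  | k :: s :: p :: refs =>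
    (Nat.blt k R.length || Nat.beq s 0) &&
      match walk F i (refs.take p) s, walk F i (refs.drop p) s with
      | some (u, w), some (v, w') =>
        Nat.beq (fu (F.getP i)) u && Nat.beq (fv (F.getP i)) v &&
          beqW (w ++ consG (fg (F.getP i)) w'.reverse) ((R ++ U).getD k [eps])
      | _, _ => false
  | _ => false

/-- Check the node definitions: fact `i` creates node `i + 1`. -/
noncomputable def defOK (F : Tab) (i : Nat) : Bool :=
  Nat.ble (fu (F.getP i)) i && Nat.beq (fv (F.getP i)) (i + 1) && Nat.blt (fg (F.getP i)) eps

/-- Check a range of derived facts. -/
noncomputable def stepsOK (R U : List (List Nat)) (F C : Tab) (d : Nat) : Nat → Nat → Bool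
  | 0, _ => true
  | n + 1, j => force j fun j =>
      stepOK R U F (d + j) (digits 400 (C.get j)) && stepsOK R U F C d n (j + 1)

/-- Check a range of node definitions. -/
noncomputable def defsOK (F : Tab) : Nat → Nat → Bool
  | 0, _ => true
  | n + 1, j => force j fun j => defOK F j && defsOK F n (j + 1)

/-- The target of an edge in a table. -/
noncomputable def img (P : Tab) (k g i : Nat) : Nat := P.getP (i * k + g)

/-- One edge of the table is a proved fact. -/
noncomputable def edgeOK (F : Tab) (bound n g i t r : Nat) : Bool :=
  Nat.blt t n && Nat.blt r bound && force (F.getP r) fun f =>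
    Nat.beq (fg f) g &&
      ((Nat.beq (fu f) i && Nat.beq (fv f) t) || (Nat.beq (fv f) i && Nat.beq (fu f) t))

/-- Check that the generators in `S` keep the representatives in place. -/
noncomputable def closedOK (F Z P : Tab) (bound n k : Nat) (S : List Nat) : Nat → Nat → Bool
  | 0, _ => true
  | m + 1, i => force i fun i =>
      (S.all fun g => edgeOK F bound n g i (img P k g i) (Z.getP (i * k + g))) &&
        closedOK F Z P bound n k S m (i + 1)

/-- Read a word in the table. -/
noncomputable def twalk (Z : Tab) (k : Nat) (w : List Nat) : Nat → Nat :=
  List.rec (motive := fun _ => Nat → Nat) (fun i => i)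
    (fun g _ ih i => force (img Z k g i) ih) w

theorem twalk_nil (Z : Tab) (k i : Nat) : twalk Z k [] i = i := rfl

theorem twalk_cons (Z : Tab) (k g : Nat) (w : List Nat) (i : Nat) :
    twalk Z k (g :: w) i = twalk Z k w (img Z k g i) := force_eq _ _

/-- Every generator is an involution and every relation word fixes every point, on a range. -/
noncomputable def permOK (Z : Tab) (k n : Nat) (R : List (List Nat)) : Nat → Nat → Bool
  | 0, _ => true
  | m + 1, i => force i fun i => ((List.range k).all fun g =>
        force (img Z k g i) fun t => Nat.blt t n && Nat.beq (img Z k g t) i) &&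
      (R.all fun r => (r.all fun g => Nat.blt g k) && Nat.beq (twalk Z k r i) i) &&
      permOK Z k n R m (i + 1)

/-- The first definitions form a spanning tree of the table. -/
noncomputable def treeOK (Z F : Tab) (k : Nat) : Nat → Nat → Bool
  | 0, _ => true
  | m + 1, i => force i fun i => Nat.ble (fu (F.getP i)) i && Nat.blt (fg (F.getP i)) k &&
      Nat.beq (img Z k (fg (F.getP i)) (fu (F.getP i))) (i + 1) && treeOK Z F k m (i + 1)

/-- Membership in a listed set. -/
noncomputable def member (O Pos : Tab) (c i : Nat) : Bool :=
  Nat.blt (Pos.getP i) c && Nat.beq (O.getP (Pos.getP i) / B / B) i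

/-- The listed set (point, parent position, generator) is one orbit. -/
noncomputable def orbitOK (Z O Pos : Tab) (k n c : Nat) (U : List (List Nat)) : Nat → Nat → Bool
  | 0, _ => true
  | m + 1, j => force j fun j =>
      Nat.blt (O.getP j / B / B) n && Nat.beq (Pos.getP (O.getP j / B / B)) j &&
      (Nat.beq j 0 || (Nat.blt (O.getP j / B % B) j &&
        Nat.beq (twalk Z k (U.getD (O.getP j % B) []) (O.getP (O.getP j / B % B) / B / B))
          (O.getP j / B / B))) &&
      (U.all fun u => (u.all fun g => Nat.blt g k) &&
        force (twalk Z k u (O.getP j / B / B)) fun t => member O Pos c t) &&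
      orbitOK Z O Pos k n c U m (j + 1)

/-- A word is a cyclic shift of a word or of a reversed word in a list. -/
def isShift (R0 : List (List Nat)) (r : List Nat) : Bool :=
  R0.any fun r0 => (List.range (r0.length + 1)).any fun i =>
    beqW (r0.drop i ++ r0.take i) r || beqW (r0.reverse.drop i ++ r0.reverse.take i) r

/-- Every word is such a shift, or a square of a generator. -/
def shiftsOK (R0 R : List (List Nat)) : Bool :=
  R.all fun r => (match r with
    | [a, b] => Nat.beq a b
    | _ => false) || isShift R0 r

/-- A certificate for a bound on the index of one subgroup in another. -/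
structure StepCert where
  /-- Relator shifts used by the steps. -/
  R : List (List Nat)
  /-- Subgroup words. -/
  U : List (List Nat)
  /-- The generators of the larger group. -/
  S : List Nat
  /-- Facts. -/
  F : Tab
  /-- Steps. -/
  C : Tab
  /-- Closing facts. -/
  Z : Tab
  /-- The table. -/
  P : Tab
  /-- Number of node definitions. -/
  d : Nat
  /-- Number of steps. -/
  e : Nat
  /-- The bound. -/
  n : Nat
  /-- The number of generators. -/
  k : Nat

/-- The checks on a step certificate. -/
structure StepCert.Valid (c : StepCert) (R0 : List (List Nat)) : Prop where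
  pos : (Nat.blt 0 c.n && c.S.all fun g => Nat.blt g eps) = true
  shifts : shiftsOK R0 c.R = true
  defs : defsOK c.F c.d 0 = true
  steps : stepsOK c.R c.U c.F c.C c.d c.e 0 = true
  closed : closedOK c.F c.Z c.P (c.d + c.e) c.n c.k c.S c.n 0 = true

/-- A certificate for the index of the subgroup generated by the words `U`. -/
structure IndexCert where
  /-- All relator words. -/
  R0 : List (List Nat)
  /-- Relator words from which all others are shifts, checked on the table. -/
  R1 : List (List Nat)
  /-- The enumeration. -/
  step : StepCert

/-- The checks on a certificate. -/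
structure IndexCert.Valid (c : IndexCert) : Prop where
  valid : c.step.Valid c.R0
  pos : (Nat.ble c.step.k eps && beqW c.step.S (List.range c.step.k)) = true
  halves : shiftsOK c.R1 c.R0 = true
  perm : permOK c.step.P c.step.k c.step.n c.R1 c.step.n 0 = true
  tree : treeOK c.step.P c.step.F c.step.k (c.step.n - 1) 0 = true
  fix : (c.step.U.all fun u =>
    (u.all fun g => Nat.blt g c.step.k) && Nat.beq (twalk c.step.P c.step.k u 0) 0) = true

/-- One level of a base with generators. -/
structure BaseLevel where
  /-- The orbit. -/
  O : Tab
  /-- Positions in the orbit. -/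
  Pos : Tab
  /-- The orbit length. -/
  c : Nat
  /-- The generators, as words. -/
  U : List (List Nat)

/-- The generators of the next level fix the base point and lie among those of this level. -/
noncomputable def nestOK (Z : Tab) (k : Nat) (L : BaseLevel) (next : List (List Nat)) : Bool :=
  Nat.blt 0 L.c && next.all fun u => (u.all fun g => Nat.blt g k) &&
    force (L.O.getP 0 / B / B) fun p =>
      Nat.beq (twalk Z k u p) p && L.U.any fun v => beqW v u

/-- Chunks of derived facts can be checked separately. -/
theorem stepsOK_append {R U : List (List Nat)} {F C : Tab} {d : Nat} : ∀ {m n j : Nat},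
    stepsOK R U F C d m j = true → stepsOK R U F C d n (j + m) = true →
      stepsOK R U F C d (m + n) j = true
  | 0, n, j, _, h => by simpa using h
  | m + 1, n, j, h, h' => by
    rw [stepsOK, force_eq, Bool.and_eq_true] at h
    rw [show m + 1 + n = (m + n) + 1 by omega, stepsOK, force_eq, Bool.and_eq_true]
    exact ⟨h.1, stepsOK_append h.2 (by rwa [show j + 1 + m = j + (m + 1) by omega])⟩

/-- Chunks of closure checks can be checked separately. -/
theorem closedOK_append {F Z P : Tab} {bound n k : Nat} {S : List Nat} : ∀ {a b i : Nat},
    closedOK F Z P bound n k S a i = true → closedOK F Z P bound n k S b (i + a) = true →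
      closedOK F Z P bound n k S (a + b) i = true
  | 0, b, i, _, h => by simpa using h
  | a + 1, b, i, h, h' => by
    rw [closedOK, force_eq, Bool.and_eq_true] at h
    rw [show a + 1 + b = (a + b) + 1 by omega, closedOK, force_eq, Bool.and_eq_true]
    exact ⟨h.1, closedOK_append h.2 (by rwa [show i + 1 + a = i + (a + 1) by omega])⟩

/-- Chunks of definitions can be checked separately. -/
theorem defsOK_append {F : Tab} : ∀ {a b i : Nat},
    defsOK F a i = true → defsOK F b (i + a) = true → defsOK F (a + b) i = true
  | 0, b, i, _, h => by simpa using h
  | a + 1, b, i, h, h' => by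
    rw [defsOK, force_eq, Bool.and_eq_true] at h
    rw [show a + 1 + b = (a + b) + 1 by omega, defsOK, force_eq, Bool.and_eq_true]
    exact ⟨h.1, defsOK_append h.2 (by rwa [show i + 1 + a = i + (a + 1) by omega])⟩

/-- Chunks of table checks can be checked separately. -/
theorem permOK_append {Z : Tab} {k n : Nat} {R : List (List Nat)} : ∀ {a b i : Nat},
    permOK Z k n R a i = true → permOK Z k n R b (i + a) = true → permOK Z k n R (a + b) i = true
  | 0, b, i, _, h => by simpa using h
  | a + 1, b, i, h, h' => by
    rw [permOK, force_eq, Bool.and_eq_true] at h
    rw [show a + 1 + b = (a + b) + 1 by omega, permOK, force_eq, Bool.and_eq_true]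
    exact ⟨h.1, permOK_append h.2 (by rwa [show i + 1 + a = i + (a + 1) by omega])⟩

end Cfsg.Lib.CosetEnum
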