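import Mathlib
import Cfsg.Agent.Lib.CosetEnum.Defs

/-!
# Soundness of coset enumeration certificates
-/

set_option autoImplicit false

namespace Cfsg.Lib.CosetEnum

theorem beqW_eq : ∀ {l m : List ℕ}, beqW l m = true → l = m
  | [], [], _ => rfl
  | [], _ :: _, h => by simp [beqW] at h
  | _ :: _, [], h => by simp [beqW] at h
  | a :: l, b :: m, h => by
    rw [beqW, Bool.and_eq_true, Nat.beq_eq] at h
    rw [h.1, beqW_eq h.2]

variable {G α : Type*} [Group G] [MulAction G α]

/-- The generator of a label. -/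
def gen (x : ℕ → G) (g : ℕ) : G := if g = eps then 1 else x g

/-- Act by a word, first letter first. -/
def act (x : ℕ → G) (w : List ℕ) (q : α) : α := w.foldl (fun q g => gen x g • q) q

@[simp] theorem act_nil (x : ℕ → G) (q : α) : act x [] q = q := rfl

@[simp] theorem act_cons (x : ℕ → G) (g : ℕ) (w : List ℕ) (q : α) :
    act x (g :: w) q = act x w (gen x g • q) := rfl

theorem act_append (x : ℕ → G) (w w' : List ℕ) (q : α) :
    act x (w ++ w') q = act x w' (act x w q) := by
  simp [act, List.foldl_append]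

theorem act_consG (x : ℕ → G) (g : ℕ) (w : List ℕ) (q : α) :
    act x (consG g w) q = act x w (gen x g • q) := by
  unfold consG
  cases h : Nat.beq g eps with
  | true => rw [Nat.beq_eq] at h; simp [gen, h]
  | false => rfl

theorem gen_smul_smul {x : ℕ → G} (hx : ∀ g, x g * x g = 1) (g : ℕ) (q : α) :
    gen x g • gen x g • q = q := by
  unfold gen
  split
  · simp
  · rw [smul_smul, hx, one_smul]

theorem act_reverse_act {x : ℕ → G} (hx : ∀ g, x g * x g = 1) : ∀ (w : List ℕ) (q : α),
    act x w.reverse (act x w q) = q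
  | [], q => rfl
  | g :: w, q => by
    rw [List.reverse_cons, act_append, act_cons (q := q), act_reverse_act hx w]
    simp [gen_smul_smul hx]

/-- The facts below `bound` hold. -/
def Holds (x : ℕ → G) (F : Tab) (φ : ℕ → α) (bound : ℕ) : Prop :=
  ∀ r < bound, gen x (fg (F.getP r)) • φ (fu (F.getP r)) = φ (fv (F.getP r))

theorem walk_sound {x : ℕ → G} (hx : ∀ g, x g * x g = 1) {F : Tab} {φ : ℕ → α} {bound : ℕ}
    (h : Holds x F φ bound) : ∀ {rs : List ℕ} {cur e : ℕ} {w : List ℕ},
    walk F bound rs cur = some (e, w) → act x w (φ cur) = φ e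
  | [], cur, e, w, hw => by
    simp only [walk, Option.some.injEq, Prod.mk.injEq] at hw
    rw [← hw.1, ← hw.2]
    rfl
  | r :: rs, cur, e, w, hw => by
    rw [walk] at hw
    cases hr : Nat.blt r bound with
    | false => rw [hr] at hw; simp at hw
    | true =>
      rw [hr, cond_true, force_eq] at hw
      have hf := h r (by simpa [Nat.blt_eq] using hr)
      cases h1 : Nat.beq (fu (F.getP r)) cur with
      | true =>
        rw [h1, cond_true, force_eq] at hw
        split at hw
        · next e' w' heq =>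
          simp only [Option.some.injEq, Prod.mk.injEq] at hw
          rw [← hw.1, ← hw.2, act_consG, ← Nat.eq_of_beq_eq_true h1, hf]
          exact walk_sound hx h heq
        · simp at hw
      | false =>
        rw [h1, cond_false] at hw
        cases h2 : Nat.beq (fv (F.getP r)) cur with
        | false => rw [h2] at hw; simp at hw
        | true =>
          rw [h2, cond_true, force_eq] at hw
          split at hw
          · next e' w' heq =>
            simp only [Option.some.injEq, Prod.mk.injEq] at hw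
            rw [← hw.1, ← hw.2, act_consG, ← Nat.eq_of_beq_eq_true h2, ← hf, gen_smul_smul hx]
            exact walk_sound hx h heq
          · simp at hw

theorem stepOK_sound {x : ℕ → G} (hx : ∀ g, x g * x g = 1) {R U : List (List ℕ)}
    (hR : ∀ r ∈ R, ∀ q : α, act x r q = q) {F : Tab} {φ : ℕ → α} {i : ℕ}
    (hU : ∀ r ∈ U, act x r (φ 0) = φ 0) (h : Holds x F φ i) :
    ∀ {c : List ℕ}, stepOK R U F i c = true → Holds x F φ (i + 1)
  | [], hc => by simp [stepOK] at hc
  | [_], hc => by simp [stepOK] at hc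
  | [_, _], hc => by simp [stepOK] at hc
  | k :: s :: p :: refs, hc => by
    simp only [stepOK, Bool.and_eq_true, Bool.or_eq_true] at hc
    obtain ⟨hk, hc⟩ := hc
    split at hc
    · next u w v w' hwu hwv =>
      simp only [Bool.and_eq_true, Nat.beq_eq] at hc
      obtain ⟨⟨hu, hv⟩, hword⟩ := hc
      have hword := beqW_eq hword
      have hrel : act x ((R ++ U).getD k [eps]) (φ s) = φ s := by
        rcases Nat.lt_or_ge k (R ++ U).length with hlt | hge
        · rw [List.getD_eq_getElem _ _ hlt]
          rcases Nat.lt_or_ge k R.length with h1 | h1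
          · rw [List.getElem_append_left h1]
            exact hR _ (List.getElem_mem h1) _
          · rw [List.getElem_append_right h1]
            rcases hk with hk | hk
            · rw [Nat.blt_eq] at hk; omega
            · rw [Nat.beq_eq] at hk; subst hk
              exact hU _ (List.getElem_mem _)
        · rw [List.getD_eq_default _ _ hge]
          simp [gen]
      rw [← hword, act_append, walk_sound hx h hwu, act_consG] at hrel
      have h1 := congrArg (act x w') hrel
      rw [walk_sound hx h hwv] at h1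
      have h2 := act_reverse_act hx w'.reverse (gen x (fg (F.getP i)) • φ u)
      rw [List.reverse_reverse] at h2
      intro r hr
      rcases Nat.lt_succ_iff_lt_or_eq.1 hr with hr | hr
      · exact h r hr
      · subst hr
        rw [hu, hv, ← h2]
        exact h1
    · simp at hc

theorem stepsOK_sound {x : ℕ → G} (hx : ∀ g, x g * x g = 1) {R U : List (List ℕ)}
    (hR : ∀ r ∈ R, ∀ q : α, act x r q = q) {F C : Tab} {φ : ℕ → α} {d : ℕ}
    (hU : ∀ r ∈ U, act x r (φ 0) = φ 0) : ∀ {n j : ℕ}, stepsOK R U F C d n j = true →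
      Holds x F φ (d + j) → Holds x F φ (d + j + n)
  | 0, j, _, h => h
  | n + 1, j, hc, h => by
    rw [stepsOK, force_eq, Bool.and_eq_true] at hc
    have := stepsOK_sound hx hR hU (n := n) (j := j + 1) hc.2 (stepOK_sound hx hR hU h hc.1)
    rwa [show d + (j + 1) + n = d + j + (n + 1) by omega] at this

theorem defsOK_get {F : Tab} : ∀ {n j : ℕ}, defsOK F n j = true →
    ∀ i, j ≤ i → i < j + n → defOK F i = true
  | 0, j, _, i, h1, h2 => by omega
  | n + 1, j, hc, i, h1, h2 => by
    rw [defsOK, force_eq, Bool.and_eq_true] at hc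
    rcases Nat.eq_or_lt_of_le h1 with h | h
    · exact h ▸ hc.1
    · exact defsOK_get hc.2 i h (by omega)

theorem exists_labelling (x : ℕ → G) (q₀ : α) {F : Tab} {d : ℕ}
    (hd : ∀ i < d, defOK F i = true) : ∃ φ : ℕ → α, φ 0 = q₀ ∧ Holds x F φ d := by
  induction d with
  | zero => exact ⟨fun _ => q₀, rfl, fun r hr => absurd hr (Nat.not_lt_zero _)⟩
  | succ d ih =>
    obtain ⟨φ, h0, hφ⟩ := ih fun i hi => hd i (by omega)
    have hf : ∀ i < d + 1, fu (F.getP i) ≤ i ∧ fv (F.getP i) = i + 1 := by
      intro i hi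
      have := hd i hi
      simp only [defOK, Bool.and_eq_true, Nat.beq_eq, Nat.ble_eq] at this
      exact ⟨this.1.1, this.1.2⟩
    refine ⟨Function.update φ (d + 1) (gen x (fg (F.getP d)) • φ (fu (F.getP d))), ?_, ?_⟩
    · rw [Function.update_of_ne (by omega), h0]
    · intro r hr
      have hr' := hf r hr
      rw [Function.update_of_ne (by omega)]
      rcases Nat.lt_succ_iff_lt_or_eq.1 hr with h | h
      · rw [Function.update_of_ne (by omega)]
        exact hφ r h
      · subst h
        rw [hr'.2, Function.update_self]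

theorem closedOK_sound {F Z P : Tab} {bound n k : ℕ} {S : List ℕ} :
    ∀ {m i : ℕ}, closedOK F Z P bound n k S m i = true → ∀ j, i ≤ j → j < i + m → ∀ g ∈ S,
      ∃ t < n, ∃ r < bound, fg (F.getP r) = g ∧
        ((fu (F.getP r) = j ∧ fv (F.getP r) = t) ∨ (fv (F.getP r) = j ∧ fu (F.getP r) = t))
  | 0, i, _, j, h1, h2 => by omega
  | m + 1, i, hc, j, h1, h2 => by
    rw [closedOK, force_eq, Bool.and_eq_true, List.all_eq_true] at hc
    rcases Nat.eq_or_lt_of_le h1 with h | h
    · subst h
      intro g hg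
      have := hc.1 g hg
      simp only [edgeOK, force_eq, Bool.and_eq_true, Bool.or_eq_true, Nat.blt_eq,
        Nat.beq_eq] at this
      obtain ⟨⟨ht, hr⟩, hg', hends⟩ := this
      exact ⟨_, ht, _, hr, hg', hends⟩
    · exact closedOK_sound hc.2 j h (by omega)

/-- A closed set of representatives bounds the orbit of the base point. -/
theorem orbit_bound {x : ℕ → G} (hx : ∀ g, x g * x g = 1) (q₀ : α)
    {F : Tab} {bound n : ℕ} {S : List ℕ} (hS : ∀ g ∈ S, g < eps) (hn : 0 < n)
    {φ : ℕ → α} (h0 : φ 0 = q₀) (hF : Holds x F φ bound)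
    (hcl : ∀ j < n, ∀ g ∈ S, ∃ t < n, ∃ r < bound, fg (F.getP r) = g ∧
      ((fu (F.getP r) = j ∧ fv (F.getP r) = t) ∨ (fv (F.getP r) = j ∧ fu (F.getP r) = t))) :
    (MulAction.orbit (Subgroup.closure (x '' {g | g ∈ S})) q₀).Finite ∧
      (MulAction.orbit (Subgroup.closure (x '' {g | g ∈ S})) q₀).ncard ≤ n := by
  have hstep : ∀ j < n, ∀ g ∈ S, ∃ t < n, x g • φ j = φ t := by
    intro j hj g hg
    obtain ⟨t, ht, r, hr, hgr, hends⟩ := hcl j hj g hg
    have h := hF r hr
    rw [hgr, gen, if_neg (Nat.ne_of_lt (hS g hg))] at h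
    refine ⟨t, ht, ?_⟩
    rcases hends with ⟨h1, h2⟩ | ⟨h1, h2⟩
    · rwa [h1, h2] at h
    · rw [← h1, ← h2, ← h, smul_smul, hx, one_smul]
  let A : Set α := φ '' {j | j < n}
  have hmove : ∀ g ∈ S, ∀ a ∈ A, x g • a ∈ A := by
    rintro g hg _ ⟨j, hj, rfl⟩
    obtain ⟨t, ht, htj⟩ := hstep j hj g hg
    exact ⟨t, ht, htj.symm⟩
  have hA : ∀ h ∈ Subgroup.closure (x '' {g | g ∈ S}), ∀ a ∈ A, h • a ∈ A := by
    intro h hh
    induction hh using Subgroup.closure_induction'' with
    | one => simp
    | mul y z _ _ hy hz => intro a ha; rw [mul_smul]; exact hy _ (hz a ha)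
    | mem y hy =>
      obtain ⟨g, hg, rfl⟩ := hy
      exact hmove g hg
    | inv_mem y hy =>
      obtain ⟨g, hg, rfl⟩ := hy
      rw [show (x g)⁻¹ = x g from inv_eq_of_mul_eq_one_left (hx g)]
      exact hmove g hg
  have hsub : MulAction.orbit (Subgroup.closure (x '' {g | g ∈ S})) q₀ ⊆ A := by
    rintro _ ⟨⟨h, hh⟩, rfl⟩
    exact hA h hh q₀ ⟨0, hn, h0⟩
  have hAf : A.Finite := (Set.finite_lt_nat n).image _
  refine ⟨hAf.subset hsub, (Set.ncard_le_ncard hsub hAf).trans ?_⟩
  refine (Set.ncard_image_le (Set.finite_lt_nat n)).trans ?_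
  rw [show {j : ℕ | j < n} = ↑(Finset.range n) by ext; simp, Set.ncard_coe_finset,
    Finset.card_range]

/-- All checks of a certificate: definitions, derived facts, closure. -/
theorem cert_bound {x : ℕ → G} (hx : ∀ g, x g * x g = 1) {R U : List (List ℕ)}
    (hR : ∀ r ∈ R, ∀ q : α, act x r q = q) (q₀ : α) (hU : ∀ r ∈ U, act x r q₀ = q₀)
    {F C Z P : Tab} {d e n k : ℕ} {S : List ℕ} (hS : (S.all fun g => Nat.blt g eps) = true)
    (hn : Nat.blt 0 n = true) (h1 : defsOK F d 0 = true)
    (h2 : stepsOK R U F C d e 0 = true) (h3 : closedOK F Z P (d + e) n k S n 0 = true) :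
    (MulAction.orbit (Subgroup.closure (x '' {g | g ∈ S})) q₀).Finite ∧
      (MulAction.orbit (Subgroup.closure (x '' {g | g ∈ S})) q₀).ncard ≤ n := by
  rw [Nat.blt_eq] at hn
  rw [List.all_eq_true] at hS
  obtain ⟨ψ, hψ0, hψ⟩ := exists_labelling x q₀ (F := F) (d := d)
    fun i hi => defsOK_get h1 i (Nat.zero_le _) (by omega)
  have hF := stepsOK_sound hx hR (φ := ψ) (by rw [hψ0]; exact hU) h2 (j := 0) hψ
  refine orbit_bound hx q₀ (fun g hg => ?_) hn hψ0 (bound := d + e) (by simpa using hF)
    (fun j hj => closedOK_sound h3 j (Nat.zero_le _) (by omega))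
  have := hS g hg
  rwa [Nat.blt_eq] at this

end Cfsg.Lib.CosetEnum
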