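import Cfsg.Agent.Lib.CosetEnum.Order

/-!
# Simplicity from a rank three action
-/

set_option autoImplicit false

namespace Cfsg.Lib.CosetEnum

/-- A homomorphism onto a table reads words in the table. -/
theorem map_wordVal_tperm {G : Type*} [Group G] {n : ℕ} (x : ℕ → G) (f : G →* Equiv.Perm (Fin n))
    {Z : Tab} {k : ℕ} (hk : k ≤ eps) (hf : ∀ g < k, f (x g) = tperm Z k n g) :
    ∀ {w : List ℕ}, (∀ g ∈ w, g < k) → f (wordVal x w) = wordVal (tperm Z k n) w
  | [], _ => map_one f
  | g :: w, h => by
    have hg : g < k := h g (by simp)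
    rw [wordVal, wordVal, map_mul, map_wordVal_tperm x f hk hf fun a ha => h a (by simp [ha]),
      gen, gen, if_neg (by omega), if_neg (by omega), hf g hg]

/-- A word in the generators of a step lies in their closure. -/
theorem wordVal_mem {G : Type*} [Group G] (x : ℕ → G) {S : List ℕ} : ∀ {u : List ℕ},
    (∀ g ∈ u, g ∈ S ∧ g ≠ eps) → wordVal x u ∈ Subgroup.closure (x '' {g | g ∈ S})
  | [], _ => one_mem _
  | g :: u, h => by
    rw [wordVal, gen, if_neg (h g (by simp)).2]
    exact mul_mem (wordVal_mem x fun a ha => h a (by simp [ha]))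
      (Subgroup.subset_closure ⟨g, (h g (by simp)).1, rfl⟩)

/-- Every word of `U` is in the letters `S`. -/
def inLetters (U : List (List ℕ)) (S : List ℕ) : Bool :=
  U.all fun u => u.all fun g => S.contains g && !(Nat.beq g eps)

theorem inLetters_mem {G : Type*} [Group G] (x : ℕ → G) {U : List (List ℕ)} {S : List ℕ}
    (h : inLetters U S = true) : ∀ u ∈ U, wordVal x u ∈ Subgroup.closure (x '' {g | g ∈ S}) := by
  intro u hu
  refine wordVal_mem x fun g hg => ?_
  have h1 := List.all_eq_true.1 (List.all_eq_true.1 h u hu) g hg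
  rw [Bool.and_eq_true, List.contains_eq_mem, decide_eq_true_eq] at h1
  refine ⟨h1.1, fun he => ?_⟩
  subst he
  simp at h1

/-- A set invariant under a group with three orbits covering everything is a union of them. -/
theorem ncard_invariant_of_three_orbits {H α : Type*} [Group H] [MulAction H α] [Finite α]
    {a b c : α} {nb nc : ℕ} (ha : MulAction.orbit H a = {a})
    (hb : (MulAction.orbit H b).ncard = nb) (hc : (MulAction.orbit H c).ncard = nc)
    (hab : a ∉ MulAction.orbit H b) (hac : a ∉ MulAction.orbit H c)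
    (hbc : c ∉ MulAction.orbit H b) (htot : 1 + nb + nc = Nat.card α)
    {Δ : Set α} (haΔ : a ∈ Δ) (hΔ : ∀ h : H, ∀ d ∈ Δ, h • d ∈ Δ) :
    Δ.ncard = 1 ∨ Δ.ncard = 1 + nb ∨ Δ.ncard = 1 + nc ∨ Δ.ncard = Nat.card α := by
  have hdisj : Disjoint (MulAction.orbit H b) (MulAction.orbit H c) := by
    rw [Set.disjoint_left]
    intro z hz hz'
    apply hbc
    rw [← MulAction.orbit_eq_iff.2 hz, MulAction.orbit_eq_iff.2 hz']
    exact MulAction.mem_orbit_self c
  have hcover : ({a} ∪ MulAction.orbit H b ∪ MulAction.orbit H c : Set α) = Set.univ := by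
    apply Set.eq_univ_of_forall
    by_contra hne
    obtain ⟨z, hz⟩ := not_forall.1 hne
    have h1 := Set.ncard_lt_card (s := ({a} ∪ MulAction.orbit H b ∪ MulAction.orbit H c : Set α))
      (fun he => hz (he ▸ Set.mem_univ z))
    rw [Set.ncard_union_eq (Set.disjoint_union_left.2 ⟨by simpa using hac, hdisj⟩),
      Set.ncard_union_eq (by simpa using hab), Set.ncard_singleton, hb, hc] at h1
    omega
  have hinv : ∀ z ∈ Δ, MulAction.orbit H z ⊆ Δ := by
    rintro z hz _ ⟨h, rfl⟩
    exact hΔ h z hz
  have hu : ∀ z, z ∈ ({a} : Set α) ∪ MulAction.orbit H b ∪ MulAction.orbit H c :=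
    fun z => hcover ▸ Set.mem_univ z
  have hmem : ∀ z ∈ Δ, ∀ w ∈ MulAction.orbit H z, w ∈ Δ := fun z hz w hw => hinv z hz hw
  have key : ∀ d, d ∈ Δ → ∀ e, e ∈ MulAction.orbit H d → e ∈ Δ := hmem
  by_cases h1 : b ∈ Δ <;> by_cases h2 : c ∈ Δ
  · right; right; right
    have : Δ = Set.univ := Set.eq_univ_of_forall fun z => by
      rcases hu z with (h | h) | h
      · rw [Set.mem_singleton_iff.1 h]; exact haΔ
      · exact key b h1 z h
      · exact key c h2 z h
    rw [this, Set.ncard_univ]
  · right; left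
    have : Δ = {a} ∪ MulAction.orbit H b := by
      ext z
      refine ⟨fun hz => ?_, ?_⟩
      · rcases hu z with h | h
        · exact h
        · exact absurd (key z hz c (MulAction.orbit_eq_iff.2 h ▸ MulAction.mem_orbit_self c)) h2
      · rintro (h | h)
        · rw [Set.mem_singleton_iff.1 h]; exact haΔ
        · exact key b h1 z h
    rw [this, Set.ncard_union_eq (by simpa using hab), Set.ncard_singleton, hb]
  · right; right; left
    have : Δ = {a} ∪ MulAction.orbit H c := by
      ext z
      refine ⟨fun hz => ?_, ?_⟩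
      · rcases hu z with (h | h) | h
        · exact Or.inl h
        · exact absurd (key z hz b (MulAction.orbit_eq_iff.2 h ▸ MulAction.mem_orbit_self b)) h1
        · exact Or.inr h
      · rintro (h | h)
        · rw [Set.mem_singleton_iff.1 h]; exact haΔ
        · exact key c h2 z h
    rw [this, Set.ncard_union_eq (by simpa using hac), Set.ncard_singleton, hc]
  · left
    have : Δ = {a} := by
      ext z
      refine ⟨fun hz => ?_, fun h => by rw [Set.mem_singleton_iff.1 h]; exact haΔ⟩
      rcases hu z with (h | h) | h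
      · exact h
      · exact absurd (key z hz b (MulAction.orbit_eq_iff.2 h ▸ MulAction.mem_orbit_self b)) h1
      · exact absurd (key z hz c (MulAction.orbit_eq_iff.2 h ▸ MulAction.mem_orbit_self c)) h2
    rw [this, Set.ncard_singleton]

/-- The simplicity criterion for a faithful action with two suborbits. -/
theorem isSimple_of_rank_three {G : Type*} [Group G] [Finite G] [Nontrivial G] (K : Subgroup G)
    [FaithfulSMul G (G ⧸ K)] {qb qc : G ⧸ K} {nb nc p : ℕ}
    (hb : (MulAction.orbit K qb).ncard = nb) (hc : (MulAction.orbit K qc).ncard = nc)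
    (hab : ((1 : G) : G ⧸ K) ∉ MulAction.orbit K qb)
    (hac : ((1 : G) : G ⧸ K) ∉ MulAction.orbit K qc)
    (hbc : qc ∉ MulAction.orbit K qb) (htot : 1 + nb + nc = K.index)
    (h1 : ¬ 1 + nb ∣ K.index) (h2 : ¬ 1 + nc ∣ K.index)
    (hp : p.Prime) (hpK : p ∣ K.index) (hpG : ¬ p ^ 2 ∣ Nat.card G) {w : G} (hw : w ^ p = 1)
    (hkill : ∀ N : Subgroup G, N.Normal → w ∈ N → N = ⊤) : IsSimpleGroup G := by
  refine isSimple_of_forall_normal fun N hN hne => hkill N hN ?_
  have hcard : Nat.card (G ⧸ K) = K.index := (Subgroup.index_eq_card K).symm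
  have hfix : ∀ k : K, k • ((1 : G) : G ⧸ K) = ((1 : G) : G ⧸ K) := by
    intro k
    show (((k : G) * 1 : G) : G ⧸ K) = _
    rw [QuotientGroup.eq]
    simp
  have horb : MulAction.orbit N ((1 : G) : G ⧸ K) = Set.univ := by
    refine normal_transitive _ N hne ?_
    intro Δ haΔ hinv hdvd
    have ha : MulAction.orbit K ((1 : G) : G ⧸ K) = {((1 : G) : G ⧸ K)} := by
      ext z
      constructor
      · rintro ⟨k, rfl⟩
        exact hfix k
      · intro hz
        rw [Set.mem_singleton_iff.1 hz]
        exact MulAction.mem_orbit_self _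
    have h := ncard_invariant_of_three_orbits ha hb hc hab hac hbc (by rw [hcard, htot]) haΔ
      (fun k d hd => hinv (k : G) (by rw [MulAction.mem_stabilizer_iff]; exact hfix k) d hd)
    rw [hcard] at hdvd h
    rcases h with h | h | h | h
    · left
      obtain ⟨z, hz⟩ := Set.ncard_eq_one.1 h
      rw [hz] at haΔ ⊢
      rw [Set.mem_singleton_iff.1 haΔ]
    · exact absurd (h ▸ hdvd) h1
    · exact absurd (h ▸ hdvd) h2
    · right
      exact Set.eq_of_subset_of_ncard_le (Set.subset_univ _) (by rw [Set.ncard_univ, hcard, h]) (Set.toFinite _)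
  refine mem_of_coprime_index hw ?_
  rw [Nat.coprime_comm, hp.coprime_iff_not_dvd]
  intro hdvd
  have hN : K.index ∣ Nat.card N := by
    rw [← hcard, ← Set.ncard_univ, ← horb, ← MulAction.index_stabilizer]
    exact Subgroup.index_dvd_card _
  have hpN : p ∣ Nat.card N := hpK.trans hN
  apply hpG
  rw [← Subgroup.card_mul_index N, pow_two]
  exact mul_dvd_mul hpN hdvd

end Cfsg.Lib.CosetEnum
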