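import Cfsg.Agent.Lib.CosetEnum.Perm

/-!
# The index and the suborbits of a subgroup from a certificate
-/

set_option autoImplicit false

namespace Cfsg.Lib.CosetEnum

variable {G : Type*} [Group G]

theorem wordVal_append (x : ℕ → G) : ∀ w w' : List ℕ,
    wordVal x (w ++ w') = wordVal x w' * wordVal x w
  | [], w' => (mul_one _).symm
  | g :: w, w' => by rw [List.cons_append, wordVal, wordVal, wordVal_append x w w', mul_assoc]

theorem gen_mul_self {x : ℕ → G} (hx : ∀ g, x g * x g = 1) (g : ℕ) : gen x g * gen x g = 1 := by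
  unfold gen
  split
  · exact one_mul 1
  · exact hx g

theorem wordVal_reverse {x : ℕ → G} (hx : ∀ g, x g * x g = 1) : ∀ w : List ℕ,
    wordVal x w.reverse = (wordVal x w)⁻¹
  | [] => by simp [wordVal]
  | g :: w => by
    rw [List.reverse_cons, wordVal_append, wordVal_reverse hx w, wordVal, wordVal, wordVal,
      one_mul, mul_inv_rev, inv_eq_of_mul_eq_one_left (gen_mul_self hx g)]

theorem shift_eq_one {x : ℕ → G} (hx : ∀ g, x g * x g = 1) {R0 R : List (List ℕ)}
    (h : shiftsOK R0 R = true) (h0 : ∀ r ∈ R0, wordVal x r = 1) :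
    ∀ r ∈ R, wordVal x r = 1 := by
  intro r hr
  have hrot : ∀ (w : List ℕ) (i : ℕ), wordVal x w = 1 →
      wordVal x (w.drop i ++ w.take i) = 1 := by
    intro w i hw
    rw [← List.take_append_drop i w, wordVal_append] at hw
    rw [wordVal_append, mul_eq_one_comm.1 hw]
  have h1 := List.all_eq_true.1 h r hr
  rw [Bool.or_eq_true] at h1
  rcases h1 with h1 | h1
  · split at h1
    · next a b =>
      rw [Nat.beq_eq] at h1
      subst h1
      simp [wordVal, gen_mul_self hx]
    · simp at h1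
  · simp only [isShift, List.any_eq_true, Bool.or_eq_true] at h1
    obtain ⟨r0, hr0, i, -, h2 | h2⟩ := h1
    · rw [← beqW_eq h2]; exact hrot r0 i (h0 r0 hr0)
    · rw [← beqW_eq h2]
      exact hrot _ i (by rw [wordVal_reverse hx, h0 r0 hr0, inv_one])

/-- The permutations satisfy the base relators. -/
theorem IndexCert.Valid.tperm_rel {c : IndexCert} (h : c.Valid) :
    ∀ r ∈ c.R0, wordVal (tperm c.step.P c.step.k c.step.n) r = 1 := by
  have h1 := h.pos
  simp only [Bool.and_eq_true, Nat.ble_eq] at h1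
  exact shift_eq_one (tperm_mul_self _ _ _) h.halves
    fun r hr => wordVal_tperm_eq_one h.perm h1.1 hr

/-- The conclusion of a valid certificate. -/
theorem IndexCert.Valid.index_eq {c : IndexCert} (h : c.Valid) {x : ℕ → G}
    (hx : ∀ g, x g * x g = 1) (hgen : Subgroup.closure (x '' {g | g < c.step.k}) = ⊤)
    (hrel : ∀ r ∈ c.R0, wordVal x r = 1) (f : G →* Equiv.Perm (Fin c.step.n))
    (hf : ∀ g < c.step.k, f (x g) = tperm c.step.P c.step.k c.step.n g) {K : Subgroup G}
    (hK : K = Subgroup.closure ((wordVal x) '' {u | u ∈ c.step.U})) :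
    K.index = c.step.n ∧ ∃ Φ : G ⧸ K → Fin c.step.n, Function.Bijective Φ ∧
      (∀ (a : G) (q : G ⧸ K), Φ (a • q) = f a (Φ q)) ∧
      (Φ ((1 : G) : G ⧸ K)).1 = 0 := by
  have h1 := h.pos
  simp only [Bool.and_eq_true, Nat.ble_eq] at h1
  obtain ⟨hk, hS⟩ := h1
  have hS := beqW_eq hS
  have hn : 0 < c.step.n := by
    have h2 := h.valid.pos
    rw [Bool.and_eq_true, Nat.blt_eq] at h2
    exact h2.1
  let q₀ : G ⧸ K := ((1 : G) : G ⧸ K)
  have hU : ∀ r ∈ c.step.U, act x r q₀ = q₀ := by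
    intro r hr
    rw [act_eq_smul]
    show ((wordVal x r * 1 : G) : G ⧸ K) = ((1 : G) : G ⧸ K)
    rw [QuotientGroup.eq, mul_one, mul_one, inv_mem_iff, hK]
    exact Subgroup.subset_closure ⟨r, hr, rfl⟩
  obtain ⟨hfin, hcard⟩ := cert_bound hx
    (fun r hr q => by rw [act_eq_smul, shift_eq_one hx h.valid.shifts hrel r hr, one_smul]) q₀ hU
    (List.all_eq_true.2 fun g hg => by
      rw [List.mem_range] at hg; rw [Nat.blt_eq]; omega)
    (by rw [Nat.blt_eq]; exact hn) h.valid.defs h.valid.steps (hS ▸ h.valid.closed)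
  have hmem : ∀ q : G ⧸ K, ∃ a ∈ Subgroup.closure (x '' {g | g ∈ List.range c.step.k}),
      a • q₀ = q := by
    intro q
    obtain ⟨a, rfl⟩ := QuotientGroup.mk_surjective q
    refine ⟨a, by simp only [List.mem_range]; rw [hgen]; trivial, ?_⟩
    show ((a * 1 : G) : G ⧸ K) = _
    rw [mul_one]
  have hfin' : (Set.univ : Set (G ⧸ K)).Finite := hfin.subset fun q _ => by
    obtain ⟨a, ha, hq⟩ := hmem q
    exact ⟨⟨a, ha⟩, hq⟩
  have : Finite (G ⧸ K) := Set.finite_univ_iff.1 hfin'
  have hcard : Nat.card (G ⧸ K) ≤ c.step.n := by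
    refine le_trans ?_ hcard
    rw [← Set.ncard_univ]
    refine Set.ncard_le_ncard (fun q _ => ?_) hfin
    obtain ⟨a, ha, hq⟩ := hmem q
    exact ⟨⟨a, ha⟩, hq⟩
  have hfix : ∀ a ∈ K, f a ⟨0, hn⟩ = ⟨0, hn⟩ := by
    intro a ha
    rw [hK] at ha
    induction ha using Subgroup.closure_induction with
    | one => simp
    | mem y hy =>
      obtain ⟨u, hu, rfl⟩ := hy
      have h2 := List.all_eq_true.1 h.fix u hu
      rw [Bool.and_eq_true, List.all_eq_true, Nat.beq_eq] at h2
      have h3 : f (wordVal x u) = wordVal (tperm c.step.P c.step.k c.step.n) u := by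
        have : ∀ w : List ℕ, (∀ g ∈ w, g < c.step.k) →
            f (wordVal x w) = wordVal (tperm c.step.P c.step.k c.step.n) w := by
          intro w
          induction w with
          | nil => intro _; exact map_one f
          | cons g w ih =>
            intro hw
            have hg : g < c.step.k := hw g (by simp)
            rw [wordVal, wordVal, map_mul, ih fun a ha => hw a (by simp [ha])]
            congr 1
            rw [gen, gen, if_neg (by omega), if_neg (by omega), hf g hg]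
        exact this u fun g hg => by simpa [Nat.blt_eq] using h2.1 g hg
      rw [h3]
      exact Fin.ext (by
        rw [wordVal_tperm h.perm hk u fun g hg => by simpa [Nat.blt_eq] using h2.1 g hg]
        exact h2.2)
    | mul y z _ _ hy hz => rw [map_mul, Equiv.Perm.mul_apply, hz, hy]
    | inv y _ hy =>
      rw [map_inv]
      nth_rewrite 1 [← hy]
      simp
  let Φ : G ⧸ K → Fin c.step.n := fun q => Quotient.liftOn' q (fun a => f a ⟨0, hn⟩) (by
    intro a b hab
    rw [QuotientGroup.leftRel_apply] at hab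
    show f a _ = f b _
    rw [show b = a * (a⁻¹ * b) by group, map_mul, Equiv.Perm.mul_apply, hfix _ hab])
  have hsurj : Function.Surjective Φ := by
    intro j
    obtain ⟨a, -, ha⟩ := exists_smul_eq x f h.perm hf h.tree hn j.1 j.2
    exact ⟨((a : G) : G ⧸ K), ha⟩
  have hge : c.step.n ≤ Nat.card (G ⧸ K) := by
    simpa using Nat.card_le_card_of_surjective Φ hsurj
  refine ⟨le_antisymm hcard hge, Φ, ?_, ?_, ?_⟩
  · have hbij := (Nat.bijective_iff_surjective_and_card Φ).2
      ⟨hsurj, by rw [Nat.card_fin]; exact le_antisymm hcard hge⟩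
    exact hbij
  · intro a q
    obtain ⟨b, rfl⟩ := QuotientGroup.mk_surjective q
    show f (a * b) _ = f a (f b _)
    rw [map_mul, Equiv.Perm.mul_apply]
  · show (f 1 ⟨0, hn⟩).1 = 0
    simp

/-- A listed orbit of the table gives an orbit of the subgroup on its cosets. -/
theorem exists_orbit_ncard {n k c : ℕ} {Z O Pos : Tab} {R U : List (List ℕ)}
    (hp : permOK Z k n R n 0 = true) (hk : k ≤ eps) (ho : orbitOK Z O Pos k n c U c 0 = true)
    (hc : 0 < c) {x : ℕ → G} (f : G →* Equiv.Perm (Fin n))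
    (hf : ∀ g < k, f (x g) = tperm Z k n g) {K : Subgroup G}
    (hK : K = Subgroup.closure ((wordVal x) '' {u | u ∈ U}))
    {Φ : G ⧸ K → Fin n} (hΦ : Function.Bijective Φ)
    (heq : ∀ (a : G) (q : G ⧸ K), Φ (a • q) = f a (Φ q)) :
    ∃ q : G ⧸ K, (MulAction.orbit K q).ncard = c ∧ (Φ q).1 = O.getP 0 / B / B ∧
      ∀ q' ∈ MulAction.orbit K q, Pos.getP (Φ q').1 < c := by
  obtain ⟨p, hp0, hp', hmem⟩ := orbit_eq x f hp hk hf ho hc
  obtain ⟨q, rfl⟩ := hΦ.2 p
  refine ⟨q, ?_, hp0, ?_⟩
  swap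
  · rintro _ ⟨⟨a, ha⟩, rfl⟩
    show Pos.getP (Φ (a • q)).1 < c
    rw [heq]
    exact hmem a (hK ▸ ha)
  rw [← Set.ncard_image_of_injective _ hΦ.1]
  convert hp' using 2
  ext z
  constructor
  · rintro ⟨_, ⟨⟨a, ha⟩, rfl⟩, rfl⟩
    exact ⟨a, hK ▸ ha, (heq a q).symm⟩
  · rintro ⟨a, ha, rfl⟩
    exact ⟨_, ⟨⟨a, hK.symm ▸ ha⟩, rfl⟩, heq a q⟩

end Cfsg.Lib.CosetEnum
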