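import Cfsg.Agent.Lib.CosetEnum.Defs

/-!
# Certificates that a word is trivial: the checks
-/

set_option autoImplicit false

namespace Cfsg.Lib.CosetEnum

/-- A certificate that a word is trivial. -/
structure LoopCert where
  /-- Relator shifts used by the steps. -/
  R : List (List Nat)
  /-- Facts. -/
  F : Tab
  /-- Steps. -/
  C : Tab
  /-- Number of node definitions. -/
  d : Nat
  /-- Number of steps. -/
  e : Nat
  /-- The word. -/
  word : List Nat
  /-- The facts read along the word from the base node. -/
  loop : List Nat

/-- The checks on a loop certificate, apart from the shifts. -/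
noncomputable def loopOK (c : LoopCert) : Bool :=
  defsOK c.F c.d 0 && stepsOK c.R [] c.F c.C c.d c.e 0 &&
    match walk c.F (c.d + c.e) c.loop 0 with
    | some (v, w) => Nat.beq v 0 && beqW w c.word
    | none => false

end Cfsg.Lib.CosetEnum
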