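import Cfsg.Agent.Lib.CosetEnum.Simple
import Cfsg.Agent.Lib.CosetEnum.Loop

/-!
# Loop certificates and simplicity from several suborbits
-/

set_option autoImplicit false

namespace Cfsg.Lib.CosetEnum

/-- The word of a valid loop certificate is trivial. -/
theorem LoopCert.eq_one {G : Type*} [Group G] {c : LoopCert} {R0 : List (List ℕ)}
    (hs : shiftsOK R0 c.R = true) (h : loopOK c = true) {x : ℕ → G}
    (hx : ∀ g, x g * x g = 1) (hrel : ∀ r ∈ R0, wordVal x r = 1) : wordVal x c.word = 1 := by
  simp only [loopOK, Bool.and_eq_true] at h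
  obtain ⟨⟨hd, hsteps⟩, hloop⟩ := h
  split at hloop
  · next v w heq =>
    rw [Bool.and_eq_true, Nat.beq_eq] at hloop
    obtain ⟨hv, hw⟩ := hloop
    obtain ⟨φ, h0, hφ⟩ := exists_labelling x ((1 : G) : G ⧸ (⊥ : Subgroup G)) (F := c.F) (d := c.d)
      fun i hi => defsOK_get hd i (Nat.zero_le _) (by omega)
    have hF := stepsOK_sound hx (R := c.R) (U := []) (φ := φ)
      (fun r hr q => by rw [act_eq_smul, shift_eq_one hx hs hrel r hr, one_smul])
      (by simp) hsteps (j := 0) hφ
    simp only [Nat.add_zero] at hF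
    have := walk_sound hx hF heq
    rw [hv, beqW_eq hw, h0, act_eq_smul] at this
    have h1 : ((wordVal x c.word * 1 : G) : G ⧸ (⊥ : Subgroup G)) = ((1 : G) : G ⧸ (⊥ : Subgroup G)) :=
      this
    rw [QuotientGroup.eq, Subgroup.mem_bot, mul_one, mul_one, inv_eq_one] at h1
    exact h1
  · simp at hloop

/-- A set containing the fixed point, invariant under a group with the listed orbits, has as size
one plus the sum of some of them. -/
theorem exists_sublist_ncard {H α : Type*} [Group H] [MulAction H α] [Finite α] {a : α}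
    {Δ : Set α} (haΔ : a ∈ Δ)
    (hΔ : ∀ h : H, ∀ d ∈ Δ, h • d ∈ Δ) :
    ∀ {reps : List α}, (∀ z, z ∈ ({a} : Set α) ∨ ∃ r ∈ reps, z ∈ MulAction.orbit H r) →
      (∀ r ∈ reps, a ∉ MulAction.orbit H r) →
      reps.Pairwise (fun r s => s ∉ MulAction.orbit H r) →
      ∃ l : List α, l.Sublist reps ∧
        Δ.ncard = 1 + (l.map fun r => (MulAction.orbit H r).ncard).sum := by
  intro reps hcover hne hpair
  classical
  refine ⟨reps.filter fun r => r ∈ Δ, List.filter_sublist, ?_⟩
  have hin : ∀ z ∈ Δ, MulAction.orbit H z ⊆ Δ := by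
    rintro z hz _ ⟨h, rfl⟩
    exact hΔ h z hz
  have heq : Δ = {a} ∪ ⋃ r ∈ (reps.filter fun r => r ∈ Δ).toFinset, MulAction.orbit H r := by
    ext z
    simp only [List.mem_toFinset, List.mem_filter, decide_eq_true_eq, Set.mem_union,
      Set.mem_iUnion, exists_prop]
    constructor
    · intro hz
      rcases hcover z with h | ⟨r, hr, hzr⟩
      · exact Or.inl h
      · exact Or.inr ⟨r, ⟨hr, hin z hz (MulAction.orbit_eq_iff.2 hzr ▸ MulAction.mem_orbit_self r)⟩,
          hzr⟩
    · rintro (h | ⟨r, ⟨-, hr⟩, hzr⟩)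
      · rw [Set.mem_singleton_iff.1 h]; exact haΔ
      · exact hin r hr hzr
  have hpair' := hpair.filter fun r => decide (r ∈ Δ)
  have hnodup : (reps.filter fun r => r ∈ Δ).Nodup :=
    hpair'.imp fun {u v} h he => h (by rw [he]; exact MulAction.mem_orbit_self _)
  conv_lhs => rw [heq]
  rw [Set.ncard_union_eq, Set.ncard_singleton]
  · congr 1
    rw [← List.sum_toFinset _ hnodup]
    have hd : Set.PairwiseDisjoint ((reps.filter fun r => r ∈ Δ).toFinset : Set α)
        (fun r => MulAction.orbit H r) := by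
      intro r hr s hs hrs
      simp only [Finset.mem_coe, List.mem_toFinset] at hr hs
      rw [Function.onFun, Set.disjoint_left]
      intro z hzr hzs
      have h1 : MulAction.orbit H r = MulAction.orbit H s :=
        (MulAction.orbit_eq_iff.2 hzr).symm.trans (MulAction.orbit_eq_iff.2 hzs)
      let h' : α → α → Prop := fun r s => s ∉ MulAction.orbit H r ∧ r ∉ MulAction.orbit H s
      have hs' : (reps.filter fun r => r ∈ Δ).Pairwise h' := hpair'.imp fun {u v} huv =>
        ⟨huv, fun hu => huv (MulAction.orbit_eq_iff.2 hu ▸ MulAction.mem_orbit_self v)⟩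
      have : Std.Symm h' := ⟨fun _ _ huv => ⟨huv.2, huv.1⟩⟩
      exact (hs'.forall hr hs hrs).1
        (h1 ▸ MulAction.mem_orbit_self s)
    exact Set.Finite.ncard_biUnion (Finset.finite_toSet _) (fun _ _ => Set.toFinite _) hd
      |>.trans (finsum_mem_coe_finset _ _)
  · rw [Set.disjoint_singleton_left]
    simp only [List.mem_toFinset, List.mem_filter, decide_eq_true_eq, Set.mem_iUnion, exists_prop]
    rintro ⟨r, ⟨hr, -⟩, hzr⟩
    exact hne r hr hzr

/-- A list of orbits with the right total covers everything. -/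
theorem cover_of_sum {H α : Type*} [Group H] [MulAction H α] [Finite α] {a : α} {reps : List α}
    (hne : ∀ r ∈ reps, a ∉ MulAction.orbit H r)
    (hpair : reps.Pairwise (fun r s => s ∉ MulAction.orbit H r))
    (hsum : 1 + (reps.map fun r => (MulAction.orbit H r).ncard).sum = Nat.card α) :
    ∀ z, z ∈ ({a} : Set α) ∨ ∃ r ∈ reps, z ∈ MulAction.orbit H r := by
  have key : ∀ {l : List α}, (∀ r ∈ l, a ∉ MulAction.orbit H r) →
      l.Pairwise (fun r s => s ∉ MulAction.orbit H r) →
      ({z | z ∈ ({a} : Set α) ∨ ∃ r ∈ l, z ∈ MulAction.orbit H r}).ncard =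
        1 + (l.map fun r => (MulAction.orbit H r).ncard).sum := by
    intro l
    induction l with
    | nil => intro _ _; simp
    | cons r l ih =>
      intro h1 h2
      rw [List.pairwise_cons] at h2
      have : {z | z ∈ ({a} : Set α) ∨ ∃ s ∈ r :: l, z ∈ MulAction.orbit H s} =
          {z | z ∈ ({a} : Set α) ∨ ∃ s ∈ l, z ∈ MulAction.orbit H s} ∪ MulAction.orbit H r := by
        ext z
        simp only [List.mem_cons, exists_eq_or_imp, Set.mem_union, Set.mem_ofPred_eq]
        constructor
        · rintro (h | h | h)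
          exacts [Or.inl (Or.inl h), Or.inr h, Or.inl (Or.inr h)]
        · rintro ((h | h) | h)
          exacts [Or.inl h, Or.inr (Or.inr h), Or.inr (Or.inl h)]
      rw [this, Set.ncard_union_eq, ih (fun s hs => h1 s (by simp [hs])) h2.2, List.map_cons,
        List.sum_cons]
      · omega
      · rw [Set.disjoint_left]
        rintro z (hz | ⟨s, hs, hzs⟩) hzr
        · exact h1 r (by simp) (Set.mem_singleton_iff.1 hz ▸ hzr)
        · apply h2.1 s hs
          rw [← MulAction.orbit_eq_iff.2 hzr, MulAction.orbit_eq_iff.2 hzs]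
          exact MulAction.mem_orbit_self s
  intro z
  by_contra hz
  have h1 := Set.ncard_lt_card (s := {z | z ∈ ({a} : Set α) ∨ ∃ r ∈ reps, z ∈ MulAction.orbit H r})
    (fun he => hz (he ▸ Set.mem_univ z : z ∈ {z | z ∈ ({a} : Set α) ∨ ∃ r ∈ reps, z ∈ MulAction.orbit H r}))
  rw [key hne hpair, hsum] at h1
  exact lt_irrefl _ h1

/-- The simplicity criterion for a faithful primitive action given by its suborbits. -/
theorem isSimple_of_suborbits {G : Type*} [Group G] [Finite G] [Nontrivial G] (K : Subgroup G)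
    [FaithfulSMul G (G ⧸ K)] {reps : List (G ⧸ K)} {sizes : List ℕ}
    (hsize : reps.map (fun r => (MulAction.orbit K r).ncard) = sizes)
    (hne : ∀ r ∈ reps, ((1 : G) : G ⧸ K) ∉ MulAction.orbit K r)
    (hpair : reps.Pairwise (fun r s => s ∉ MulAction.orbit K r))
    (htot : 1 + sizes.sum = K.index)
    (hprim : (sizes.sublists.all fun l =>
      !(K.index % (1 + l.sum) == 0) || l.sum == 0 || l.sum == sizes.sum) = true)
    {p e : ℕ} (hp : p.Prime) (hpK : p ^ e ∣ K.index) (hpG : ¬ p ^ (e + 1) ∣ Nat.card G)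
    {w : G} (hw : w ^ p = 1)
    (hkill : ∀ N : Subgroup G, N.Normal → w ∈ N → N = ⊤) : IsSimpleGroup G := by
  refine isSimple_of_forall_normal fun N hN hne' => hkill N hN ?_
  have hcard : Nat.card (G ⧸ K) = K.index := (Subgroup.index_eq_card K).symm
  have hfix : ∀ k : K, k • ((1 : G) : G ⧸ K) = ((1 : G) : G ⧸ K) := by
    intro k
    show (((k : G) * 1 : G) : G ⧸ K) = _
    rw [QuotientGroup.eq]
    simp
  have horb : MulAction.orbit N ((1 : G) : G ⧸ K) = Set.univ := by
    refine normal_transitive _ N hne' ?_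
    intro Δ haΔ hinv hdvd
    obtain ⟨l, hl, hΔ⟩ := exists_sublist_ncard (H := K) haΔ
      (fun k d hd => hinv (k : G) (by rw [MulAction.mem_stabilizer_iff]; exact hfix k) d hd)
      (cover_of_sum hne hpair (by rw [hsize, htot, hcard])) hne hpair
    rw [hcard, hΔ] at hdvd
    have h1 := List.all_eq_true.1 hprim (l.map fun r => (MulAction.orbit K r).ncard)
      (List.mem_sublists.2 (hsize ▸ hl.map _))
    simp only [Bool.or_eq_true, Bool.not_eq_true', beq_eq_false_iff_ne, ne_eq, beq_iff_eq] at h1
    rcases h1 with (h1 | h1) | h1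
    · exact absurd (Nat.mod_eq_zero_of_dvd hdvd) h1
    · left
      rw [h1] at hΔ
      obtain ⟨z, hz⟩ := Set.ncard_eq_one.1 hΔ
      rw [hz] at haΔ ⊢
      rw [Set.mem_singleton_iff.1 haΔ]
    · right
      exact Set.eq_of_subset_of_ncard_le (Set.subset_univ _)
        (by rw [Set.ncard_univ, hcard, hΔ, h1, htot]) (Set.toFinite _)
  refine mem_of_coprime_index hw ?_
  rw [Nat.coprime_comm, hp.coprime_iff_not_dvd]
  intro hdvd
  apply hpG
  have hN : K.index ∣ Nat.card N := by
    rw [← hcard, ← Set.ncard_univ, ← horb, ← MulAction.index_stabilizer]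
    exact Subgroup.index_dvd_card _
  rw [← Subgroup.card_mul_index N, pow_succ]
  exact mul_dvd_mul (hpK.trans hN) hdvd

end Cfsg.Lib.CosetEnum
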