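import Cfsg.Agent.Lib.CosetEnum.Index
import Cfsg.Prelude.Def_SporCoxeter

/-!
# Groups presented on a graph of involutions
-/

set_option autoImplicit false

namespace Cfsg.Lib.CosetEnum

open Cfsg.Spor

/-- A numbering of the nodes of a graph presentation. -/
structure Numbering (α : Type) [DecidableEq α] (edges : List (α × ℕ × α)) where
  /-- The number of a node. -/
  num : α → ℕ
  /-- The node with a number. -/
  letter : ℕ → α
  /-- The number of nodes. -/
  k : ℕ
  num_lt : ∀ a, num a < k
  letter_num : ∀ a, letter (num a) = a
  num_letter : ∀ g < k, num (letter g) = g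
  mem : ∀ a, a ∈ coxNodes edges

variable {α : Type} [DecidableEq α] {edges : List (α × ℕ × α)}

/-- The relator words of the graph (letters in action order). -/
def Numbering.pairs (N : Numbering α edges) : List (List ℕ) :=
  (List.range N.k).flatMap fun a => (List.range N.k).map fun b =>
    (List.replicate (coxLabel edges (N.letter a) (N.letter b)) [b, a]).flatten

theorem wordVal_replicate {M : Type*} [Group M] (y : ℕ → M) (a b : ℕ) (ha : a ≠ eps)
    (hb : b ≠ eps) : ∀ m : ℕ,
      wordVal y (List.replicate m [b, a]).flatten = (y a * y b) ^ m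
  | 0 => by simp [wordVal]
  | m + 1 => by
    rw [List.replicate_succ, List.flatten_cons, wordVal_append,
      wordVal_replicate y a b ha hb m, pow_succ]
    simp [wordVal, gen, ha, hb]

/-- The relators hold for a map of the generators if their words do. -/
theorem Numbering.lift_eq_one (N : Numbering α edges) (hk : N.k ≤ eps) {M : Type*} [Group M]
    (y : ℕ → M) {extra : List (FreeGroup α)} {E : List (List ℕ)}
    (hE : extra.map (FreeGroup.lift fun a => y (N.num a)) = E.map (wordVal y))
    (h : ∀ r ∈ N.pairs ++ E, wordVal y r = 1) :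
    ∀ r ∈ coxRelators edges ∪ {r | r ∈ extra},
      FreeGroup.lift (fun a => y (N.num a)) r = 1 := by
  rintro r (⟨a, -, b, -, rfl⟩ | hr)
  · have ha := N.num_lt a
    have hb := N.num_lt b
    have hmem : (List.replicate (coxLabel edges a b) [N.num b, N.num a]).flatten ∈ N.pairs := by
      simp only [Numbering.pairs, List.mem_flatMap, List.mem_map, List.mem_range]
      exact ⟨N.num a, ha, N.num b, hb, by rw [N.letter_num, N.letter_num]⟩
    have := h _ (List.mem_append_left _ hmem)
    rw [wordVal_replicate y _ _ (by omega) (by omega)] at this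
    simpa using this
  · have hr' : FreeGroup.lift (fun a => y (N.num a)) r ∈
        extra.map (FreeGroup.lift fun a => y (N.num a)) := List.mem_map_of_mem hr
    rw [hE, List.mem_map] at hr'
    obtain ⟨w, hw, hwr⟩ := hr'
    rw [← hwr]
    exact h w (List.mem_append_right _ hw)

/-- The images of the generators in the presented group. -/
def Numbering.gens (N : Numbering α edges) (extra : List (FreeGroup α)) (g : ℕ) :
    CoxPresented α edges extra :=
  if g < N.k then PresentedGroup.of (N.letter g) else 1

theorem Numbering.gens_num (N : Numbering α edges) (extra : List (FreeGroup α)) (a : α) :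
    N.gens extra (N.num a) = PresentedGroup.of a := by
  rw [Numbering.gens, if_pos (N.num_lt a), N.letter_num]

theorem coxLabel_self (a : α) : coxLabel edges a a = 1 := by simp [coxLabel]

theorem Numbering.gens_mul_self (N : Numbering α edges) (extra : List (FreeGroup α)) (g : ℕ) :
    N.gens extra g * N.gens extra g = 1 := by
  unfold Numbering.gens
  split
  · have h : (FreeGroup.of (N.letter g) * FreeGroup.of (N.letter g)) ^
        coxLabel edges (N.letter g) (N.letter g) ∈
          coxRelators edges ∪ {r | r ∈ extra} :=
      Or.inl ⟨_, N.mem _, _, N.mem _, rfl⟩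
    have := PresentedGroup.one_of_mem h
    rwa [coxLabel_self, pow_one, map_mul] at this
  · exact one_mul 1

theorem Numbering.lift_gens (N : Numbering α edges) (extra : List (FreeGroup α)) :
    (FreeGroup.lift fun a => N.gens extra (N.num a)) =
      PresentedGroup.mk (coxRelators edges ∪ {r | r ∈ extra}) := by
  ext a
  rw [FreeGroup.lift_apply_of, N.gens_num]
  rfl

/-- The relator words hold in the presented group. -/
theorem Numbering.wordVal_gens (N : Numbering α edges) (hk : N.k ≤ eps)
    {extra : List (FreeGroup α)} {E : List (List ℕ)}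
    (hE : extra.map (FreeGroup.lift fun a => N.gens extra (N.num a)) =
      E.map (wordVal (N.gens extra))) :
    ∀ r ∈ N.pairs ++ E, wordVal (N.gens extra) r = 1 := by
  intro r hr
  rcases List.mem_append.1 hr with hr | hr
  · simp only [Numbering.pairs, List.mem_flatMap, List.mem_map, List.mem_range] at hr
    obtain ⟨a, ha, b, hb, rfl⟩ := hr
    rw [wordVal_replicate _ _ _ (by omega) (by omega), Numbering.gens, Numbering.gens,
      if_pos ha, if_pos hb]
    have h : (FreeGroup.of (N.letter a) * FreeGroup.of (N.letter b)) ^
        coxLabel edges (N.letter a) (N.letter b) ∈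
          coxRelators edges ∪ {r | r ∈ extra} :=
      Or.inl ⟨_, N.mem _, _, N.mem _, rfl⟩
    have := PresentedGroup.one_of_mem h
    rwa [map_pow, map_mul] at this
  · have h1 : wordVal (N.gens extra) r ∈ E.map (wordVal (N.gens extra)) := List.mem_map_of_mem hr
    rw [← hE, List.mem_map] at h1
    obtain ⟨w, hw, hwr⟩ := h1
    rw [← hwr, N.lift_gens]
    exact PresentedGroup.one_of_mem (Or.inr hw)

/-- The generators generate. -/
theorem Numbering.closure_gens (N : Numbering α edges) (extra : List (FreeGroup α)) :
    Subgroup.closure (N.gens extra '' {g | g < N.k}) = ⊤ := by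
  refine top_le_iff.1 ?_
  rw [← PresentedGroup.closure_range_of (coxRelators edges ∪ {r | r ∈ extra})]
  refine Subgroup.closure_mono ?_
  rintro _ ⟨a, rfl⟩
  exact ⟨N.num a, N.num_lt a, N.gens_num extra a⟩

/-- The action on the table of a certificate. -/
theorem Numbering.exists_hom (N : Numbering α edges) (hk : N.k ≤ eps)
    (extra : List (FreeGroup α)) {E : List (List ℕ)} {c : IndexCert} (hc : c.Valid)
    (hR : c.R0 = N.pairs ++ E) (hck : c.step.k = N.k)
    (hE : extra.map (FreeGroup.lift fun a => tperm c.step.P c.step.k c.step.n (N.num a)) =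
      E.map (wordVal (tperm c.step.P c.step.k c.step.n))) :
    ∃ f : CoxPresented α edges extra →* Equiv.Perm (Fin c.step.n),
      ∀ g < c.step.k, f (N.gens extra g) = tperm c.step.P c.step.k c.step.n g := by
  have h := N.lift_eq_one hk (tperm c.step.P c.step.k c.step.n) hE (hR ▸ hc.tperm_rel)
  refine ⟨PresentedGroup.toGroup h, fun g hg => ?_⟩
  rw [Numbering.gens, if_pos (by omega), PresentedGroup.toGroup.of, N.num_letter g (by omega)]

/-- A subgroup given by words as the closure of their values. -/
theorem Numbering.map_closure (N : Numbering α edges) (extra : List (FreeGroup α))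
    {Us : List (FreeGroup α)} {U : List (List ℕ)}
    (hU : Us.map (FreeGroup.lift fun a => N.gens extra (N.num a)) =
      U.map (wordVal (N.gens extra))) {s : Set (FreeGroup α)} (hs : s = {w | w ∈ Us}) :
    (Subgroup.closure s).map (PresentedGroup.mk (coxRelators edges ∪ {r | r ∈ extra})) =
      Subgroup.closure (wordVal (N.gens extra) '' {u | u ∈ U}) := by
  rw [MonoidHom.map_closure, ← N.lift_gens extra, hs]
  congr 1
  ext z
  constructor
  · rintro ⟨w, hw, rfl⟩
    have h1 : FreeGroup.lift (fun a => N.gens extra (N.num a)) w ∈
        Us.map (FreeGroup.lift fun a => N.gens extra (N.num a)) := List.mem_map_of_mem hw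
    rw [hU, List.mem_map] at h1
    obtain ⟨u, hu, hu'⟩ := h1
    exact ⟨u, hu, hu'⟩
  · rintro ⟨u, hu, rfl⟩
    have h1 : wordVal (N.gens extra) u ∈ U.map (wordVal (N.gens extra)) := List.mem_map_of_mem hu
    rw [← hU, List.mem_map] at h1
    obtain ⟨w, hw, hw'⟩ := h1
    exact ⟨w, hw, hw'⟩

end Cfsg.Lib.CosetEnum
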