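import Cfsg.Agent.Lib.CosetEnum.Pres

/-!
# Orders of presented groups and simplicity
-/

set_option autoImplicit false

namespace Cfsg.Lib.CosetEnum

variable {G : Type*} [Group G]

theorem StepCert.Valid.orbit_le {c : StepCert} {R0 : List (List ℕ)} (h : c.Valid R0)
    {x : ℕ → G} (hx : ∀ g, x g * x g = 1) (hrel : ∀ r ∈ R0, wordVal x r = 1) {K : Subgroup G}
    (hK : ∀ u ∈ c.U, wordVal x u ∈ K) :
    (MulAction.orbit (Subgroup.closure (x '' {g | g ∈ c.S})) ((1 : G) : G ⧸ K)).Finite ∧
      (MulAction.orbit (Subgroup.closure (x '' {g | g ∈ c.S})) ((1 : G) : G ⧸ K)).ncard ≤ c.n := by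
  have h1 := h.pos
  rw [Bool.and_eq_true, Nat.blt_eq] at h1
  refine cert_bound hx (fun r hr q => ?_) _ (fun r hr => ?_) h1.2 (by rw [Nat.blt_eq]; exact h1.1)
    h.defs h.steps h.closed
  · rw [act_eq_smul, shift_eq_one hx h.shifts hrel r hr, one_smul]
  · rw [act_eq_smul]
    show ((wordVal x r * 1 : G) : G ⧸ K) = ((1 : G) : G ⧸ K)
    rw [QuotientGroup.eq, mul_one, mul_one, inv_mem_iff]
    exact hK r hr

/-- One step of the upper bound on the order. -/
theorem StepCert.Valid.card_le {c : StepCert} {R0 : List (List ℕ)} (h : c.Valid R0)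
    {x : ℕ → G} (hx : ∀ g, x g * x g = 1) (hrel : ∀ r ∈ R0, wordVal x r = 1) {K : Subgroup G}
    (hK : ∀ u ∈ c.U, wordVal x u ∈ K) {m : ℕ} (hfin : Finite K) (hm : Nat.card K ≤ m) :
    Finite (Subgroup.closure (x '' {g | g ∈ c.S})) ∧
      Nat.card (Subgroup.closure (x '' {g | g ∈ c.S})) ≤ c.n * m := by
  obtain ⟨hf, hn⟩ := h.orbit_le hx hrel hK
  set H := Subgroup.closure (x '' {g | g ∈ c.S}) with hH
  have hidx : (MulAction.stabilizer H ((1 : G) : G ⧸ K)).index =
      (MulAction.orbit H ((1 : G) : G ⧸ K)).ncard := MulAction.index_stabilizer _ _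
  have hstab : ∀ a : MulAction.stabilizer H ((1 : G) : G ⧸ K), ((a : H) : G) ∈ K := by
    intro a
    have ha : ((((a : H) : G) * 1 : G) : G ⧸ K) = ((1 : G) : G ⧸ K) := a.2
    rw [QuotientGroup.eq, mul_one, mul_one, inv_mem_iff] at ha
    exact ha
  let ι : MulAction.stabilizer H ((1 : G) : G ⧸ K) → K := fun a => ⟨_, hstab a⟩
  have hι : Function.Injective ι := by
    intro a b hab
    exact Subtype.ext (Subtype.ext (congrArg (fun z : K => (z : G)) hab))
  have : Finite (MulAction.stabilizer H ((1 : G) : G ⧸ K)) := Finite.of_injective ι hι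
  have hpos : (MulAction.stabilizer H ((1 : G) : G ⧸ K)).index ≠ 0 := by
    rw [hidx]
    exact ((Set.ncard_pos hf).2 ⟨_, MulAction.mem_orbit_self _⟩).ne'
  have hmul := Subgroup.card_mul_index (MulAction.stabilizer H ((1 : G) : G ⧸ K))
  refine ⟨Nat.finite_of_card_ne_zero ?_, ?_⟩
  · rw [← hmul]
    exact mul_ne_zero Nat.card_pos.ne' hpos
  · rw [← hmul, hidx, mul_comm c.n]
    exact Nat.mul_le_mul ((Nat.card_le_card_of_injective ι hι).trans hm) hn

/-- The checks on a base. -/
def BaseOK (Z : Tab) (k n : ℕ) : List BaseLevel → Prop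
  | [] => True
  | L :: Ls => nestOK Z k L ((Ls.head?.map BaseLevel.U).getD []) = true ∧
      orbitOK Z L.O L.Pos k n L.c L.U L.c 0 = true ∧ BaseOK Z k n Ls

/-- The product of the orbit lengths. -/
def baseSize : List BaseLevel → ℕ
  | [] => 1
  | L :: Ls => L.c * baseSize Ls

variable {n : ℕ}

theorem base_le (x : ℕ → G) (f : G →* Equiv.Perm (Fin n)) {Z : Tab} {k : ℕ} {R : List (List ℕ)}
    (h : permOK Z k n R n 0 = true) (hk : k ≤ eps) (hf : ∀ g < k, f (x g) = tperm Z k n g) :
    ∀ {Ls : List BaseLevel}, BaseOK Z k n Ls →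
      baseSize Ls ≤ Nat.card ((Subgroup.closure
        ((wordVal x) '' {u | u ∈ (Ls.head?.map BaseLevel.U).getD []})).map f)
  | [], _ => Nat.card_pos
  | L :: Ls, ⟨hnest, horb, hrest⟩ => by
    have ih := base_le x f h hk hf hrest
    simp only [List.head?_cons, Option.map_some, Option.getD_some]
    set A := (Subgroup.closure ((wordVal x) '' {u | u ∈ L.U})).map f
    set A' := (Subgroup.closure
      ((wordVal x) '' {u | u ∈ (Ls.head?.map BaseLevel.U).getD []})).map f
    simp only [nestOK, force_eq, Bool.and_eq_true, Nat.blt_eq, List.all_eq_true] at hnest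
    obtain ⟨p, hp, hcard, -⟩ := orbit_eq x f h hk hf horb hnest.1
    have hA' : A' ≤ A ⊓ MulAction.stabilizer (Equiv.Perm (Fin n)) p := by
      rw [Subgroup.map_le_iff_le_comap, Subgroup.closure_le]
      rintro _ ⟨u, hu, rfl⟩
      have hu' := hnest.2 u hu
      simp only [Bool.and_eq_true, List.all_eq_true, Nat.blt_eq, Nat.beq_eq,
        List.any_eq_true, and_assoc] at hu'
      obtain ⟨hlt, hfix, v, hv, hvu⟩ := hu'
      refine ⟨⟨_, Subgroup.subset_closure ⟨u, beqW_eq hvu ▸ hv, rfl⟩, rfl⟩, ?_⟩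
      show f (wordVal x u) p = p
      have : ∀ w : List ℕ, (∀ g ∈ w, g < k) →
          f (wordVal x w) = wordVal (tperm Z k n) w := by
        intro w
        induction w with
        | nil => intro _; exact map_one f
        | cons g w ih =>
          intro hw
          have hg : g < k := hw g (by simp)
          rw [wordVal, wordVal, map_mul, ih fun a ha => hw a (by simp [ha])]
          congr 1
          rw [gen, gen, if_neg (by omega), if_neg (by omega), hf g hg]
      rw [this u hlt]
      exact Fin.ext (by rw [wordVal_tperm h hk u hlt, hp]; exact hfix)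
    have horbA : (MulAction.orbit A p).ncard = L.c := by
      rw [← hcard]
      congr 1
      ext z
      constructor
      · rintro ⟨⟨_, a, ha, rfl⟩, rfl⟩
        exact ⟨a, ha, rfl⟩
      · rintro ⟨a, ha, rfl⟩
        exact ⟨⟨f a, a, ha, rfl⟩, rfl⟩
    let ι : A' → MulAction.stabilizer A p := fun a =>
      ⟨⟨a, (hA' a.2).1⟩, (hA' a.2).2⟩
    have hι : Function.Injective ι := fun a b hab =>
      Subtype.ext (congrArg (fun z : MulAction.stabilizer A p => ((z : A) : Equiv.Perm (Fin n))) hab)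
    have hmul := Subgroup.card_mul_index (MulAction.stabilizer A p)
    rw [MulAction.index_stabilizer, horbA] at hmul
    show L.c * baseSize Ls ≤ _
    rw [← hmul, mul_comm]
    exact Nat.mul_le_mul (ih.trans (Nat.card_le_card_of_injective ι hι)) le_rfl

/-- A finite group whose order is at most a base product acts faithfully with exactly that order. -/
theorem card_eq_of_base [Finite G] (x : ℕ → G) (f : G →* Equiv.Perm (Fin n)) {Z : Tab} {k : ℕ}
    {R : List (List ℕ)} (h : permOK Z k n R n 0 = true) (hk : k ≤ eps)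
    (hf : ∀ g < k, f (x g) = tperm Z k n g) {Ls : List BaseLevel} (hb : BaseOK Z k n Ls)
    (hle : Nat.card G ≤ baseSize Ls) :
    Nat.card G = baseSize Ls ∧ Function.Injective f := by
  have h1 := base_le x f h hk hf hb
  have h2 : ∀ A : Subgroup G, Nat.card (A.map f) ≤ Nat.card f.range := fun A => by
    refine Subgroup.card_le_of_le ?_
    rintro _ ⟨a, -, rfl⟩
    exact ⟨a, rfl⟩
  have hs : Function.Surjective f.rangeRestrict := f.rangeRestrict_surjective
  have h3 : Nat.card f.range ≤ Nat.card G := Nat.card_le_card_of_surjective _ hs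
  have h4 : baseSize Ls ≤ Nat.card f.range := h1.trans (h2 _)
  refine ⟨le_antisymm hle (h4.trans h3), ?_⟩
  have hbij := (Nat.bijective_iff_surjective_and_card f.rangeRestrict).2
    ⟨hs, le_antisymm (hle.trans h4) h3⟩
  exact fun a b hab => hbij.1 (Subtype.ext hab)

/-- A group all of whose nontrivial normal subgroups contain every solution of a killing set is
simple. -/
theorem isSimple_of_forall_normal [Nontrivial G]
    (h : ∀ N : Subgroup G, N.Normal → N ≠ ⊥ → N = ⊤) : IsSimpleGroup G :=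
  ⟨fun N hN => (em (N = ⊥)).imp id (h N hN)⟩

/-- A normal subgroup of a faithful primitive group is transitive. -/
theorem normal_transitive {G α : Type*} [Group G] [MulAction G α] [FaithfulSMul G α]
    [MulAction.IsPretransitive G α] (a : α) (N : Subgroup G) [N.Normal] (hN : N ≠ ⊥)
    (hsum : ∀ Δ : Set α, a ∈ Δ → (∀ g ∈ MulAction.stabilizer G a, ∀ b ∈ Δ, g • b ∈ Δ) →
      Δ.ncard ∣ Nat.card α → Δ = {a} ∨ Δ = Set.univ) :
    MulAction.orbit N a = Set.univ := by
  have hblock : MulAction.IsBlock G (MulAction.orbit N a) := MulAction.IsBlock.orbit_of_normal a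
  rcases hsum _ (MulAction.mem_orbit_self a) (fun g hg b hb => by
      obtain ⟨⟨c, hc⟩, rfl⟩ := hb
      refine ⟨⟨g * c * g⁻¹, Subgroup.Normal.conj_mem ‹_› c hc g⟩, ?_⟩
      show (g * c * g⁻¹) • a = g • c • a
      rw [MulAction.mem_stabilizer_iff] at hg
      conv_lhs => rw [← hg, smul_smul, inv_mul_cancel_right, mul_smul])
    (hblock.ncard_dvd_card ⟨a, MulAction.mem_orbit_self a⟩) with h | h
  · exfalso
    refine hN ((Subgroup.eq_bot_iff_forall N).2 fun c hc => ?_)
    refine eq_of_smul_eq_smul (α := α) fun b => ?_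
    obtain ⟨g, rfl⟩ := MulAction.exists_smul_eq G a b
    rw [one_smul]
    have h1 : (g⁻¹ * c * g⁻¹⁻¹) • a ∈ MulAction.orbit N a :=
      ⟨⟨_, Subgroup.Normal.conj_mem ‹_› c hc g⁻¹⟩, rfl⟩
    rw [h, Set.mem_singleton_iff, inv_inv, mul_smul, mul_smul, inv_smul_eq_iff] at h1
    exact h1
  · exact h

/-- An element of prime order `p` lies in every normal subgroup whose index is prime to `p`. -/
theorem mem_of_coprime_index {G : Type*} [Group G] {N : Subgroup G} [N.Normal] {w : G} {p : ℕ}
    (hw : w ^ p = 1) (hp : Nat.Coprime N.index p) : w ∈ N := by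
  rw [← QuotientGroup.eq_one_iff]
  have h1 : orderOf (w : G ⧸ N) ∣ p := orderOf_dvd_of_pow_eq_one (by
    rw [← QuotientGroup.mk_pow, hw]; rfl)
  have h2 : orderOf (w : G ⧸ N) ∣ N.index := by
    rw [Subgroup.index_eq_card]
    exact orderOf_dvd_natCard _
  rw [← orderOf_eq_one_iff, ← Nat.dvd_one, ← hp]
  exact Nat.dvd_gcd h2 h1

/-- If killing the word `w` collapses the group then a normal subgroup containing it is the whole
group. -/
theorem eq_top_of_collapse {c : StepCert} {R0 : List (List ℕ)} {w : List ℕ}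
    (h : c.Valid (R0 ++ [w])) (hn : c.n = 1) (hU : c.U = []) {x : ℕ → G}
    (hx : ∀ g, x g * x g = 1) (hrel : ∀ r ∈ R0, wordVal x r = 1)
    (hgen : Subgroup.closure (x '' {g | g ∈ c.S}) = ⊤) {N : Subgroup G} [N.Normal]
    (hw : wordVal x w ∈ N) : N = ⊤ := by
  let q := QuotientGroup.mk' N
  have hx' : ∀ g, (fun g => q (x g)) g * (fun g => q (x g)) g = 1 := fun g => by
    rw [← map_mul, hx, map_one]
  have hrel' : ∀ r ∈ R0 ++ [w], wordVal (fun g => q (x g)) r = 1 := by
    intro r hr
    rw [← map_wordVal]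
    rcases List.mem_append.1 hr with hr | hr
    · rw [hrel r hr, map_one]
    · rw [List.mem_singleton] at hr
      subst hr
      exact (QuotientGroup.eq_one_iff _).2 hw
  obtain ⟨-, h2⟩ := h.card_le hx' hrel' (K := ⊥) (by rw [hU]; simp) inferInstance
    (m := 1) (by rw [Subgroup.card_bot])
  obtain ⟨hf, -⟩ := h.card_le hx' hrel' (K := ⊥) (by rw [hU]; simp) inferInstance
    (m := 1) (by rw [Subgroup.card_bot])
  rw [hn, one_mul] at h2
  have h3 : Subgroup.closure ((fun g => q (x g)) '' {g | g ∈ c.S}) = ⊥ :=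
    Subgroup.eq_bot_of_card_le _ h2
  rw [← top_le_iff, ← hgen, Subgroup.closure_le]
  rintro _ ⟨g, hg, rfl⟩
  have h4 : q (x g) ∈ (⊥ : Subgroup (G ⧸ N)) := h3 ▸ Subgroup.subset_closure ⟨g, hg, rfl⟩
  exact (QuotientGroup.eq_one_iff _).1 h4

end Cfsg.Lib.CosetEnum
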