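import Cfsg.Agent.Lib.CosetEnum.Defs

/-!
# A word tabulated as a central involution
-/

set_option autoImplicit false

namespace Cfsg.Lib.CosetEnum

/-- The table `T` lists the images of the word `w`, is an involution and commutes with `S`. -/
noncomputable def centreOK (Z T : Tab) (k n : Nat) (w S : List Nat) : Nat → Nat → Bool
  | 0, _ => true
  | m + 1, i => force i fun i => (force (T.getP i) fun t =>
      Nat.blt t n && Nat.beq (T.getP t) i && Nat.beq (twalk Z k w i) t &&
        S.all fun g => Nat.beq (T.getP (img Z k g i)) (img Z k g t)) &&
      centreOK Z T k n w S m (i + 1)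

theorem centreOK_append {Z T : Tab} {k n : Nat} {w S : List Nat} : ∀ {a b i : Nat},
    centreOK Z T k n w S a i = true → centreOK Z T k n w S b (i + a) = true →
      centreOK Z T k n w S (a + b) i = true
  | 0, b, i, _, h => by simpa using h
  | a + 1, b, i, h, h' => by
    rw [centreOK, force_eq, Bool.and_eq_true] at h
    rw [show a + 1 + b = (a + b) + 1 by omega, centreOK, force_eq, Bool.and_eq_true]
    exact ⟨h.1, centreOK_append h.2 (by rwa [show i + 1 + a = i + (a + 1) by omega])⟩

end Cfsg.Lib.CosetEnum
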