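import Cfsg.Agent.Lib.CosetEnum.Simple
import Cfsg.Agent.Lib.CosetEnum.ImageTab

/-!
# Central involutions and parity of words
-/

set_option autoImplicit false

namespace Cfsg.Lib.CosetEnum

theorem centreOK_get {Z T : Tab} {k n : ℕ} {w S : List ℕ} : ∀ {m i : ℕ},
    centreOK Z T k n w S m i = true → ∀ j, i ≤ j → j < i + m →
      T.getP j < n ∧ T.getP (T.getP j) = j ∧ twalk Z k w j = T.getP j ∧
        ∀ g ∈ S, T.getP (img Z k g j) = img Z k g (T.getP j)
  | 0, i, _, j, h1, h2 => by omega
  | m + 1, i, hc, j, h1, h2 => by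
    rw [centreOK, force_eq, Bool.and_eq_true] at hc
    rcases Nat.eq_or_lt_of_le h1 with h | h
    · subst h
      have h3 := hc.1
      simp only [force_eq, Bool.and_eq_true, List.all_eq_true, Nat.blt_eq, Nat.beq_eq,
        and_assoc] at h3
      exact h3
    · exact centreOK_get hc.2 j h (by omega)

/-- A tabulated word is an involution commuting with the listed generators. -/
theorem centre_word {G : Type*} [Group G] {n : ℕ} (x : ℕ → G) (f : G →* Equiv.Perm (Fin n))
    (hinj : Function.Injective f) {Z T : Tab} {k : ℕ} {R : List (List ℕ)}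
    (hperm : permOK Z k n R n 0 = true) (hk : k ≤ eps)
    (hf : ∀ g < k, f (x g) = tperm Z k n g) {w S : List ℕ}
    (h : centreOK Z T k n w S n 0 = true) (hw : ∀ g ∈ w, g < k) (hS : ∀ g ∈ S, g < k) :
    wordVal x w * wordVal x w = 1 ∧ (∀ g ∈ S, x g * wordVal x w = wordVal x w * x g) ∧
      ∀ p < n, T.getP p ≠ p → wordVal x w ≠ 1 := by
  have hz : ∀ i : Fin n, (f (wordVal x w) i).1 = T.getP i.1 := fun i => by
    rw [map_wordVal_tperm x f hk hf hw, wordVal_tperm hperm hk w hw,
      (centreOK_get h i.1 (Nat.zero_le _) (by omega)).2.2.1]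
  refine ⟨hinj ?_, fun g hg => hinj ?_, fun p hp hne he => ?_⟩
  · ext i
    rw [map_mul, Equiv.Perm.mul_apply, map_one, hz, hz,
      (centreOK_get h i.1 (Nat.zero_le _) (by omega)).2.1]
    rfl
  · ext i
    rw [map_mul, map_mul, Equiv.Perm.mul_apply, Equiv.Perm.mul_apply, hz, hf g (hS g hg),
      tperm_apply hperm (hS g hg), tperm_apply hperm (hS g hg), hz,
      (centreOK_get h i.1 (Nat.zero_le _) (by omega)).2.2.2 g hg]
  · apply hne
    have := hz ⟨p, hp⟩
    rw [he, map_one] at this
    exact this.symm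

/-- With all letters outside a subgroup of index two, membership is parity of the length. -/
theorem wordVal_mem_iff_even {G : Type*} [Group G] {L : Subgroup G} (hL : L.index = 2)
    (y : ℕ → G) : ∀ {w : List ℕ}, (∀ g ∈ w, g ≠ eps ∧ y g ∉ L) →
      (wordVal y w ∈ L ↔ Even w.length)
  | [], _ => by simp [wordVal, one_mem]
  | g :: w, h => by
    have ih := wordVal_mem_iff_even hL y (w := w) fun a ha => h a (by simp [ha])
    rw [wordVal, Subgroup.mul_mem_iff_of_index_two hL, gen, if_neg (h g (by simp)).1,
      iff_false_right (h g (by simp)).2, ih, List.length_cons, Nat.even_add_one]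

/-- Two involutions with a product of odd order are together in or out of a subgroup of index
two. -/
theorem mem_iff_of_braid {G : Type*} [Group G] {L : Subgroup G} (hL : L.index = 2) {a b : G}
    (h : (a * b) ^ 3 = 1) : a ∈ L ↔ b ∈ L := by
  rw [← Subgroup.mul_mem_iff_of_index_two hL]
  have h2 : (a * b) * (a * b) ∈ L := (Subgroup.mul_mem_iff_of_index_two hL).2 Iff.rfl
  have := (Subgroup.mul_mem_iff_of_index_two hL).1
    (show a * b * ((a * b) * (a * b)) ∈ L by
      rw [← mul_assoc, show a * b * (a * b) * (a * b) = (a * b) ^ 3 by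
        simp [pow_succ, mul_assoc], h]
      exact one_mem L)
  exact this.2 h2

end Cfsg.Lib.CosetEnum
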