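import Cfsg.Agent.Lib.CosetEnum.Simple

/-!
# Restriction of a table action to a listed set
-/

set_option autoImplicit false

namespace Cfsg.Lib.CosetEnum

/-- Each word of `U` acts on the listed points as the generator with its index acts in `P`. -/
noncomputable def restrictOK (Z O P : Tab) (k k' m : ℕ) (U : List (List ℕ)) : ℕ → ℕ → Bool
  | 0, _ => true
  | c + 1, j => force j fun j => ((List.range k').all fun g =>
      (U.getD g []).all (fun a => Nat.blt a k) && Nat.blt (img P k' g j) m &&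
        Nat.beq (twalk Z k (U.getD g []) (O.getP j / B / B)) (O.getP (img P k' g j) / B / B)) &&
      restrictOK Z O P k k' m U c (j + 1)

theorem restrictOK_get {Z O P : Tab} {k k' m : ℕ} {U : List (List ℕ)} : ∀ {c i : ℕ},
    restrictOK Z O P k k' m U c i = true → ∀ j, i ≤ j → j < i + c → ∀ g < k',
      (∀ a ∈ U.getD g [], a < k) ∧ img P k' g j < m ∧
        twalk Z k (U.getD g []) (O.getP j / B / B) = O.getP (img P k' g j) / B / B
  | 0, i, _, j, h1, h2 => by omega
  | c + 1, i, hc, j, h1, h2 => by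
    rw [restrictOK, force_eq, Bool.and_eq_true] at hc
    rcases Nat.eq_or_lt_of_le h1 with h | h
    · subst h
      have h3 := hc.1
      simp only [Bool.and_eq_true, List.all_eq_true, List.mem_range, Nat.blt_eq, Nat.beq_eq,
        and_assoc] at h3
      exact h3
    · exact restrictOK_get hc.2 j h (by omega)

/-- The generated subgroup acts on the listed set through the group of the small table. -/
theorem exists_restrict {G : Type*} [Group G] {n m k' : ℕ} (x : ℕ → G)
    (f : G →* Equiv.Perm (Fin n)) {Z O Pos P : Tab} {k : ℕ} {R : List (List ℕ)}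
    {U V : List (List ℕ)} (hperm : permOK Z k n R n 0 = true) (hk : k ≤ eps)
    (hf : ∀ g < k, f (x g) = tperm Z k n g) (ho : orbitOK Z O Pos k n m V m 0 = true)
    {R' : List (List ℕ)} (hP : permOK P k' m R' m 0 = true)
    (hres : restrictOK Z O P k k' m U m 0 = true) (hU : U.length = k') {H : Subgroup G}
    (hH : H = Subgroup.closure (wordVal x '' {u | u ∈ U})) :
    ∃ ρ : H →* Equiv.Perm (Fin m),
      (∀ g < k', ∀ hm : wordVal x (U.getD g []) ∈ H, ρ ⟨_, hm⟩ = tperm P k' m g) ∧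
        ρ.range = Subgroup.closure (tperm P k' m '' {g | g < k'}) ∧
        ∀ (a : H) (j : Fin m) (hj : O.getP j.1 / B / B < n),
          (f (a : G) ⟨O.getP j.1 / B / B, hj⟩).1 = O.getP (ρ a j).1 / B / B := by
  subst hH
  have hget := fun j (hj : j < m) => orbitOK_get ho j (Nat.zero_le _) (by omega)
  let pt : Fin m → Fin n := fun j => ⟨O.getP j.1 / B / B, (hget j.1 j.2).1⟩
  have hinj : Function.Injective pt := by
    intro a b hab
    have h1 := congrArg (fun z : Fin n => Pos.getP z.1) hab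
    simp only [pt] at h1
    rw [(hget a.1 a.2).2.1, (hget b.1 b.2).2.1] at h1
    exact Fin.ext h1
  have hgen : ∀ g < k', ∀ j, f (wordVal x (U.getD g [])) (pt j) = pt (tperm P k' m g j) := by
    intro g hg j
    obtain ⟨hlt, -, heq⟩ := restrictOK_get hres j.1 (Nat.zero_le _) (by omega) g hg
    refine Fin.ext ?_
    rw [map_wordVal_tperm x f hk hf hlt, wordVal_tperm hperm hk _ hlt]
    simp only [pt]
    rw [heq, tperm_apply hP hg]
  let G0 : Subgroup (G × Equiv.Perm (Fin m)) :=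
    { carrier := {p | ∀ j, f p.1 (pt j) = pt (p.2 j)}
      one_mem' := fun j => by simp
      mul_mem' := by
        rintro ⟨a, σ⟩ ⟨b, τ⟩ ha hb j
        show f (a * b) (pt j) = pt (σ (τ j))
        rw [map_mul, Equiv.Perm.mul_apply, hb j, ha (τ j)]
      inv_mem' := by
        rintro ⟨a, σ⟩ ha j
        show f a⁻¹ (pt j) = pt (σ⁻¹ j)
        rw [map_inv, Equiv.Perm.inv_def, Equiv.symm_apply_eq, ha (σ⁻¹ j), Equiv.Perm.inv_def,
          Equiv.apply_symm_apply] }
  have hex : ∀ a : Subgroup.closure (wordVal x '' {u | u ∈ U}), ∃ σ, ((a : G), σ) ∈ G0 := by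
    rintro ⟨a, ha⟩
    induction ha using Subgroup.closure_induction with
    | mem y hy =>
      obtain ⟨u, hu, rfl⟩ := hy
      obtain ⟨g, hg, rfl⟩ := List.mem_iff_getElem.1 (show u ∈ U from hu)
      exact ⟨tperm P k' m g, fun j => by
        have := hgen g (hU ▸ hg) j
        rwa [List.getD_eq_getElem _ _ hg] at this⟩
    | one => exact ⟨1, G0.one_mem⟩
    | mul y z _ _ hy hz =>
      obtain ⟨σ, hσ⟩ := hy; obtain ⟨τ, hτ⟩ := hz
      exact ⟨σ * τ, G0.mul_mem hσ hτ⟩
    | inv y _ hy => obtain ⟨σ, hσ⟩ := hy; exact ⟨σ⁻¹, G0.inv_mem hσ⟩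
  choose ρ0 hρ0 using hex
  have huniq : ∀ (a : Subgroup.closure (wordVal x '' {u | u ∈ U})) σ, ((a : G), σ) ∈ G0 → ρ0 a = σ := fun a σ h =>
    Equiv.ext fun j => hinj ((hρ0 a j).symm.trans (h j))
  let ρ : Subgroup.closure (wordVal x '' {u | u ∈ U}) →* Equiv.Perm (Fin m) := MonoidHom.mk' ρ0 fun a b =>
    huniq _ _ (G0.mul_mem (hρ0 a) (hρ0 b))
  have hρgen : ∀ g < k', ∀ hm : wordVal x (U.getD g []) ∈ Subgroup.closure (wordVal x '' {u | u ∈ U}), ρ ⟨_, hm⟩ = tperm P k' m g :=
    fun g hg hm => huniq _ _ (hgen g hg)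
  refine ⟨ρ, hρgen, ?_, fun a j hj => congrArg Fin.val (hρ0 a j)⟩
  have hmemH : ∀ g < k', wordVal x (U.getD g []) ∈ Subgroup.closure (wordVal x '' {u | u ∈ U}) := fun g hg => by
    rw [List.getD_eq_getElem _ _ (hU ▸ hg)]
    exact Subgroup.subset_closure ⟨_, List.getElem_mem _, rfl⟩
  refine le_antisymm ?_ ?_
  · rintro _ ⟨⟨a, ha⟩, rfl⟩
    show ρ ⟨a, ha⟩ ∈ _
    induction ha using Subgroup.closure_induction with
    | mem y hy =>
      obtain ⟨u, hu, rfl⟩ := hy
      obtain ⟨g, hg, rfl⟩ := List.mem_iff_getElem.1 (show u ∈ U from hu)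
      have hgk : g < k' := hU ▸ hg
      have e : wordVal x U[g] = wordVal x (U.getD g []) := by rw [List.getD_eq_getElem _ _ hg]
      have hh : ρ ⟨_, Subgroup.subset_closure ⟨_, List.getElem_mem hg, rfl⟩⟩ = ρ ⟨_, hmemH g hgk⟩ := congrArg ρ (Subtype.ext e)
      rw [hh, hρgen g hgk]
      exact Subgroup.subset_closure ⟨g, hgk, rfl⟩
    | one =>
      rw [show (⟨(1 : G), one_mem _⟩ : Subgroup.closure (wordVal x '' {u | u ∈ U})) = 1 from rfl, map_one]
      exact one_mem _
    | mul y z hy hz ihy ihz =>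
      rw [show (⟨y * z, mul_mem hy hz⟩ : Subgroup.closure (wordVal x '' {u | u ∈ U})) = ⟨y, hy⟩ * ⟨z, hz⟩ from rfl, map_mul]
      exact mul_mem ihy ihz
    | inv y hy ihy =>
      rw [show (⟨y⁻¹, inv_mem hy⟩ : Subgroup.closure (wordVal x '' {u | u ∈ U})) = ⟨y, hy⟩⁻¹ from rfl, map_inv]
      exact inv_mem ihy
  · rw [Subgroup.closure_le]
    rintro _ ⟨g, hg, rfl⟩
    exact ⟨⟨_, hmemH g hg⟩, hρgen g hg _⟩

end Cfsg.Lib.CosetEnum
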