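import Cfsg.Agent.Lib.CosetEnum.U62Geom
import Cfsg.Agent.Lib.CosetEnum.Defs

/-!
# Kernel check that a table is induced by transvections
-/

set_option autoImplicit false

namespace Cfsg.Lib.CosetEnum.GF4

open Matrix

/-- Scalar times vector. -/
def smulV (l : GF4) (x : Fin 6 → GF4) : Fin 6 → GF4 := fun k => l * x k

/-- The generator `0` fixes the point, the others move it as transvections. -/
noncomputable def pointsOK (V Idx P : Tab) (cs : List ℕ) (k N : ℕ) : ℕ → ℕ → Bool
  | 0, _ => true
  | m + 1, j => force j fun j => ([(GF4.i : GF4), GF4.w, GF4.v].all fun l =>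
        Nat.beq (Idx.getP (code (smulV l (vec (V.getP j))))) j) &&
      Nat.beq (img P k 0 j) j &&
      ((List.range cs.length).all fun g => Nat.blt (img P k (g + 1) j) N && [(GF4.i : GF4), GF4.w, GF4.v].any fun l =>
        Nat.beq (code (move (vec (cs.getD g 0)) (vec (V.getP j))))
          (code (smulV l (vec (V.getP (img P k (g + 1) j)))))) &&
      pointsOK V Idx P cs k N m (j + 1)

theorem pointsOK_get {V Idx P : Tab} {cs : List ℕ} {k N : ℕ} : ∀ {m s : ℕ},
    pointsOK V Idx P cs k N m s = true → ∀ j, s ≤ j → j < s + m →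
      (∀ l ∈ [(GF4.i : GF4), GF4.w, GF4.v], Idx.getP (code (smulV l (vec (V.getP j)))) = j) ∧ img P k 0 j = j ∧
        ∀ g < cs.length, ∃ l ∈ [(GF4.i : GF4), GF4.w, GF4.v],
          code (move (vec (cs.getD g 0)) (vec (V.getP j))) =
            code (smulV l (vec (V.getP (img P k (g + 1) j))))
  | 0, s, _, j, h1, h2 => by omega
  | m + 1, s, hc, j, h1, h2 => by
    rw [pointsOK, force_eq, Bool.and_eq_true] at hc
    rcases Nat.eq_or_lt_of_le h1 with h | h
    · subst h
      have h3 := hc.1
      simp only [Bool.and_eq_true, List.all_eq_true, List.any_eq_true, List.mem_range, Nat.beq_eq,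
        and_assoc] at h3
      exact ⟨h3.1, h3.2.1, fun g hg => (h3.2.2 g hg).2⟩
    · exact pointsOK_get hc.2 j h (by omega)

theorem code_injective {x y : Fin 6 → GF4} (h : code x = code y) : x = y := by
  have hb : ∀ a : GF4, enc a < 4 := by decide
  have he : ∀ a b : GF4, enc a = enc b → a = b := by decide
  simp only [code] at h
  have := hb (x 0); have := hb (x 1); have := hb (x 2); have := hb (x 3); have := hb (x 4)
  have := hb (y 0); have := hb (y 1); have := hb (y 2); have := hb (y 3); have := hb (y 4)
  funext k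
  apply he
  fin_cases k <;> simp <;> omega

end Cfsg.Lib.CosetEnum.GF4
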