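import Cfsg.Agent.Lib.CosetEnum.GFFour
import Cfsg.Agent.Lib.Linear.UnitaryCenter
import Cfsg.Agent.Lib.Linear.PSUSimple

/-!
# A permutation group on isotropic points identified with PSU(6, 2)
-/

set_option autoImplicit false

namespace Cfsg.Lib.CosetEnum

open Matrix GF4

namespace GF4

/-- The hermitian form written out. -/
def herm (x y : Fin 6 → GF4) : GF4 :=
  x 0 * (y 0 * y 0) + x 1 * (y 1 * y 1) + x 2 * (y 2 * y 2) + x 3 * (y 3 * y 3) +
    x 4 * (y 4 * y 4) + x 5 * (y 5 * y 5)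

theorem hermForm_eq (x y : Fin 6 → GF4) : Cfsg.hermForm 6 GF4 2 x y = herm x y := by
  simp only [Cfsg.hermForm, Fin.sum_univ_six, herm, pow_two]

theorem add_sq' : ∀ a b : GF4, (a + b) * (a + b) = a * a + b * b := by decide

theorem pow_four' : ∀ a : GF4, (a * a) * (a * a) = a := by decide

theorem add_self' : ∀ a : GF4, a + a = 0 := by decide

theorem herm_conj (x y : Fin 6 → GF4) : herm y x = herm x y * herm x y := by
  simp only [herm, add_sq', mul_mul_mul_comm _ (_ * _) _ (_ * _), pow_four']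
  ring

/-- The transvection with the given centre. -/
def move (c x : Fin 6 → GF4) : Fin 6 → GF4 := fun k => x k + herm x c * c k

/-- The matrix of a transvection. -/
def cmat (c : Fin 6 → GF4) : Matrix (Fin 6) (Fin 6) GF4 :=
  1 + Matrix.vecMulVec c fun k => c k * c k

theorem cmat_mulVec (c x : Fin 6 → GF4) : cmat c *ᵥ x = move c x := by
  funext k
  rw [cmat, Matrix.add_mulVec, Matrix.one_mulVec, Matrix.vecMulVec_mulVec]
  simp only [Pi.add_apply, move]
  congr 1
  simp only [Pi.smul_apply, MulOpposite.smul_eq_mul_unop, MulOpposite.unop_op, dotProduct,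
    Fin.sum_univ_six, herm, smul_eq_mul]
  ring

theorem det_cmat {c : Fin 6 → GF4} (hc : herm c c = 0) : (cmat c).det = 1 := by
  have h : (fun k => c k * c k) ⬝ᵥ c = herm c c := by
    simp only [dotProduct, Fin.sum_univ_six, herm]
    ring
  rw [cmat, Matrix.vecMulVec_eq Unit, Matrix.det_one_add_replicateCol_mul_replicateRow, h, hc,
    add_zero]

theorem herm_move {c : Fin 6 → GF4} (hc : herm c c = 0) (x y : Fin 6 → GF4) :
    herm (move c x) (move c y) = herm x y := by
  have h : herm (move c x) (move c y) = herm x y + (herm y c * herm y c) * herm x c +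
      herm x c * herm c y + herm x c * (herm y c * herm y c) * herm c c := by
    have hlin : ∀ α β : GF4, herm (fun k => x k + α * c k) (fun k => y k + β * c k) =
        herm x y + β * β * herm x c + α * herm c y + α * (β * β) * herm c c := by
      intro α β
      simp only [herm, add_sq']
      ring
    exact hlin (herm x c) (herm y c)
  rw [h, hc, mul_zero, add_zero, herm_conj y c, add_assoc,
    mul_comm (herm x c) (herm y c * herm y c), add_self', add_zero]

/-- A transvection in the special unitary group. -/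
def transvection (c : Fin 6 → GF4) (hc : herm c c = 0) : Cfsg.SU 6 GF4 2 :=
  ⟨⟨cmat c, det_cmat hc⟩, fun x y => by
    show Cfsg.hermForm 6 GF4 2 (cmat c *ᵥ x) (cmat c *ᵥ y) = _
    rw [cmat_mulVec, cmat_mulVec, hermForm_eq, herm_move hc, hermForm_eq]⟩

theorem scalar_det : ∀ l : GF4, l ≠ 0 → l ^ 6 = 1 := by decide

/-- A scalar in the special unitary group. -/
def scalar (l : GF4) (hl : l ≠ 0) : Cfsg.SU 6 GF4 2 :=
  ⟨⟨l • (1 : Matrix (Fin 6) (Fin 6) GF4), by
    rw [Matrix.det_smul, Matrix.det_one, mul_one, Fintype.card_fin]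
    exact scalar_det l hl⟩, fun x y => by
    show Cfsg.hermForm 6 GF4 2 ((l • (1 : Matrix (Fin 6) (Fin 6) GF4)) *ᵥ x)
      ((l • (1 : Matrix (Fin 6) (Fin 6) GF4)) *ᵥ y) = _
    have h3 : ∀ a : GF4, a ≠ 0 → a ^ 3 = 1 := by decide
    simp only [Matrix.smul_mulVec, Matrix.one_mulVec, Cfsg.hermForm, Pi.smul_apply, smul_eq_mul]
    refine Finset.sum_congr rfl fun k _ => ?_
    linear_combination (x k * y k ^ 2) * h3 l hl⟩

theorem card_psu : Nat.card (Cfsg.PSU 6 GF4 2) = 9196830720 ∧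
    Nat.card (Cfsg.SU 6 GF4 2) = 27590492160 ∧
    Nat.card (Subgroup.center (Cfsg.SU 6 GF4 2)) = 3 := by
  have hF : Fintype.card GF4 = 2 ^ 2 := rfl
  have h1 := Cfsg.Lib.Linear.Herm.card_GU hF 6
  have h2 := Cfsg.Lib.Linear.Herm.card_SU hF (n := 6) (by norm_num)
  have h3 := Cfsg.Lib.Linear.Herm.card_center_SU hF (n := 6) (by norm_num)
  have hg : Nat.gcd 6 (2 + 1) = 3 := by decide
  rw [hg] at h3
  rw [h1] at h2
  simp only [Finset.prod_range_succ, Finset.prod_range_zero, Nat.even_iff] at h2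
  norm_num at h2
  have h4 := Subgroup.card_eq_card_quotient_mul_card_subgroup (Subgroup.center (Cfsg.SU 6 GF4 2))
  rw [h3] at h4
  refine ⟨?_, by omega, h3⟩
  show Nat.card (Cfsg.SU 6 GF4 2 ⧸ Subgroup.center (Cfsg.SU 6 GF4 2)) = _
  omega

variable {N : ℕ} (pt : Fin N → Fin 6 → GF4)

/-- The action of a matrix on the listed points. -/
def Maps (A : Cfsg.SU 6 GF4 2) (σ : Equiv.Perm (Fin N)) : Prop :=
  ∀ i, ∃ c : GF4, c ≠ 0 ∧ (A.1 : Matrix (Fin 6) (Fin 6) GF4) *ᵥ pt i = c • pt (σ i)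

/-- The pairs of a matrix and its action on the points. -/
def mapsGroup : Subgroup (Cfsg.SU 6 GF4 2 × Equiv.Perm (Fin N)) where
  carrier := {p | Maps pt p.1 p.2}
  one_mem' := fun i => ⟨1, one_ne_zero, by simp⟩
  mul_mem' := by
    rintro ⟨A, σ⟩ ⟨B, τ⟩ hA hB i
    obtain ⟨c, hc, hci⟩ := hB i
    obtain ⟨d, hd, hdi⟩ := hA (τ i)
    refine ⟨c * d, mul_ne_zero hc hd, ?_⟩
    show ((A.1 : Matrix (Fin 6) (Fin 6) GF4) * (B.1 : Matrix (Fin 6) (Fin 6) GF4)) *ᵥ pt i = _
    rw [← Matrix.mulVec_mulVec, hci, Matrix.mulVec_smul, hdi, smul_smul]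
    rfl
  inv_mem' := by
    rintro ⟨A, σ⟩ hA i
    obtain ⟨c, hc, hci⟩ := hA (σ⁻¹ i)
    refine ⟨c⁻¹, inv_ne_zero hc, ?_⟩
    simp only [Equiv.Perm.inv_def, Equiv.apply_symm_apply] at hci
    have h := congrArg ((A⁻¹.1 : Matrix (Fin 6) (Fin 6) GF4) *ᵥ ·) hci
    simp only [Matrix.mulVec_mulVec, Matrix.mulVec_smul] at h
    rw [← Matrix.SpecialLinearGroup.coe_mul, ← Subgroup.coe_mul, inv_mul_cancel,
      Subgroup.coe_one, Matrix.SpecialLinearGroup.coe_one, Matrix.one_mulVec] at h
    show (A⁻¹.1 : Matrix (Fin 6) (Fin 6) GF4) *ᵥ pt i = c⁻¹ • pt (σ⁻¹ i)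
    rw [Equiv.Perm.inv_def, h, smul_smul, inv_mul_cancel₀ hc, one_smul]

variable {pt}

/-- A large group of permutations of points induced by unitary matrices is PSU(6, 2). -/
theorem equiv_psu (hd : ∀ i j, ∀ c : GF4, c ≠ 0 → c • pt i = pt j → i = j)
    {S : Set (Equiv.Perm (Fin N))} (hS : ∀ σ ∈ S, ∃ A, Maps pt A σ)
    (hP : 9196830720 ≤ Nat.card (Subgroup.closure S)) :
    Nat.card (Subgroup.closure S) = 9196830720 ∧
      Nonempty (Subgroup.closure S ≃* Cfsg.PSU 6 GF4 2) := by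
  classical
  obtain ⟨hpsu, hsu, hcen⟩ := card_psu
  have : Finite (Cfsg.SU 6 GF4 2) := Nat.finite_of_card_ne_zero (by omega)
  set G := mapsGroup pt with hG
  let π₁ : G →* Cfsg.SU 6 GF4 2 := (MonoidHom.fst _ _).comp G.subtype
  let π₂ : G →* Equiv.Perm (Fin N) := (MonoidHom.snd _ _).comp G.subtype
  have hinj : Function.Injective π₁ := by
    rw [← MonoidHom.ker_eq_bot_iff, eq_bot_iff]
    rintro ⟨⟨A, σ⟩, hm⟩ h
    replace h : A = 1 := h
    subst h
    have hσ : σ = 1 := Equiv.ext fun i => by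
      obtain ⟨c, hc, hci⟩ := hm i
      simp only [Subgroup.coe_one, Matrix.SpecialLinearGroup.coe_one, Matrix.one_mulVec] at hci
      exact hd _ _ c hc hci.symm
    subst hσ
    exact Subgroup.mem_bot.2 rfl
  have hle : Subgroup.closure S ≤ π₂.range := by
    rw [Subgroup.closure_le]
    intro σ hσ
    obtain ⟨A, hA⟩ := hS σ hσ
    exact ⟨⟨(A, σ), hA⟩, rfl⟩
  have hker : 3 ≤ Nat.card π₂.ker := by
    let s : {l : GF4 // l ≠ 0} → π₂.ker := fun l =>
      ⟨⟨(scalar l.1 l.2, 1), fun i => ⟨l.1, l.2, by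
        show (l.1 • (1 : Matrix (Fin 6) (Fin 6) GF4)) *ᵥ pt i = _
        rw [Matrix.smul_mulVec, Matrix.one_mulVec]
        rfl⟩⟩, rfl⟩
    have hs : Function.Injective s := by
      intro l m h
      have h' := congrArg (fun z : π₂.ker => ((z.1.1.1).1 : Matrix (Fin 6) (Fin 6) GF4) 0 0) h
      simp only [s, scalar, Matrix.smul_apply, Matrix.one_apply_eq, smul_eq_mul, mul_one] at h'
      exact Subtype.ext h'
    have := Nat.card_le_card_of_injective s hs
    rwa [show Nat.card {l : GF4 // l ≠ 0} = 3 by rw [Nat.card_eq_fintype_card]; rfl] at this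
  have h1 : Nat.card G ≤ 27590492160 := hsu ▸ Nat.card_le_card_of_injective π₁ hinj
  have h2 : Nat.card π₂.range * Nat.card π₂.ker = Nat.card G := by
    rw [← Nat.card_congr (QuotientGroup.quotientKerEquivRange π₂).toEquiv,
      ← Subgroup.card_eq_card_quotient_mul_card_subgroup]
  have h3 : Nat.card (Subgroup.closure S) ≤ Nat.card π₂.range := Subgroup.card_le_of_le hle
  have h4 : Nat.card (Subgroup.closure S) * 3 ≤ Nat.card π₂.range * Nat.card π₂.ker :=
    Nat.mul_le_mul h3 hker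
  have hGc : Nat.card G = 27590492160 := by omega
  have hbij : Function.Bijective π₁ := hinj.bijective_of_nat_card_le (by rw [hsu, hGc])
  have hrange : π₂.range = Subgroup.closure S := by
    refine (Subgroup.eq_of_le_of_card_ge hle ?_).symm
    have : 3 * Nat.card π₂.range ≤ Nat.card G := by
      rw [← h2, mul_comm]; exact Nat.mul_le_mul le_rfl hker
    omega
  have hcS : Nat.card (Subgroup.closure S) = 9196830720 := by
    rw [← hrange] at hP ⊢
    have : 3 * Nat.card π₂.range ≤ Nat.card G := by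
      rw [← h2, mul_comm]; exact Nat.mul_le_mul le_rfl hker
    omega
  refine ⟨hcS, ?_⟩
  let φ : Cfsg.SU 6 GF4 2 →* Equiv.Perm (Fin N) :=
    π₂.comp (MulEquiv.ofBijective π₁ hbij).symm.toMonoidHom
  have hφr : φ.range = Subgroup.closure S := by
    rw [← hrange, MonoidHom.range_comp,
      MonoidHom.range_eq_top.2 (MulEquiv.surjective _), ← MonoidHom.range_eq_map]
  have hφk : Nat.card φ.ker = 3 := by
    have h := Subgroup.card_eq_card_quotient_mul_card_subgroup φ.ker
    rw [Nat.card_congr (QuotientGroup.quotientKerEquivRange φ).toEquiv, hφr, hcS, hsu] at h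
    omega
  have : IsSimpleGroup (Cfsg.PSU 6 GF4 2) :=
    Cfsg.Lib.Linear.Herm.psu_simple (q := 2) (rfl : Fintype.card GF4 = 2 ^ 2) (by norm_num)
  have hcenk : φ.ker = Subgroup.center (Cfsg.SU 6 GF4 2) := by
    refine Subgroup.eq_of_le_of_card_ge ?_ (by rw [hcen, hφk])
    set p := QuotientGroup.mk' (Subgroup.center (Cfsg.SU 6 GF4 2))
    have hn : (φ.ker.map p).Normal := φ.normal_ker.map p (QuotientGroup.mk'_surjective _)
    rcases hn.eq_bot_or_eq_top with h | h
    · rwa [Subgroup.map_eq_bot_iff, QuotientGroup.ker_mk'] at h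
    · have := Nat.card_le_card_of_surjective (p.subgroupMap φ.ker) (p.subgroupMap_surjective φ.ker)
      rw [h, Subgroup.card_top] at this
      change Nat.card (Cfsg.PSU 6 GF4 2) ≤ _ at this
      omega
  exact ⟨((QuotientGroup.quotientMulEquivOfEq hcenk.symm).trans
    ((QuotientGroup.quotientKerEquivRange φ).trans (MulEquiv.subgroupCongr hφr))).symm⟩

end GF4

end Cfsg.Lib.CosetEnum
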