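import Cfsg.Agent.Lib.CosetEnum.Simple

/-!
# Elements fixing a base, and large subgroups of simple groups
-/

set_option autoImplicit false

namespace Cfsg.Lib.CosetEnum

variable {G : Type*} [Group G] {n : ℕ}

/-- Every word fixes every listed point of the table. -/
noncomputable def fixOK (Z : Tab) (k n : Nat) (pts : List Nat) (words : List (List Nat)) : Bool :=
  (pts.all fun p => Nat.blt p n) && words.all fun w => (w.all fun g => Nat.blt g k) &&
    pts.all fun p => Nat.beq (twalk Z k w p) p

/-- The base points of levels. -/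
noncomputable def basePts (Ls : List BaseLevel) : List Nat := Ls.map fun L => L.O.getP 0 / B / B

theorem base_mul_le [Finite G] (x : ℕ → G) (f : G →* Equiv.Perm (Fin n)) {Z : Tab} {k : ℕ}
    {R : List (List ℕ)} (h : permOK Z k n R n 0 = true) (hk : k ≤ eps)
    (hf : ∀ g < k, f (x g) = tperm Z k n g) :
    ∀ {Ls : List BaseLevel}, BaseOK Z k n Ls → ∀ A T : Subgroup G, T ≤ A →
      (∀ u ∈ (Ls.head?.map BaseLevel.U).getD [], wordVal x u ∈ A) →
      (∀ t ∈ T, ∀ p : Fin n, p.1 ∈ basePts Ls → f t p = p) →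
      baseSize Ls * Nat.card T ≤ Nat.card A
  | [], _, A, T, hTA, _, _ => by
    rw [baseSize, one_mul]
    exact Subgroup.card_le_of_le hTA
  | L :: Ls, ⟨hnest, horb, hrest⟩, A, T, hTA, hU, hT => by
    simp only [List.head?_cons, Option.map_some, Option.getD_some] at hU
    simp only [nestOK, force_eq, Bool.and_eq_true, Nat.blt_eq, List.all_eq_true] at hnest
    obtain ⟨p, hp, hcard, -⟩ := orbit_eq x f h hk hf horb hnest.1
    let act : MulAction G (Fin n) := MulAction.compHom (Fin n) f
    let A' : Subgroup G := A ⊓ (MulAction.stabilizer (Equiv.Perm (Fin n)) p).comap f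
    have hpmem : p.1 ∈ basePts (L :: Ls) := by simp [basePts, hp]
    have hTA' : T ≤ A' := fun t ht => ⟨hTA ht, hT t ht p hpmem⟩
    have hU' : ∀ u ∈ (Ls.head?.map BaseLevel.U).getD [], wordVal x u ∈ A' := by
      intro u hu
      have hu' := hnest.2 u hu
      simp only [Bool.and_eq_true, List.all_eq_true, Nat.blt_eq, Nat.beq_eq,
        List.any_eq_true, and_assoc] at hu'
      obtain ⟨hlt, hfix, v, hv, hvu⟩ := hu'
      refine ⟨beqW_eq hvu ▸ hU v hv, ?_⟩
      show f (wordVal x u) p = p
      rw [map_wordVal_tperm x f hk hf hlt]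
      exact Fin.ext (by rw [wordVal_tperm h hk u hlt, hp]; exact hfix)
    have ih := base_mul_le x f h hk hf hrest A' T hTA' hU' fun t ht q hq => hT t ht q
      (List.mem_cons_of_mem _ hq)
    have hstab : Nat.card (MulAction.stabilizer A p) = Nat.card A' := by
      refine Nat.card_congr ⟨fun a => ⟨a.1.1, a.1.2, a.2⟩, fun a => ⟨⟨a.1, a.2.1⟩, a.2.2⟩,
        fun a => rfl, fun a => rfl⟩
    have hmul := Subgroup.card_mul_index (MulAction.stabilizer A p)
    rw [MulAction.index_stabilizer, hstab] at hmul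
    have hc : L.c ≤ (MulAction.orbit A p).ncard := by
      rw [← hcard]
      refine Set.ncard_le_ncard ?_ (Set.toFinite _)
      rintro _ ⟨a, ha, rfl⟩
      have hA : Subgroup.closure (wordVal x '' {u | u ∈ L.U}) ≤ A :=
        (Subgroup.closure_le _).2 (by rintro _ ⟨u, hu, rfl⟩; exact hU u hu)
      exact ⟨⟨a, hA ha⟩, rfl⟩
    show L.c * baseSize Ls * Nat.card T ≤ _
    rw [← hmul, mul_assoc, mul_comm (Nat.card A')]
    exact Nat.mul_le_mul hc ih

/-- If the base gives the whole order, only the identity fixes all base points. -/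
theorem eq_one_of_fixes [Finite G] (x : ℕ → G) (f : G →* Equiv.Perm (Fin n)) {Z : Tab} {k : ℕ}
    {R : List (List ℕ)} (h : permOK Z k n R n 0 = true) (hk : k ≤ eps)
    (hf : ∀ g < k, f (x g) = tperm Z k n g) {Ls : List BaseLevel} (hb : BaseOK Z k n Ls)
    (hcard : Nat.card G = baseSize Ls) {w : List ℕ}
    (hw : fixOK Z k n (basePts Ls) [w] = true) : wordVal x w = 1 := by
  simp only [fixOK, Bool.and_eq_true, List.all_eq_true, List.mem_singleton, forall_eq,
    Nat.blt_eq, Nat.beq_eq] at hw
  obtain ⟨-, hlt, hfix⟩ := hw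
  have h1 := base_mul_le x f h hk hf hb ⊤ (Subgroup.zpowers (wordVal x w)) le_top
    (fun u _ => Subgroup.mem_top _) (by
      intro t ht p hp
      obtain ⟨i, rfl⟩ := Subgroup.mem_zpowers_iff.1 ht
      have h2 : f (wordVal x w) p = p := by
        rw [map_wordVal_tperm x f hk hf hlt]
        exact Fin.ext (by rw [wordVal_tperm h hk w hlt]; exact hfix p.1 hp)
      rw [map_zpow]
      exact Equiv.Perm.zpow_apply_eq_self_of_apply_eq_self h2 i)
  rw [Subgroup.card_top, hcard] at h1
  have h3 : Nat.card (Subgroup.zpowers (wordVal x w)) ≤ 1 :=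
    Nat.le_of_mul_le_mul_left (h1.trans (mul_one _).ge) (hcard ▸ Nat.card_pos)
  exact Subgroup.zpowers_eq_bot.1 (Subgroup.eq_bot_of_card_le _ h3)

/-- A subgroup of a simple group with large order is everything. -/
theorem eq_top_of_large [Finite G] [IsSimpleGroup G] {R : Subgroup G} {p m : ℕ} (hp : p.Prime)
    (hpG : p ∣ Nat.card G) (hm : m ∣ Nat.card R) (hbig : Nat.card G < p * m) : R = ⊤ := by
  by_contra hne
  have hidx : R.index < p := by
    by_contra hle
    have h1 := Subgroup.card_mul_index R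
    have h2 : m ≤ Nat.card R := Nat.le_of_dvd Nat.card_pos hm
    have h3 : p * m ≤ Nat.card R * R.index := by
      rw [mul_comm p]; exact Nat.mul_le_mul h2 (not_lt.1 hle)
    omega
  have hker : (MulAction.toPermHom G (G ⧸ R)).ker = ⊥ := by
    rw [← Subgroup.normalCore_eq_ker]
    exact (R.normalCore_normal.eq_bot_or_eq_top).resolve_right fun e =>
      hne (top_le_iff.1 (e ▸ R.normalCore_le))
  have hd : Nat.card G ∣ Nat.card (Equiv.Perm (G ⧸ R)) :=
    Subgroup.card_dvd_of_injective _ ((MonoidHom.ker_eq_bot_iff _).1 hker)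
  rw [Nat.card_perm, ← Subgroup.index_eq_card] at hd
  have := (hp.dvd_factorial).1 (hpG.trans hd)
  omega

end Cfsg.Lib.CosetEnum
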