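import Mathlib

/-!
# The action on a block system
-/

set_option autoImplicit false

namespace Cfsg.Lib.CosetEnum

/-- An action permuting the fibres of a surjection on generators acts on the target. -/
theorem exists_block_action {H : Type*} [Group H] {α β : Type*} (ρ : H →* Equiv.Perm α)
    (b : α → β) (hb : Function.Surjective b) {s : Set H} (hs : Subgroup.closure s = ⊤)
    (hcompat : ∀ a ∈ s, ∃ τ : Equiv.Perm β, ∀ j, b (ρ a j) = τ (b j)) :
    ∃ π : H →* Equiv.Perm β, ∀ a j, b (ρ a j) = π a (b j) := by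
  have hex : ∀ a : H, ∃ τ : Equiv.Perm β, ∀ j, b (ρ a j) = τ (b j) := by
    intro a
    have ha : a ∈ Subgroup.closure s := hs ▸ Subgroup.mem_top a
    induction ha using Subgroup.closure_induction with
    | mem y hy => exact hcompat y hy
    | one => exact ⟨1, fun j => by simp⟩
    | mul y z _ _ hy hz =>
      obtain ⟨σ, hσ⟩ := hy; obtain ⟨τ, hτ⟩ := hz
      exact ⟨σ * τ, fun j => by
        rw [map_mul, Equiv.Perm.mul_apply, hσ, hτ, Equiv.Perm.mul_apply]⟩
    | inv y _ hy =>
      obtain ⟨σ, hσ⟩ := hy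
      refine ⟨σ⁻¹, fun j => ?_⟩
      rw [map_inv, Equiv.Perm.inv_def σ, Equiv.eq_symm_apply, ← hσ, Equiv.Perm.inv_def,
        Equiv.apply_symm_apply]
  choose τ hτ using hex
  refine ⟨MonoidHom.mk' τ fun a c => Equiv.ext fun q => ?_, fun a j => hτ a j⟩
  obtain ⟨j, rfl⟩ := hb q
  rw [← hτ (a * c) j, map_mul, Equiv.Perm.mul_apply, hτ, hτ, Equiv.Perm.mul_apply]

end Cfsg.Lib.CosetEnum
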