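import Cfsg.Agent.Lib.CosetEnum.Fi22Table
import Cfsg.Agent.Lib.CosetEnum.Fi22Out.Valid
import Cfsg.Agent.Lib.CosetEnum.Trans.ClassTwo
import Cfsg.Agent.Lib.CosetEnum.Trans.Twist

/-!
# The outer automorphism group of the presented group Fi22 has order two
-/

set_option autoImplicit false

namespace Cfsg.Lib.CosetEnum.Fi22Out

open Cfsg.Spor

set_option maxRecDepth 100000

theorem simple_fi22 : IsSimpleGroup Cfsg.Spor.Fi22 :=
  (show Cfsg.IsFi22 Cfsg.Spor.Fi22 from Fi22Pres.isFi22).1

theorem card_out : Nat.card (Cfsg.Out Cfsg.Spor.Fi22) = 2 := by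
  obtain ⟨A, hZ, hk, hp, -, hd0, hp0, hd1, hidx, hD⟩ := exists_table
  have hFi : Cfsg.IsFi22 Cfsg.Spor.Fi22 := Fi22Pres.isFi22
  have hsimple : IsSimpleGroup Cfsg.Spor.Fi22 := simple_fi22
  have hfin : Finite Cfsg.Spor.Fi22 := Nat.finite_of_card_ne_zero (by rw [hFi.2]; decide)
  have hc : Subgroup.center Cfsg.Spor.Fi22 = ⊥ := by
    refine ((Subgroup.center Cfsg.Spor.Fi22).normal_of_characteristic.eq_bot_or_eq_top).resolve_right
      fun h => ?_
    let : CommGroup Cfsg.Spor.Fi22 := Group.commGroupOfCenterEqTop h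
    have := IsSimpleGroup.prime_card (α := Cfsg.Spor.Fi22)
    rw [hFi.2] at this
    exact Nat.not_prime_mul (a := 2) (b := 32280875827200) (by decide) (by decide) this
  have hk0 : 0 < A.k := by rw [hk]; decide
  have hframe : frameOK A.Z A.k A.pts fg aux = true := by rw [hZ, hk, hp]; exact frame_ok
  have hnorm : normOK A.Z A.k 3510 us (framePts A.Z A.k A.pts fg aux) = true := by
    rw [hZ, hk, hp]; exact norm_ok
  have hswap : swapsOK A.Z A.k us (framePts A.Z A.k A.pts fg aux) swaps = true := by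
    rw [hZ, hk, hp]; exact swaps_ok
  have hprods : prods.all (fun s => s.all fun l => Nat.blt l swaps.length) = true := by decide +kernel
  have hchain : A.CentChain (conjWord baseWord :: squareWords (frameWords fg aux) swaps prods)
      chain := by
    simp only [chain, TransTable.CentChain, hZ, hk, hp]
    exact ⟨by decide +kernel, chain0_ok, by decide +kernel, chain1_ok, by decide +kernel, chain2_ok,
      by decide +kernel, chain3_ok, by decide +kernel, chain4_ok, by decide +kernel, chain5_ok,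
      by decide +kernel, chain6_ok, by decide +kernel, chain7_ok, by decide +kernel, chain8_ok,
      by decide +kernel⟩
  have hcard : Nat.card (A.cent (squareWords (frameWords fg aux) swaps prods)) ≤ entries.length := by
    refine le_trans (A.card_cent_point hk0 (by rw [hk]; decide +kernel) (w₀ := baseWord)
      (by rw [hk]; decide +kernel) (cand := cand) (by rw [hZ, hk, hp]; exact cand_ok)) ?_
    rw [entries_len]
    exact Nat.mul_le_mul_left _ (A.card_cent_le hc chain _ hchain)
  have hcases : ∀ t ∈ A.cent (squareWords (frameWords fg aux) swaps prods), t = 1 ∨ IsConj A.d t ∨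
      ∃ a, (t * (a * t * a⁻¹)) ^ 2 ≠ 1 ∧ (t * (a * t * a⁻¹)) ^ 3 ≠ 1 := fun t ht =>
    A.cent_cases_of_card hframe (fun w hw => A.frame_mem_cent_squares hframe hswap hprods hw)
      entries_inc hcard (ps := codePts)
      (fun p hp' => by simpa using List.all_eq_true.1 codePts_lt p hp')
      (fun e he => by rw [hZ, hk]; exact List.all_eq_true.1 entries_ok e he) ht
  have htwo : (Subgroup.centralizer ({A.d} : Set Cfsg.Spor.Fi22)).index.factorization 2 ≤ 1 := by
    rw [hidx, show (3510 : ℕ) = 2 * 1755 by norm_num, Nat.factorization_mul (by norm_num) (by norm_num),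
      Finsupp.add_apply, Nat.prime_two.factorization_self,
      Nat.factorization_eq_zero_of_not_dvd (show ¬ 2 ∣ 1755 by norm_num)]
  have hmap := fun φ : MulAut Cfsg.Spor.Fi22 =>
    A.exists_delta_map_two htwo hd1 hD hframe hnorm hswap hprods hcases φ
  classical
  let τ : MulAut Cfsg.Spor.Fi22 → ℕ → Fin 3510 := fun φ r =>
    if h : r < A.k then (hmap φ ⟨A.pts.getD r 0, A.pts_lt h⟩).choose else A.p₀
  have hτ : ∀ φ, ∀ r < A.k, A.delta (τ φ r) = φ (A.x r) := by
    intro φ r hr
    simp only [τ, dif_pos hr]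
    rw [(hmap φ ⟨A.pts.getD r 0, A.pts_lt hr⟩).choose_spec, A.delta_pts hr]
  -- the twist
  obtain ⟨σ, π, hπval, hπ⟩ := A.exists_twist (Pi := twist) (sub := sub) (by decide)
    (by rw [hZ, hk]; exact twist_ok) (by rw [hp0]; decide +kernel) hk0 hd0 (by decide +kernel)
  have hodd : Equiv.Perm.sign π = -1 := by
    refine sign_involution π (Equiv.ext fun p => Fin.ext ?_) (m := 1575) (by decide) ?_
    · show (π (π p)).1 = p.1
      have h := twist_ok
      simp only [twistOK, Bool.and_eq_true] at h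
      have := scanOK_get h.2 p.1 (Nat.zero_le _) (by omega) (condsB_iff.2 (by simp))
      simp only [force_eq, Bool.and_eq_true, Nat.beq_eq, and_assoc] at this
      rw [hπval, hπval]
      exact this.2.1
    · have h : ((Finset.univ.filter fun i => π i = i) : Finset (Fin 3510)).card = fixCount twist 3510 := by
        rw [fixCount_eq, ← Finset.card_map Fin.valEmbedding]
        congr 1
        ext j
        simp only [Finset.mem_map, Finset.mem_filter, Finset.mem_univ, true_and, Finset.mem_range,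
          Fin.valEmbedding_apply]
        constructor
        · rintro ⟨i, hi, rfl⟩
          exact ⟨i.2, by rw [← hπval, hi]⟩
        · rintro ⟨hj, he⟩
          exact ⟨⟨j, hj⟩, Fin.ext ((hπval _).trans he), rfl⟩
      rw [h, fix_ok]
  have hσ : σ ∉ Cfsg.Inn Cfsg.Spor.Fi22 := A.twist_not_inn (by rw [hFi.2]; decide) hπ hodd
  have step : ∀ (φ : MulAut Cfsg.Spor.Fi22) {t : ℕ → Fin 3510}, (∀ r < A.k, A.delta (t r) = φ (A.x r)) →
      ∀ {prev : List (ℕ × ℕ)} {r : ℕ} {reps : List Rep},
      repsOK Fi22U62.tabP 9 pts prev r reps = true →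
      scanOK Fi22U62.tabP 9 (roleConds Fi22U62.tabP 9 pts prev r) (roleMem pts prev reps) 3510 0 = true →
      (∀ R ∈ reps, orbitOK Fi22U62.tabP R.O R.Pos 9 3510 R.c R.U R.c 0 = true) →
      A.State t prev → ∃ R ∈ reps, A.State t (prev ++ [(r, R.g)]) :=
    fun φ t ht _ _ _ h1 h2 h3 h => A.state_step φ ht (by rw [hZ, hk, hp]; exact h1)
      (by rw [hZ, hk, hp]; exact h2) (by rw [hZ, hk]; exact h3) h
  have finish : ∀ (φ : MulAut Cfsg.Spor.Fi22) {t : ℕ → Fin 3510},
      (∀ r < A.k, A.delta (t r) = φ (A.x r)) → A.State t prevN5 → φ ∈ Cfsg.Inn Cfsg.Spor.Fi22 := by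
    intro φ t ht s4
    obtain ⟨R, hR, s5⟩ := step φ ht repsN5_ok scanN5_ok (by simpa [repsN5] using orbN5_8_ok) s4
    obtain rfl : R = repN5_8 := by simpa [repsN5] using hR
    obtain ⟨R, hR, s6⟩ := step φ ht repsN6_ok scanN6_ok (by simpa [repsN6] using orbN6_4_ok) s5
    obtain rfl : R = repN6_4 := by simpa [repsN6] using hR
    obtain ⟨R, hR, s7⟩ := step φ ht repsN7_ok scanN7_ok (by simpa [repsN7] using orbN7_5_ok) s6
    obtain rfl : R = repN7_5 := by simpa [repsN7] using hR
    obtain ⟨R, hR, s8⟩ := step φ ht repsN8_ok scanN8_ok (by simpa [repsN8] using orbN8_6_ok) s7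
    obtain rfl : R = repN8_6 := by simpa [repsN8] using hR
    refine A.mem_inn φ ht ?_ s8
    rw [hk]
    decide +kernel
  refine card_out_eq_two hσ fun φ => ?_
  have s0 : A.State (τ φ) [(0, 0)] := A.state_first (τ φ) hk0
  obtain ⟨R, hR, s1⟩ := step φ (hτ φ) repsN1_ok scanN1_ok (by simpa [repsN1] using orbN1_1_ok) s0
  obtain rfl : R = repN1_1 := by simpa [repsN1] using hR
  obtain ⟨R, hR, s2⟩ := step φ (hτ φ) repsN2_ok scanN2_ok (by simpa [repsN2] using orbN2_2_ok) s1
  obtain rfl : R = repN2_2 := by simpa [repsN2] using hR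
  obtain ⟨R, hR, s3⟩ := step φ (hτ φ) repsN3_ok scanN3_ok (by simpa [repsN3] using orbN3_3_ok) s2
  obtain rfl : R = repN3_3 := by simpa [repsN3] using hR
  obtain ⟨R, hR, s4⟩ := step φ (hτ φ) repsN4_ok scanN4_ok
    (by simpa [repsN4] using ⟨orbN4_7_ok, orbN4_4_ok, orbN4_9_ok⟩) s3
  obtain rfl | rfl | rfl : R = repN4_7 ∨ R = repN4_4 ∨ R = repN4_9 := by simpa [repsN4] using hR
  · exact Or.inl (finish φ (hτ φ) s4)
  · obtain ⟨R, hR, s5⟩ := step φ (hτ φ) repsM_ok scanM_ok (by simpa [repsM] using orbM_5_ok) s4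
    obtain rfl : R = repM_5 := by simpa [repsM] using hR
    exact (A.leaf_false_pair φ (hτ φ) (r := 5) (s := 6) (c := 92) (by rw [hk]; decide) (by rw [hk]; decide)
      (by rw [hp]; decide +kernel) (by rw [hk]; decide +kernel)
      (by rw [hZ, hk, hp]; exact leaf5_ok) (by rw [hZ, hk, hp]; exact leaf6_ok) s5).elim
  · refine Or.inr (finish (σ⁻¹ * φ) (t := fun r => π.symm (τ φ r)) (fun r hr => ?_) ?_)
    · have h := hπ (π.symm (τ φ r))
      rw [Equiv.apply_symm_apply, hτ φ r hr] at h
      show _ = σ.symm (φ (A.x r))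
      rw [h, MulEquiv.symm_apply_apply]
    · refine A.state_twist hπ (fun e he => ?_) s4
      have hall : ∀ e ∈ prevN5, ∃ g, (e.1, g) ∈ prevN4 ++ [(7, repN4_9.g)] ∧
          twist.getP (pts.getD e.2 0) = pts.getD g 0 := by
        intro e he
        simp only [prevN5, List.mem_cons, List.not_mem_nil, or_false] at he
        rcases he with rfl | rfl | rfl | rfl | rfl
        · exact ⟨0, by decide, by decide +kernel⟩
        · exact ⟨1, by decide, by decide +kernel⟩
        · exact ⟨2, by decide, by decide +kernel⟩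
        · exact ⟨3, by decide, by decide +kernel⟩
        · exact ⟨9, by decide, by decide +kernel⟩
      obtain ⟨g, hg, hgp⟩ := hall e he
      refine ⟨g, hg, fun p hpv => ?_⟩
      have he2 : e.2 < A.k := by
        rw [hk]
        exact (show ∀ e ∈ prevN5, e.2 < 9 by decide +kernel) e he
      have : π ⟨A.pts.getD e.2 0, A.pts_lt he2⟩ = p := Fin.ext (by rw [hπval, hpv]; show twist.getP (A.pts.getD e.2 0) = _; rw [hp]; exact hgp)
      rw [← this, Equiv.symm_apply_apply]

end Cfsg.Lib.CosetEnum.Fi22Out
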