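import Cfsg.Agent.Lib.CosetEnum.Fi22Table
import Cfsg.Agent.Lib.CosetEnum.Fi22Mult.Valid
import Cfsg.Agent.Lib.CosetEnum.Trans.Same

/-!
# The centraliser of a transposition of Fi22 is perfect
-/

set_option autoImplicit false
set_option maxRecDepth 100000

open scoped commutatorElement

namespace Cfsg.Lib.CosetEnum.Fi22Mult

open Cfsg.Spor
open Fi22Out (pts exists_table)

/-- A product of conjugates stays in a subgroup normalised by the conjugating elements. -/
theorem conjProd_mem {G : Type*} [Group G] {x : ℕ → G} (hx : ∀ g, x g * x g = 1) {C K : Subgroup G}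
    (hnorm : ∀ c ∈ C, ∀ a ∈ K, c * a * c⁻¹ ∈ K) {sub : List (List ℕ)}
    (hsub : ∀ s : List ℕ, wordVal x (prodWord sub s) ∈ C) {r : ℕ} (hr : wordVal x [r] ∈ K) :
    ∀ us : List (List ℕ), wordVal x (conjProd sub r us) ∈ K
  | [] => one_mem K
  | s :: us => by
    rw [conjProd, List.flatMap_cons, wordVal_append, wordVal_append, wordVal_append,
      wordVal_reverse hx]
    refine mul_mem (conjProd_mem hx hnorm hsub hr us) ?_
    rw [← mul_assoc]
    exact hnorm _ (hsub s) _ hr

/-- Modulo the derived subgroup such a product is a power. -/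
theorem conjProd_mul_pow {G : Type*} [Group G] {x : ℕ → G} (hx : ∀ g, x g * x g = 1) {C : Subgroup G}
    {sub : List (List ℕ)} (hsub : ∀ s : List ℕ, wordVal x (prodWord sub s) ∈ C) {r : ℕ}
    (hre : r ≠ eps) (hr : x r ∈ C) :
    ∀ us : List (List ℕ), wordVal x (conjProd sub r us) * x r ^ us.length ∈ ⁅C, C⁆
  | [] => by
    simp only [conjProd, List.flatMap_nil, List.length_nil, pow_zero, mul_one]
    exact one_mem _
  | s :: us => by
    have ih := conjProd_mul_pow hx hsub hre hr us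
    rw [conjProd, List.flatMap_cons, wordVal_append, wordVal_append, wordVal_append,
      wordVal_reverse hx, List.length_cons, ← conjProd]
    set P := wordVal x (conjProd sub r us)
    set U := wordVal x (prodWord sub s)
    have hr1 : wordVal x [r] = x r := by simp [wordVal, gen, hre]
    rw [hr1]
    have hinv : (x r)⁻¹ = x r := inv_eq_of_mul_eq_one_left (hx r)
    have h1 : ⁅U, x r⁆ ∈ ⁅C, C⁆ := Subgroup.commutator_mem_commutator (hsub s) hr
    have hc : x r ^ us.length ∈ C := pow_mem hr _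
    have h2 : (x r ^ us.length)⁻¹ * ⁅U, x r⁆ * x r ^ us.length ∈ ⁅C, C⁆ := by
      have hn : C ≤ Subgroup.normalizer ((⁅C, C⁆ : Subgroup G) : Set G) :=
        Subgroup.normalizer_commutator_ge_left C C
      have := (Subgroup.mem_normalizer_iff.1 (hn (inv_mem hc)) ⁅U, x r⁆).1 h1
      rwa [inv_inv] at this
    have e : P * (U * (x r * U⁻¹)) * x r ^ (us.length + 1) =
        P * x r ^ us.length * ((x r ^ us.length)⁻¹ * ⁅U, x r⁆ * x r ^ us.length) := by
      rw [commutatorElement_def, hinv, pow_succ']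
      group
    rw [e]
    exact mul_mem ih h2

theorem centralizer_perfect (A : TransTable Cfsg.Spor.Fi22 3510) (hZ : A.Z = Fi22U62.tabP)
    (hk : A.k = 9) (hp : A.pts = pts) (hA : A.x = Fi22Pres.numbering.gens Fi22.extra)
    (hd : A.d = A.x 0) (hp0 : A.p₀.1 = 0) (hc : Subgroup.center Cfsg.Spor.Fi22 = ⊥)
    (hidx : (Subgroup.centralizer ({A.d} : Set Cfsg.Spor.Fi22)).index = 3510) :
    Subgroup.centralizer ({A.d} : Set Cfsg.Spor.Fi22) ≤
      ⁅Subgroup.centralizer ({A.d} : Set Cfsg.Spor.Fi22),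
        Subgroup.centralizer ({A.d} : Set Cfsg.Spor.Fi22)⁆ := by
  set C := Subgroup.centralizer ({A.d} : Set Cfsg.Spor.Fi22) with hCdef
  let N := Fi22Pres.numbering
  have hk9 : ∀ {g}, g < 9 → g < A.k := fun h => by rw [hk]; exact h
  have hfix := sub_fix
  simp only [List.all_eq_true, Bool.and_eq_true, Nat.blt_eq, Nat.beq_eq] at hfix
  have hsubC : ∀ u ∈ Fi22U62.subWords, wordVal A.x u ∈ C := fun u hu => by
    obtain ⟨hlt, hw⟩ := hfix u hu
    rw [hCdef, Subgroup.mem_centralizer_singleton_iff, ← A.stab]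
    refine Fin.ext ?_
    rw [A.walk_apply (fun g hg => hk9 (hlt g hg)), hZ, hk, hp0]
    exact hw
  have hprodC : ∀ s : List ℕ, wordVal A.x (prodWord Fi22U62.subWords s) ∈ C := by
    intro s
    induction s with
    | nil => exact one_mem C
    | cons j s ih =>
      rw [show prodWord Fi22U62.subWords (j :: s) =
        Fi22U62.subWords.getD j [] ++ prodWord Fi22U62.subWords s from rfl, wordVal_append]
      refine mul_mem ih ?_
      rcases Nat.lt_or_ge j Fi22U62.subWords.length with h | h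
      · rw [List.getD_eq_getElem _ _ h]
        exact hsubC _ (List.getElem_mem h)
      · rw [List.getD_eq_default _ _ h]
        exact one_mem C
  have hsame : ∀ {u v : List ℕ}, sameOK Fi22U62.tabP 9 pts u v = true →
      wordVal A.x u = wordVal A.x v := fun h =>
    A.eq_of_sameOK hc (by rw [hZ, hk, hp]; exact h)
  have hgen : ∀ g < 9, g ≠ 1 → A.x g ∈ C := by
    intro g hg hg1
    rw [← A.wordVal_singleton (hk9 hg)]
    refine hsubC _ ?_
    interval_cases g <;> first | omega | decide +kernel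
  have hx2 : A.x 2 ∈ ⁅C, C⁆ := by
    have h := conjProd_mul_pow A.sq hprodC (r := 2) (by decide) (hgen 2 (by decide) (by decide))
      oneFactors
    rw [hsame one_ok] at h
    have hlen : oneFactors.length = 2 * 3 + 1 := by decide +kernel
    rw [hlen, pow_succ, pow_mul, pow_two, A.sq, one_pow, one_mul] at h
    simpa [wordVal] using h
  have hnorm : ∀ c ∈ C, ∀ a ∈ ⁅C, C⁆, c * a * c⁻¹ ∈ ⁅C, C⁆ := fun c hc' a ha =>
    (Subgroup.mem_normalizer_iff.1 (Subgroup.normalizer_commutator_ge_left C C hc') a).1 ha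
  have hprod : ∀ us, wordVal A.x (conjProd Fi22U62.subWords 2 us) ∈ ⁅C, C⁆ :=
    conjProd_mem A.sq hnorm hprodC (by rw [A.wordVal_singleton (hk9 (by decide))]; exact hx2)
  have hstep : ∀ a ∈ [2, 3, 4, 5, 6, 7, 8], ∀ b ∈ [2, 3, 4, 5, 6, 7, 8],
      sameOK Fi22U62.tabP 9 pts [a, b, a, b, a] [b] = true → A.x a ∈ ⁅C, C⁆ → A.x b ∈ ⁅C, C⁆ := by
    intro a ha b hb he hax
    have hlt : ∀ g ∈ [2, 3, 4, 5, 6, 7, 8], g < 9 ∧ g ≠ 1 ∧ g ≠ eps := by decide
    obtain ⟨ha9, ha1, hae⟩ := hlt a ha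
    obtain ⟨hb9, hb1, hbe⟩ := hlt b hb
    have h := hsame he
    simp only [wordVal, gen, if_neg hae, if_neg hbe, one_mul] at h
    rw [← h]
    have hcm : A.x a * A.x b ∈ C := mul_mem (hgen a ha9 ha1) (hgen b hb9 hb1)
    have := hnorm _ hcm _ hax
    rw [mul_inv_rev, inv_eq_of_mul_eq_one_left (A.sq a), inv_eq_of_mul_eq_one_left (A.sq b),
      ← mul_assoc] at this
    exact this
  have h3 := hstep 2 (by simp) 3 (by simp) (by decide +kernel) hx2
  have h4 := hstep 3 (by simp) 4 (by simp) (by decide +kernel) h3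
  have h5 := hstep 4 (by simp) 5 (by simp) (by decide +kernel) h4
  have h6 := hstep 5 (by simp) 6 (by simp) (by decide +kernel) h5
  have h7 := hstep 3 (by simp) 7 (by simp) (by decide +kernel) h3
  have h8 := hstep 7 (by simp) 8 (by simp) (by decide +kernel) h7
  -- the listed words generate the centraliser
  obtain ⟨hH, -⟩ := Cfsg.Agent.S1687.result
  have hK := N.map_closure Fi22.extra (Us := [Fi22.a, Fi22.c, Fi22.d, Fi22.e, Fi22.f, Fi22.g, Fi22.h, Fi22.i,
      (Fi22.a * Fi22.b * Fi22.c * Fi22.d * Fi22.e * Fi22.h) ^ 5])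
    (U := Fi22U62.subWords)
    (by simp [Fi22U62.subWords, wordVal, gen, eps, N, Fi22Pres.numbering, Fi22Pres.num, pow_succ, mul_assoc])
    (s := {Fi22.a, Fi22.c, Fi22.d, Fi22.e, Fi22.f, Fi22.g, Fi22.h, Fi22.i,
      (Fi22.a * Fi22.b * Fi22.c * Fi22.d * Fi22.e * Fi22.h) ^ 5})
    (by ext w; simp)
  rw [hK] at hH
  have hle : Subgroup.closure (wordVal (N.gens Fi22.extra) '' {u | u ∈ Fi22U62.subWords}) ≤ C := by
    rw [Subgroup.closure_le]
    rintro _ ⟨u, hu, rfl⟩
    rw [← hA]
    exact hsubC u hu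
  have hCH : C ≤ Subgroup.closure (wordVal (N.gens Fi22.extra) '' {u | u ∈ Fi22U62.subWords}) := by
    have hr := Subgroup.relIndex_mul_index hle
    rw [hidx, hH] at hr
    exact Subgroup.relIndex_eq_one.1 (by omega)
  refine hCH.trans ?_
  rw [Subgroup.closure_le]
  rintro _ ⟨u, hu, rfl⟩
  rw [← hA]
  have hs : ∀ g, g < 9 → wordVal A.x [g] = A.x g := fun g hg => A.wordVal_singleton (hk9 hg)
  simp only [Fi22U62.subWords, Set.mem_ofPred_eq, List.mem_cons, List.not_mem_nil, or_false] at hu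
  rcases hu with rfl | rfl | rfl | rfl | rfl | rfl | rfl | rfl | rfl
  · rw [← hsame first_ok]; exact hprod _
  · rw [hs _ (by decide)]; exact hx2
  · rw [hs _ (by decide)]; exact h3
  · rw [hs _ (by decide)]; exact h4
  · rw [hs _ (by decide)]; exact h5
  · rw [hs _ (by decide)]; exact h6
  · rw [hs _ (by decide)]; exact h7
  · rw [hs _ (by decide)]; exact h8
  · rw [show ([7, 4, 3, 2, 1, 0, 7, 4, 3, 2, 1, 0, 7, 4, 3, 2, 1, 0, 7, 4, 3, 2, 1, 0, 7, 4, 3, 2, 1, 0] : List ℕ) =
      Fi22U62.subWords.getD 8 [] by decide +kernel, ← hsame last_ok]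
    exact hprod _

end Cfsg.Lib.CosetEnum.Fi22Mult
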