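import Cfsg.Agent.Lib.CosetEnum.GFFour
import Cfsg.Agent.Lib.CosetEnum.Index

/-!
# Matrices over the field with four elements, a row packed into two numbers
-/

set_option autoImplicit false

namespace Cfsg.Lib.CosetEnum.MatList

/-- The element with two given coordinates. -/
def ofBits : Bool → Bool → GF4
  | false, false => GF4.o
  | true, false => GF4.i
  | false, true => GF4.w
  | true, true => GF4.v

/-- An entry of a packed row. -/
def elemP (r : ℕ × ℕ) (j : ℕ) : GF4 := ofBits (r.1.testBit j) (r.2.testBit j)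

/-- Add a multiple of a packed row to another. -/
def addRow : GF4 → ℕ × ℕ → ℕ × ℕ → ℕ × ℕ
  | GF4.o, _, acc => acc
  | GF4.i, r, acc => (r.1 ^^^ acc.1, r.2 ^^^ acc.2)
  | GF4.w, r, acc => (r.2 ^^^ acc.1, (r.1 ^^^ r.2) ^^^ acc.2)
  | GF4.v, r, acc => ((r.1 ^^^ r.2) ^^^ acc.1, r.1 ^^^ acc.2)

/-- A combination of packed rows. -/
noncomputable def comb : List GF4 → List (ℕ × ℕ) → ℕ × ℕ
  | c :: cs, r :: rs => match addRow c r (comb cs rs) with
    | (a, b) => force a fun a => force b fun b => (a, b)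
  | _, _ => (0, 0)

/-- The product of a matrix given by rows of entries and one given by packed rows. -/
noncomputable def mulL (A : List (List GF4)) (B : List (ℕ × ℕ)) : List (ℕ × ℕ) :=
  A.map fun r => comb r B

/-- A scalar matrix. -/
def scalL (m : ℕ) (c : GF4) : List (ℕ × ℕ) :=
  (List.range m).map fun i => addRow c (2 ^ i, 0) (0, 0)

/-- The matrix of a list of rows of entries. -/
def toMat (m : ℕ) (A : List (List GF4)) : Matrix (Fin m) (Fin m) GF4 :=
  fun i j => (A.getD i.1 []).getD j.1 0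

/-- The matrix of a list of packed rows. -/
def toMatP (m : ℕ) (B : List (ℕ × ℕ)) : Matrix (Fin m) (Fin m) GF4 :=
  fun i j => elemP (B.getD i.1 (0, 0)) j.1

/-- A square list. -/
def shapeOK (m : ℕ) (A : List (List GF4)) : Bool :=
  Nat.beq A.length m && A.all fun r => Nat.beq r.length m

theorem shapeOK_iff {m : ℕ} {A : List (List GF4)} :
    shapeOK m A = true ↔ A.length = m ∧ ∀ r ∈ A, r.length = m := by
  simp [shapeOK, List.all_eq_true]

theorem elemP_zero (j : ℕ) : elemP (0, 0) j = 0 := by
  simp [elemP, ofBits]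
  rfl

theorem elemP_addRow (c : GF4) (r acc : ℕ × ℕ) (j : ℕ) :
    elemP (addRow c r acc) j = c * elemP r j + elemP acc j := by
  obtain ⟨a, b⟩ := r
  obtain ⟨a', b'⟩ := acc
  cases c <;> simp only [addRow, elemP, Nat.testBit_xor] <;>
    cases a.testBit j <;> cases b.testBit j <;> cases a'.testBit j <;> cases b'.testBit j <;> rfl

theorem comb_cons (c : GF4) (cs : List GF4) (r : ℕ × ℕ) (rs : List (ℕ × ℕ)) :
    comb (c :: cs) (r :: rs) = addRow c r (comb cs rs) := by
  rw [comb]
  obtain ⟨a, b⟩ := addRow c r (comb cs rs)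
  simp only [force_eq]

theorem comb_spec : ∀ (cs : List GF4) (rs : List (ℕ × ℕ)), cs.length = rs.length → ∀ j,
    elemP (comb cs rs) j = ∑ i : Fin cs.length, cs.getD i.1 0 * elemP (rs.getD i.1 (0, 0)) j
  | [], [], _, j => by
    simp only [List.length_nil, Finset.univ_eq_empty, Finset.sum_empty, comb]
    exact elemP_zero j
  | c :: cs, r :: rs, hlen, j => by
    rw [comb_cons, elemP_addRow, comb_spec cs rs (by simpa using hlen) j,
      show (∑ i : Fin (c :: cs).length, (c :: cs).getD i.1 0 * elemP ((r :: rs).getD i.1 (0, 0)) j) =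
        ∑ i : Fin (cs.length + 1), (c :: cs).getD i.1 0 * elemP ((r :: rs).getD i.1 (0, 0)) j from rfl,
      Fin.sum_univ_succ]
    rfl

theorem toMatP_mulL {m : ℕ} {A : List (List GF4)} {B : List (ℕ × ℕ)} (hA : shapeOK m A = true)
    (hB : B.length = m) :
    (mulL A B).length = m ∧ toMatP m (mulL A B) = toMat m A * toMatP m B := by
  obtain ⟨hA1, hA2⟩ := shapeOK_iff.1 hA
  refine ⟨by simp [mulL, hA1], ?_⟩
  ext i j
  have hi : i.1 < A.length := by rw [hA1]; exact i.2
  have hlen : A[i.1].length = m := hA2 _ (List.getElem_mem hi)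
  rw [Matrix.mul_apply]
  show elemP ((mulL A B).getD i.1 (0, 0)) j.1 = _
  rw [show (mulL A B).getD i.1 (0, 0) = comb A[i.1] B by
      simp [mulL, List.getD_eq_getElem?_getD, hi],
    comb_spec A[i.1] B (by rw [hlen, hB]) j.1]
  refine Fintype.sum_equiv (finCongr hlen) _ _ fun l => ?_
  simp only [toMat, toMatP, finCongr_apply, Fin.val_cast, List.getD_eq_getElem _ [] hi]

theorem toMatP_scalL (m : ℕ) (c : GF4) :
    (scalL m c).length = m ∧ toMatP m (scalL m c) = c • (1 : Matrix (Fin m) (Fin m) GF4) := by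
  refine ⟨by simp [scalL], ?_⟩
  ext i j
  simp only [toMatP, scalL, List.getD_eq_getElem?_getD, List.getElem?_map,
    List.getElem?_range i.2, Option.map_some, Option.getD_some, elemP_addRow, elemP_zero, add_zero,
    Matrix.smul_apply, Matrix.one_apply, smul_eq_mul]
  congr 1
  by_cases h : i = j
  · subst h
    rw [if_pos rfl]
    simp [elemP, Nat.testBit_two_pow_self, ofBits]
    rfl
  · rw [if_neg h]
    simp [elemP, Nat.testBit_two_pow_of_ne fun e => h (Fin.ext e), ofBits]
    rfl

/-- Evaluate packed rows before they are used. -/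
noncomputable def forceRows {β : Sort _} : List (ℕ × ℕ) → (List (ℕ × ℕ) → β) → β
  | [], k => k []
  | (a, b) :: l, k => force a fun a => force b fun b => forceRows l fun l => k ((a, b) :: l)

theorem forceRows_eq {β : Sort _} : ∀ (l : List (ℕ × ℕ)) (k : List (ℕ × ℕ) → β), forceRows l k = k l
  | [], _ => rfl
  | (a, b) :: l, k => by rw [forceRows, force_eq, force_eq, forceRows_eq l]

/-- The product of listed matrices, the first letter first. -/
noncomputable def prodL (m : ℕ) (Ms : List (List (List GF4))) : List ℕ → List (ℕ × ℕ)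
  | [] => scalL m GF4.i
  | g :: rest => forceRows (prodL m Ms rest) (mulL (Ms.getD g []))

/-- Equality of lists of packed rows. -/
def eqRows : List (ℕ × ℕ) → List (ℕ × ℕ) → Bool
  | [], [] => true
  | (a, b) :: l, (a', b') :: l' => Nat.beq a a' && Nat.beq b b' && eqRows l l'
  | _, _ => false

theorem eqRows_eq : ∀ {l l' : List (ℕ × ℕ)}, eqRows l l' = true → l = l'
  | [], [], _ => rfl
  | (a, b) :: l, (a', b') :: l', h => by
    simp only [eqRows, Bool.and_eq_true, Nat.beq_eq] at h
    rw [h.1.1, h.1.2, eqRows_eq h.2]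

/-- Products of listed matrices are the values of reversed words. -/
theorem prodL_spec {m : ℕ} {Ms : List (List (List GF4))}
    {u : ℕ → (Matrix (Fin m) (Fin m) GF4)ˣ} (hM : ∀ g < Ms.length, shapeOK m (Ms.getD g []) = true)
    (hu : ∀ g < Ms.length, (u g : Matrix (Fin m) (Fin m) GF4) = toMat m (Ms.getD g []))
    (hlen : Ms.length ≤ eps) : ∀ l : List ℕ, (∀ g ∈ l, g < Ms.length) →
      (prodL m Ms l).length = m ∧
        toMatP m (prodL m Ms l) = ((wordVal u l.reverse : (Matrix (Fin m) (Fin m) GF4)ˣ) :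
          Matrix (Fin m) (Fin m) GF4)
  | [], _ => by
    refine ⟨(toMatP_scalL m _).1, ?_⟩
    rw [prodL, (toMatP_scalL m _).2, show (GF4.i : GF4) = 1 from rfl, one_smul]
    rfl
  | g :: l, h => by
    obtain ⟨h1, h2⟩ := prodL_spec hM hu hlen l fun a ha => h a (by simp [ha])
    have hg := h g (by simp)
    obtain ⟨h3, h4⟩ := toMatP_mulL (hM g hg) h1
    refine ⟨by rw [prodL, forceRows_eq]; exact h3, ?_⟩
    rw [prodL, forceRows_eq, h4, h2, List.reverse_cons, wordVal_append, Units.val_mul, ← hu g hg]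
    simp [wordVal, gen, show g ≠ eps by omega]

/-- A word has the value of a scalar matrix. -/
noncomputable def valOK (m : ℕ) (Ms : List (List (List GF4))) (c : GF4) (w : List ℕ) : Bool :=
  (w.all fun g => Nat.blt g Ms.length) && eqRows (prodL m Ms w.reverse) (scalL m c)

theorem wordVal_of_valOK {m : ℕ} {Ms : List (List (List GF4))}
    {u : ℕ → (Matrix (Fin m) (Fin m) GF4)ˣ} (hM : ∀ g < Ms.length, shapeOK m (Ms.getD g []) = true)
    (hu : ∀ g < Ms.length, (u g : Matrix (Fin m) (Fin m) GF4) = toMat m (Ms.getD g []))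
    (hlen : Ms.length ≤ eps) {c : GF4} {l : List ℕ} (h : valOK m Ms c l = true) :
    ((wordVal u l : (Matrix (Fin m) (Fin m) GF4)ˣ) : Matrix (Fin m) (Fin m) GF4) =
      c • (1 : Matrix (Fin m) (Fin m) GF4) := by
  simp only [valOK, Bool.and_eq_true, List.all_eq_true, Nat.blt_eq] at h
  have := (prodL_spec hM hu hlen l.reverse fun g hg => h.1 g (List.mem_reverse.1 hg)).2
  rw [eqRows_eq h.2, (toMatP_scalL m c).2, List.reverse_reverse] at this
  exact this.symm

/-- A listed matrix squares to the identity. -/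
noncomputable def sqOK (m : ℕ) (A : List (List GF4)) : Bool :=
  eqRows (mulL A (mulL A (scalL m GF4.i))) (scalL m GF4.i)

theorem mul_self_of_sqOK {m : ℕ} {A : List (List GF4)} (hA : shapeOK m A = true)
    (h : sqOK m A = true) : toMat m A * toMat m A = 1 := by
  obtain ⟨h0, e0⟩ := toMatP_scalL m GF4.i
  obtain ⟨h1, e1⟩ := toMatP_mulL hA h0
  obtain ⟨-, e2⟩ := toMatP_mulL hA h1
  rw [eqRows_eq h, e1, e0, show (GF4.i : GF4) = 1 from rfl, one_smul, mul_one] at e2
  exact e2.symm

end Cfsg.Lib.CosetEnum.MatList
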