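import Cfsg.Agent.Lib.CosetEnum.Fi23Table
import Cfsg.Agent.Lib.CosetEnum.Groups.Fi22Simple
import Cfsg.Agent.Lib.CosetEnum.Fi22U62.Valid
import Cfsg.Agent.Lib.CosetEnum.Fi22Mult.Valid23
import Cfsg.Agent.Lib.CosetEnum.Fi22Mult.MatValid
import Cfsg.Agent.Lib.CosetEnum.Trans.Same
import Cfsg.Prelude.Def_KGroupFacts

/-!
# A stem extension of Fi22 with kernel of order six

The double cover is the centraliser of a transposition in Fi23, the triple cover is given by
matrices of degree 27 over the field with four elements.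
-/

set_option autoImplicit false
set_option maxRecDepth 100000

namespace Cfsg.Lib.CosetEnum.Fi22Mult

open Cfsg.Spor
open MatList

theorem exists_cover : ∃ (Γ : Type) (_ : Group Γ) (_ : Finite Γ) (σ : Γ →* Cfsg.Spor.Fi22),
    Cfsg.IsStemExtension σ ∧ Nonempty (σ.ker ≃* Multiplicative (ZMod 6)) := by
  classical
  let N := Fi22Pres.numbering
  have hkeps : N.k ≤ eps := by decide
  -- the part in Fi23
  obtain ⟨A, hZ, hk, hp, hx, -, -, -, -, -⟩ := Fi23Out.exists_table
  let N' := Fi23Pres.numbering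
  have hFi : Cfsg.IsFi23 Cfsg.Spor.Fi23 := Fi23Pres.isFi23
  have hsimple : IsSimpleGroup Cfsg.Spor.Fi23 := hFi.1
  have hc23 : Subgroup.center Cfsg.Spor.Fi23 = ⊥ := by
    refine ((Subgroup.center Cfsg.Spor.Fi23).normal_of_characteristic.eq_bot_or_eq_top).resolve_right
      fun h => ?_
    let : CommGroup Cfsg.Spor.Fi23 := Group.commGroupOfCenterEqTop h
    have hfin : Finite Cfsg.Spor.Fi23 := Nat.finite_of_card_ne_zero (by rw [hFi.2]; decide)
    have := IsSimpleGroup.prime_card (α := Cfsg.Spor.Fi23)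
    rw [hFi.2] at this
    exact Nat.not_prime_mul (a := 2) (b := 2044735236646502400) (by decide) (by decide) this
  have hrel23 : ∀ r ∈ Fi23Fi22.cert.R0, wordVal A.x r = 1 := fun r hr => by
    rw [hx]
    exact N'.wordVal_gens (by decide) (Fi23Pres.map_extra _ (N'.gens_mul_self Fi23.extra)) r
      ((show Fi23Fi22.cert.R0 = N'.pairs ++ Fi23Pres.extra by decide +kernel) ▸ hr)
  have hsame : ∀ {u v : List ℕ}, sameOK Fi23Fi22.tabP 10 Fi23Out.pts u v = true →
      wordVal A.x u = wordVal A.x v := fun h =>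
    A.eq_of_sameOK hc23 (by rw [hZ, hk, hp]; exact h)
  set z := wordVal A.x centre23
  -- the matrices
  have hlenM : mats.length = 9 := mats_shape.1
  have hM : ∀ g < mats.length, shapeOK 27 (mats.getD g []) = true := fun g hg => by
    rw [List.getD_eq_getElem _ _ hg]
    exact List.all_eq_true.1 mats_shape.2 _ (List.getElem_mem hg)
  have hMsq : ∀ g < mats.length, toMat 27 (mats.getD g []) * toMat 27 (mats.getD g []) = 1 :=
    fun g hg => mul_self_of_sqOK (hM g hg) (by
      rw [List.getD_eq_getElem _ _ hg]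
      exact List.all_eq_true.1 mats_sq _ (List.getElem_mem hg))
  let u : ℕ → (Matrix (Fin 27) (Fin 27) GF4)ˣ := fun g =>
    if h : g < mats.length then ⟨toMat 27 (mats.getD g []), toMat 27 (mats.getD g []), hMsq g h, hMsq g h⟩
    else 1
  have hu : ∀ g < mats.length, (u g : Matrix (Fin 27) (Fin 27) GF4) = toMat 27 (mats.getD g []) :=
    fun g hg => by simp only [u, dif_pos hg]
  have hval : ∀ {c : GF4} {r : List ℕ}, valOK 27 mats c r = true →
      ((wordVal u r : (Matrix (Fin 27) (Fin 27) GF4)ˣ) : Matrix (Fin 27) (Fin 27) GF4) =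
        c • (1 : Matrix (Fin 27) (Fin 27) GF4) := fun h =>
    wordVal_of_valOK hM hu (by rw [hlenM]; decide) h
  have hone : ∀ {r : List ℕ}, valOK 27 mats GF4.i r = true → wordVal u r = 1 := fun h =>
    Units.ext (by rw [hval h, show (GF4.i : GF4) = 1 from rfl, one_smul, Units.val_one])
  set Λ := wordVal u (Fi22Pres.extra.getD 0 [])
  have hΛ : (Λ : Matrix (Fin 27) (Fin 27) GF4) = lam • (1 : Matrix (Fin 27) (Fin 27) GF4) :=
    hval mats_spider
  -- the pairs
  let Y : ℕ → Cfsg.Spor.Fi23 × (Matrix (Fin 27) (Fin 27) GF4)ˣ := fun g =>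
    if g < 9 then (A.x (to23 g), u g) else 1
  have hY : ∀ {w : List ℕ}, (∀ g ∈ w, g < 9) →
      wordVal Y w = (wordVal A.x (w.map to23), wordVal u w) := by
    intro w
    induction w with
    | nil => intro _; rfl
    | cons g w ih =>
      intro hw
      have hg := hw g (by simp)
      have hg' : to23 g ≠ eps := by
        have : ∀ g < 9, to23 g ≠ eps := by decide
        exact this g hg
      rw [wordVal, ih fun a ha => hw a (by simp [ha]), List.map_cons, wordVal, wordVal, gen, gen, gen,
        if_neg (show g ≠ eps by simp only [eps]; omega), if_neg hg',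
        if_neg (show g ≠ eps by simp only [eps]; omega)]
      simp only [Y, if_pos hg]
      rfl
  have hYsq : ∀ g, Y g * Y g = 1 := by
    intro g
    simp only [Y]
    split
    · next hg =>
      refine Prod.ext (A.sq _) (Units.ext ?_)
      show (u g : Matrix (Fin 27) (Fin 27) GF4) * u g = 1
      rw [hu g (by rw [hlenM]; exact hg), hMsq g (by rw [hlenM]; exact hg)]
    · exact one_mul 1
  have hrel : ∀ r ∈ N.pairs, wordVal Y r = 1 ∧ ∀ g ∈ r, g < 9 := by
    intro r hr
    have h := List.all_eq_true.1 rel23 r (List.mem_append_left _ hr)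
    simp only [Bool.and_eq_true, List.all_eq_true, Nat.blt_eq, decide_eq_true_eq] at h
    refine ⟨?_, h.1⟩
    rw [hY h.1, hrel23 _ h.2, hone (List.all_eq_true.1 mats_pairs r hr)]
    rfl
  have hlt : ∀ i < 3, ∀ g ∈ Fi22Pres.extra.getD i [], g < 9 := by decide +kernel
  have hspider : wordVal Y (Fi22Pres.extra.getD 0 []) = (1, Λ) := by
    have h := List.all_eq_true.1 rel23 (Fi22Pres.extra.getD 0 []) (by simp)
    simp only [Bool.and_eq_true, List.all_eq_true, Nat.blt_eq, decide_eq_true_eq] at h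
    rw [hY h.1, hrel23 _ h.2]
  have hleft : wordVal Y (Fi22Pres.extra.getD 1 []) = 1 := by
    have h := List.all_eq_true.1 rel23 (Fi22Pres.extra.getD 1 []) (by simp)
    simp only [Bool.and_eq_true, List.all_eq_true, Nat.blt_eq, decide_eq_true_eq] at h
    rw [hY h.1, hrel23 _ h.2, hone mats_left]
    rfl
  have hright : wordVal Y (Fi22Pres.extra.getD 2 []) = (z, 1) := by
    rw [hY (hlt 2 (by decide)), hone mats_right]
    rfl
  -- the central element
  set c : Cfsg.Spor.Fi23 × (Matrix (Fin 27) (Fin 27) GF4)ˣ := (z, Λ) with hcdef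
  have hz2 : z * z = 1 := by
    rw [← wordVal_append, hsame centre23_sq]
    rfl
  have hz1 : z ≠ 1 := by
    intro h
    obtain ⟨g, hg, hne⟩ := centre23_ne
    have hw : ∀ a ∈ centre23, a < A.k := by rw [hk]; decide +kernel
    apply hne
    have := A.walk_apply hw ⟨A.pts.getD g 0, A.pts_lt (by rw [hk]; exact hg)⟩
    rw [show wordVal A.x centre23 = 1 from h, map_one] at this
    have e : twalk A.Z A.k centre23 (A.pts.getD g 0) = A.pts.getD g 0 := this.symm
    simpa only [hZ, hk, hp] using e
  have hΛ3 : Λ ^ 3 = 1 := by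
    refine Units.ext ?_
    rw [Units.val_pow_eq_pow_val, hΛ, smul_pow, one_pow, Units.val_one,
      show lam ^ 3 = 1 by decide +kernel, one_smul]
  have hΛ2 : Λ ^ 2 ≠ 1 := by
    intro h
    have h1 : ((Λ ^ 2 : (Matrix (Fin 27) (Fin 27) GF4)ˣ) : Matrix (Fin 27) (Fin 27) GF4) = 1 := by
      rw [h, Units.val_one]
    rw [Units.val_pow_eq_pow_val, hΛ, smul_pow, one_pow] at h1
    have h' := congrArg (fun M : Matrix (Fin 27) (Fin 27) GF4 => M 0 0) h1
    simp only [Matrix.smul_apply, Matrix.one_apply_eq, smul_eq_mul, mul_one] at h'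
    exact absurd h' (by decide +kernel)
  have hc3 : c ^ 3 = (z, 1) := by
    refine Prod.ext ?_ hΛ3
    show z ^ 3 = z
    rw [pow_succ, pow_two, hz2, one_mul]
  have hc4 : c ^ 4 = (1, Λ) := by
    refine Prod.ext ?_ ?_
    · show z ^ 4 = 1
      rw [show (4 : ℕ) = 2 * 2 from rfl, pow_mul, pow_two z, hz2, one_pow]
    · show Λ ^ 4 = Λ
      rw [pow_succ, hΛ3, one_mul]
  have hc6 : c ^ 6 = 1 := by
    refine Prod.ext ?_ ?_
    · show z ^ 6 = 1
      rw [show (6 : ℕ) = 2 * 3 from rfl, pow_mul, pow_two z, hz2, one_pow]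
    · show Λ ^ 6 = 1
      rw [show (6 : ℕ) = 3 * 2 from rfl, pow_mul, hΛ3, one_pow]
  have horder : orderOf c = 6 := by
    have hdvd := orderOf_dvd_of_pow_eq_one hc6
    have h2 : c ^ 2 ≠ 1 := fun h => hΛ2 (congrArg Prod.snd h)
    have h3 : c ^ 3 ≠ 1 := fun h => hz1 (congrArg Prod.fst (hc3 ▸ h))
    have hmem : orderOf c ∈ Nat.divisors 6 := Nat.mem_divisors.2 ⟨hdvd, by norm_num⟩
    have hpow := pow_orderOf_eq_one c
    rw [show Nat.divisors 6 = {1, 2, 3, 6} by decide] at hmem
    simp only [Finset.mem_insert, Finset.mem_singleton] at hmem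
    rcases hmem with e | e | e | e
    · rw [e, pow_one] at hpow
      exact absurd (by rw [hpow, one_pow]) h2
    · exact absurd (e ▸ hpow) h2
    · exact absurd (e ▸ hpow) h3
    · exact e
  -- the cover
  set H := Subgroup.closure (Y '' {g | g < 9}) with hHdef
  have hYH : ∀ g, Y g ∈ H := fun g => by
    by_cases hg : g < 9
    · exact Subgroup.subset_closure ⟨g, hg, rfl⟩
    · simp only [Y, if_neg hg]; exact one_mem H
  let y : ℕ → H := fun g => ⟨Y g, hYH g⟩
  have hy : ∀ w, ((wordVal y w : H) : Cfsg.Spor.Fi23 × (Matrix (Fin 27) (Fin 27) GF4)ˣ) = wordVal Y w :=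
    fun w => map_wordVal H.subtype y w
  have hcH : c ∈ H := by
    have h : c = wordVal Y (Fi22Pres.extra.getD 0 []) * wordVal Y (Fi22Pres.extra.getD 2 []) := by
      rw [hspider, hright, hcdef, Prod.mk_mul_mk, one_mul, mul_one]
    rw [h, ← hy, ← hy]
    exact mul_mem (wordVal y _).2 (wordVal y _).2
  let c' : H := ⟨c, hcH⟩
  have hcent : ∀ a : H, a * c' = c' * a := by
    have hle : H ≤ Subgroup.centralizer {c} := by
      rw [Subgroup.closure_le]
      rintro _ ⟨g, hg, rfl⟩
      rw [SetLike.mem_coe, Subgroup.mem_centralizer_singleton_iff]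
      simp only [Y, if_pos (show g < 9 from hg), hcdef, Prod.mk_mul_mk]
      refine Prod.ext ?_ (Units.ext ?_)
      · have h := hsame (List.all_eq_true.1 centre23_comm g (List.mem_range.2 hg))
        rw [wordVal_append, wordVal_append] at h
        have hg' : to23 g < A.k := by
          rw [hk]
          have : ∀ g < 9, to23 g < 10 := by decide
          exact this g hg
        rw [A.wordVal_singleton hg'] at h
        exact h
      · show (u g : Matrix (Fin 27) (Fin 27) GF4) * Λ = Λ * u g
        rw [hΛ, mul_smul_comm, smul_mul_assoc, mul_one, one_mul]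
    exact fun a => Subtype.ext (Subgroup.mem_centralizer_singleton_iff.1 (hle a.2))
  set Z := Subgroup.zpowers c'
  have hZc : Z ≤ Subgroup.center H := Subgroup.zpowers_le.2 (Subgroup.mem_center_iff.2 hcent)
  have : Z.Normal := ⟨fun a ha b => by
    rw [Subgroup.mem_center_iff.1 (hZc ha) b, mul_inv_cancel_right]; exact ha⟩
  let q := QuotientGroup.mk' Z
  have hmemZ : ∀ {w : List ℕ} {i : ℕ}, wordVal Y w = c ^ i → q (wordVal y w) = 1 := by
    intro w i h
    refine (QuotientGroup.eq_one_iff _).2 ?_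
    have e : wordVal y w = c' ^ i := Subtype.ext (by rw [hy, h, SubgroupClass.coe_pow])
    rw [e]
    exact pow_mem (Subgroup.mem_zpowers c') i
  have hysq : ∀ g, q (y g) * q (y g) = 1 := fun g => by
    rw [← map_mul, show y g * y g = 1 from Subtype.ext (hYsq g), map_one]
  have hlift := N.lift_eq_one hkeps (fun g => q (y g)) (Fi22Pres.map_extra _ hysq) (by
    intro r hr
    rw [← map_wordVal q y r]
    rcases List.mem_append.1 hr with hr | hr
    · exact hmemZ (i := 0) (by rw [(hrel r hr).1, pow_zero])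
    · obtain ⟨i, hi, rfl⟩ : ∃ i < 3, Fi22Pres.extra.getD i [] = r := by
        have : ∀ r ∈ Fi22Pres.extra, ∃ i < 3, Fi22Pres.extra.getD i [] = r := by decide +kernel
        exact this r hr
      interval_cases i
      · exact hmemZ (i := 4) (hspider.trans hc4.symm)
      · exact hmemZ (i := 0) (by rw [hleft, pow_zero])
      · exact hmemZ (i := 3) (hright.trans hc3.symm))
  let φ : Cfsg.Spor.Fi22 →* H ⧸ Z := PresentedGroup.toGroup hlift
  have hφ : ∀ g < 9, φ (N.gens Fi22.extra g) = q (y g) := fun g hg => by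
    rw [Numbering.gens, if_pos (show g < N.k from hg)]
    refine (PresentedGroup.toGroup.of hlift).trans ?_
    rw [N.num_letter g hg]
  have hsurj : Function.Surjective φ := by
    intro a
    obtain ⟨⟨a, ha⟩, rfl⟩ := QuotientGroup.mk'_surjective Z a
    have hle : H ≤ (φ.range.comap q).map H.subtype := by
      refine (Subgroup.closure_le _).2 ?_
      rintro _ ⟨g, hg, rfl⟩
      exact ⟨y g, ⟨_, hφ g hg⟩, rfl⟩
    obtain ⟨b, hb, hba⟩ := hle ha
    obtain ⟨v, hv⟩ := hb
    exact ⟨v, hv.trans (congrArg q (Subtype.ext hba))⟩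
  have hnc : ¬ y 0 * y 1 = y 1 * y 0 := by
    intro h
    have h' : A.x (to23 0) * A.x (to23 1) = A.x (to23 1) * A.x (to23 0) :=
      congrArg (fun a : H => a.1.1) h
    rw [show to23 0 = 0 from rfl, show to23 1 = 1 from rfl] at h'
    apply noncomm23
    have h0 : (0 : ℕ) < A.k := by rw [hk]; decide
    have h1 : ∀ a ∈ [1], a < A.k := by rw [hk]; decide
    have hf := (A.commute_delta_iff (A.x 1) ⟨A.pts.getD 0 0, A.pts_lt h0⟩).1 (by
      rw [A.delta_pts h0]; exact h'.symm)
    have h2 := A.walk_apply h1 ⟨A.pts.getD 0 0, A.pts_lt h0⟩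
    rw [A.wordVal_singleton (h1 1 (by simp)), hf, hZ, hk] at h2
    simp only [hp] at h2
    exact h2.symm
  have hFi22 : Cfsg.IsFi22 Cfsg.Spor.Fi22 := Fi22Pres.isFi22
  have hsimple22 : IsSimpleGroup Cfsg.Spor.Fi22 := hFi22.1
  have hfin22 : Finite Cfsg.Spor.Fi22 := Nat.finite_of_card_ne_zero (by rw [hFi22.2]; decide)
  have hinj : Function.Injective φ := by
    rw [← MonoidHom.ker_eq_bot_iff]
    refine (φ.normal_ker.eq_bot_or_eq_top).resolve_right fun h => hnc ?_
    have hall : ∀ g < 9, y g ∈ Z := fun g hg => by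
      refine (QuotientGroup.eq_one_iff _).1 ?_
      show q (y g) = 1
      rw [← hφ g hg]
      exact φ.mem_ker.1 (h ▸ Subgroup.mem_top _)
    exact Subgroup.mem_center_iff.1 (hZc (hall 1 (by decide))) (y 0)
  let e := MulEquiv.ofBijective φ ⟨hinj, hsurj⟩
  let σ : H →* Cfsg.Spor.Fi22 := e.symm.toMonoidHom.comp q
  have hkerσ : σ.ker = Z := by
    ext a
    rw [MonoidHom.mem_ker]
    show e.symm (q a) = 1 ↔ a ∈ Z
    rw [EmbeddingLike.map_eq_one_iff]
    exact QuotientGroup.eq_one_iff a
  have hordc' : orderOf c' = 6 := by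
    rw [← horder, ← Subgroup.orderOf_coe c']
  have hcardZ : Nat.card Z = 6 := by rw [Nat.card_zpowers, hordc']
  have : Finite Z := Nat.finite_of_card_ne_zero (by rw [hcardZ]; decide)
  have : Finite (H ⧸ Z) := Finite.of_equiv _ e.toEquiv
  have hfinH : Finite H := Finite.of_subgroup_quotient Z
  -- the kernel lies in the derived subgroup
  have heven : ∀ w : List ℕ, (∀ g ∈ w, g < 9) → Even w.length → wordVal y w ∈ commutator H := by
    let ψ : H →* Abelianization H := Abelianization.of
    have hbraid : ∀ p ∈ [(0, 1), (1, 2), (2, 3), (3, 4), (4, 5), (5, 6), (3, 7), (7, 8)],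
        ψ (y p.2) = ψ (y p.1) := by
      intro p hp
      have hw : (List.replicate 3 [p.2, p.1]).flatten ∈ N.pairs ∧ p.1 ≠ eps ∧ p.2 ≠ eps :=
        (show ∀ q ∈ [(0, 1), (1, 2), (2, 3), (3, 4), (4, 5), (5, 6), (3, 7), (7, 8)],
          (List.replicate 3 [q.2, q.1]).flatten ∈ N.pairs ∧ q.1 ≠ eps ∧ q.2 ≠ eps by decide +kernel) p hp
      have h1 : wordVal y (List.replicate 3 [p.2, p.1]).flatten = 1 :=
        Subtype.ext (by rw [hy, (hrel _ hw.1).1]; rfl)
      rw [wordVal_replicate y _ _ hw.2.1 hw.2.2] at h1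
      have h2 := congrArg ψ h1
      have hs : ∀ g, ψ (y g) * ψ (y g) = 1 := fun g => by
        rw [← map_mul, show y g * y g = 1 from Subtype.ext (hYsq g), map_one]
      rw [map_one, map_pow, map_mul, mul_pow, pow_succ, pow_succ _ 2, pow_two, pow_two, hs, hs,
        one_mul, one_mul] at h2
      rw [eq_inv_of_mul_eq_one_right h2, inv_eq_of_mul_eq_one_left (hs _)]
    have g1 := hbraid (0, 1) (by simp)
    have g2 := (hbraid (1, 2) (by simp)).trans g1
    have g3 := (hbraid (2, 3) (by simp)).trans g2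
    have g4 := (hbraid (3, 4) (by simp)).trans g3
    have g5 := (hbraid (4, 5) (by simp)).trans g4
    have g6 := (hbraid (5, 6) (by simp)).trans g5
    have g7 := (hbraid (3, 7) (by simp)).trans g3
    have g8 := (hbraid (7, 8) (by simp)).trans g7
    have hall : ∀ g < 9, ψ (y g) = ψ (y 0) := fun g hg => by
      interval_cases g <;> first | rfl | assumption
    intro w hw hev
    have hpow : ∀ w : List ℕ, (∀ g ∈ w, g < 9) → ψ (wordVal y w) = ψ (y 0) ^ w.length := by
      intro w
      induction w with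
      | nil => intro _; simp [wordVal]
      | cons g w ih =>
        intro hw
        rw [wordVal, map_mul, ih fun a ha => hw a (by simp [ha]), gen,
          if_neg (show g ≠ eps by have := hw g (by simp); simp only [eps]; omega),
          hall g (hw g (by simp)), List.length_cons, pow_succ]
    rw [← Abelianization.ker_of, MonoidHom.mem_ker, show Abelianization.of (wordVal y w) = ψ (wordVal y w) from rfl,
      hpow w hw]
    obtain ⟨m, hm⟩ := hev
    rw [hm, ← two_mul, pow_mul, pow_two, ← map_mul, show y 0 * y 0 = 1 from Subtype.ext (hYsq 0),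
      map_one, one_pow]
  refine ⟨H, inferInstance, hfinH, σ, ⟨e.symm.surjective.comp (QuotientGroup.mk'_surjective Z),
    hkerσ.le.trans hZc, ?_⟩, ?_⟩
  · refine hkerσ.le.trans (Subgroup.zpowers_le.2 ?_)
    have h4 : c' ^ 4 = wordVal y (Fi22Pres.extra.getD 0 []) :=
      Subtype.ext (by rw [hy, hspider, SubgroupClass.coe_pow]; exact hc4)
    have h3 : c' ^ 3 = wordVal y (Fi22Pres.extra.getD 1 [] ++ Fi22Pres.extra.getD 2 []) :=
      Subtype.ext (by rw [hy, wordVal_append, hleft, hright, mul_one, SubgroupClass.coe_pow]; exact hc3)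
    have e1 : c' = c' ^ 4 * (c' ^ 3)⁻¹ := by rw [pow_succ c' 3]; group
    rw [e1]
    refine mul_mem ?_ (inv_mem ?_)
    · rw [h4]
      exact heven _ (hlt 0 (by decide)) ⟨45, by decide +kernel⟩
    · rw [h3]
      exact heven _ (fun g hg => (List.mem_append.1 hg).elim (hlt 1 (by decide) g) (hlt 2 (by decide) g))
        ⟨63, by decide +kernel⟩
  · have hcyc : IsCyclic Z := inferInstance
    exact ⟨(MulEquiv.subgroupCongr hkerσ).trans
      (((zmodCyclicMulEquiv hcyc).symm).trans (by rw [hcardZ]))⟩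

end Cfsg.Lib.CosetEnum.Fi22Mult
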