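import Cfsg.Agent.Lib.CosetEnum.Fi22Centralizer
import Cfsg.Agent.Lib.CosetEnum.Fi22Cover
import Cfsg.Agent.Lib.CosetEnum.Trans.StemBound

/-!
# The Schur multiplier of the presented group Fi22 is cyclic of order six
-/

set_option autoImplicit false
set_option maxRecDepth 100000

namespace Cfsg.Lib.CosetEnum.Fi22Mult

open Cfsg.Spor

theorem stem_ker {E : Type} [Group E] (σ : E →* Cfsg.Spor.Fi22) (hσ : Cfsg.IsStemExtension σ) :
    ∃ p : Multiplicative (ZMod 6) →* σ.ker, Function.Surjective p := by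
  obtain ⟨hsurj, hker, hcomm⟩ := hσ
  obtain ⟨A, hZ, hk, hp, hx, hd, hp0, -, hidx, -⟩ := Fi22Out.exists_table
  let N := Fi22Pres.numbering
  have hkeps : N.k ≤ eps := by decide
  have hFi : Cfsg.IsFi22 Cfsg.Spor.Fi22 := Fi22Pres.isFi22
  have hsimple : IsSimpleGroup Cfsg.Spor.Fi22 := hFi.1
  have hfin : Finite Cfsg.Spor.Fi22 := Nat.finite_of_card_ne_zero (by rw [hFi.2]; decide)
  have hc : Subgroup.center Cfsg.Spor.Fi22 = ⊥ := by
    refine ((Subgroup.center Cfsg.Spor.Fi22).normal_of_characteristic.eq_bot_or_eq_top).resolve_right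
      fun h => ?_
    let : CommGroup Cfsg.Spor.Fi22 := Group.commGroupOfCenterEqTop h
    have := IsSimpleGroup.prime_card (α := Cfsg.Spor.Fi22)
    rw [hFi.2] at this
    exact Nat.not_prime_mul (a := 2) (b := 32280875827200) (by decide) (by decide) this
  have hperf := centralizer_perfect A hZ hk hp hx hd hp0 hc hidx
  obtain ⟨Q, _, π, ι, hπ, hι, hcomp, ⟨L⟩⟩ :=
    A.exists_lifts hsurj hker (by rw [hd]; exact A.sq 0) hperf
  have hk0 : 0 < A.k := by rw [hk]; decide
  have hws : words.all (fun w => w.all fun g => Nat.blt g A.k) = true := by rw [hk]; exact words_ok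
  have hlt : ∀ r ∈ Fi22Pres.extra, ∀ g ∈ r, g < A.k := by rw [hk]; decide +kernel
  have hrel : ∀ r ∈ N.pairs ++ Fi22Pres.extra, wordVal A.x r = 1 := by
    rw [hx]
    exact N.wordVal_gens hkeps (Fi22Pres.map_extra _ (N.gens_mul_self Fi22.extra))
  have hm1 : relSpider ∈ Fi22Pres.extra := by decide +kernel
  have hm2 : relLeft ∈ Fi22Pres.extra := by decide +kernel
  have hm3 : relRight ∈ Fi22Pres.extra := by decide +kernel
  have hproj : ∀ r ∈ Fi22Pres.extra, π (wordVal L.y r) = 1 := fun r hr => by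
    rw [L.proj_word (hlt r hr), hrel r (List.mem_append_right _ hr)]
  have hcen : ∀ r ∈ Fi22Pres.extra, wordVal L.y r ∈ Subgroup.center Q := fun r hr => hπ (hproj r hr)
  have hpow2 : ∀ {r : List ℕ} {P : List (ℕ × ℕ)}, r ∈ Fi22Pres.extra →
      runSeq Fi22U62.tabP 9 (Fi22Out.pts.getD 0 0) words P
        (seqOf Fi22Out.pts r ++ seqOf Fi22Out.pts r) [] = true →
      wordVal L.y r * wordVal L.y r = 1 := by
    intro r P hr h
    have h' := L.run_prod hk0 hws (q := seqOf A.pts r ++ seqOf A.pts r) (r := []) (ops := P)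
      (fun i hi => by
        simp only [List.mem_append, or_self] at hi
        exact A.seqOf_lt (hlt r hr) i hi) (by rw [hZ, hk, hp]; exact h)
    rw [L.prodSeq_append] at h'
    rw [L.wordVal_y (hlt r hr)]
    exact h'.symm
  set F₁ := wordVal L.y relSpider
  set F₂ := wordVal L.y relLeft
  set F₃ := wordVal L.y relRight
  have h1 : F₁ ^ 3 = 1 := by
    have h' := L.run_prod hk0 hws
      (q := seqOf A.pts relSpider ++ seqOf A.pts relSpider ++ seqOf A.pts relSpider) (r := [])
      (ops := progSpider)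
      (fun i hi => by
        simp only [List.mem_append, or_self] at hi
        exact A.seqOf_lt (hlt _ hm1) i hi) (by rw [hZ, hk, hp]; exact spider_run)
    rw [L.prodSeq_append, L.prodSeq_append] at h'
    rw [show F₁ = L.prodSeq (seqOf A.pts relSpider) from L.wordVal_y (hlt _ hm1), pow_succ, pow_two]
    exact h'.symm
  have h2 : F₂ * F₂ = 1 := hpow2 hm2 left_run
  have h3 : F₃ * F₃ = 1 := hpow2 hm3 right_run
  set g := F₁ * (F₂ * F₃) with hg
  have h23 : (F₂ * F₃) ^ 2 = 1 := by
    rw [pow_two]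
    calc F₂ * F₃ * (F₂ * F₃) = F₂ * (F₃ * F₂) * F₃ := by group
      _ = (F₂ * F₂) * (F₃ * F₃) := by
        rw [show F₃ * F₂ = F₂ * F₃ from Subgroup.mem_center_iff.1 (hcen _ hm2) F₃]; group
      _ = 1 := by rw [h2, h3, one_mul]
  have hc1 : Commute F₁ (F₂ * F₃) := (Subgroup.mem_center_iff.1 (hcen _ hm1) _).symm
  have hg4 : g ^ 4 = F₁ := by
    rw [hg, hc1.mul_pow, show (4 : ℕ) = 3 + 1 from rfl, pow_succ, h1, one_mul,
      show (3 : ℕ) + 1 = 2 * 2 from rfl, pow_mul, h23, one_pow, mul_one]
  have hg3 : g ^ 3 = F₂ * F₃ := by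
    rw [hg, hc1.mul_pow, h1, one_mul, pow_succ, h23, one_mul]
  have hg6 : g ^ 6 = 1 := by
    rw [show (6 : ℕ) = 3 * 2 from rfl, pow_mul, hg3, h23]
  have hgker : Subgroup.zpowers g ≤ π.ker := Subgroup.zpowers_le.2 (by
    rw [MonoidHom.mem_ker, hg, map_mul, map_mul, hproj _ hm1, hproj _ hm2, hproj _ hm3, one_mul,
      one_mul])
  have hsmall := A.ker_commutator_le hπ L hgker (R := N.pairs ++ Fi22Pres.extra) (F := F₂)
    (by
      intro M _ y hy hrely
      have hy' := N.lift_eq_one hkeps y (Fi22Pres.map_extra y hy) hrely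
      refine ⟨PresentedGroup.toGroup hy', fun a ha => ?_⟩
      rw [hk] at ha
      rw [hx, Numbering.gens, if_pos (show a < N.k from ha)]
      refine (PresentedGroup.toGroup.of hy').trans ?_
      rw [N.num_letter a ha])
    (hproj _ hm2) (by rw [h2]; exact one_mem _) (by
      intro r hr
      rcases List.mem_append.1 hr with hr | hr
      · obtain ⟨e, ⟨m, hm⟩, hl⟩ := L.evens hk0 hws (by rw [hZ, hk, hp]; exact pairs_ok) r hr
        refine ⟨hl, ?_⟩
        rw [e, hm, ← two_mul, pow_mul, pow_two, h2, one_pow, mul_one]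
        exact one_mem _
      · refine ⟨hlt r hr, ?_⟩
        have : r = relSpider ∨ r = relLeft ∨ r = relRight := by
          have hall : ∀ r ∈ Fi22Pres.extra, r = relSpider ∨ r = relLeft ∨ r = relRight := by decide +kernel
          exact hall r hr
        rcases this with rfl | rfl | rfl
        · rw [show relSpider.length = 2 * 45 by decide +kernel, pow_mul, pow_two, h2, one_pow, one_mul,
            show wordVal L.y relSpider = F₁ from rfl, ← hg4]
          exact pow_mem (Subgroup.mem_zpowers g) _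
        · rw [show relLeft.length = 2 * 31 + 1 by decide +kernel, pow_succ, pow_mul, pow_two, h2,
            one_pow, one_mul]
          show F₂ * F₂ ∈ _
          rw [h2]
          exact one_mem _
        · rw [show relRight.length = 2 * 31 + 1 by decide +kernel, pow_succ, pow_mul, pow_two, h2,
            one_pow, one_mul, show wordVal L.y relRight = F₃ from rfl, ← hg3]
          exact pow_mem (Subgroup.mem_zpowers g) _)
  refine exists_surjective_zmod σ.ker ι hι hg6 (by norm_num) fun e he => hsmall ⟨?_, ?_⟩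
  · show π (ι e) = 1
    rw [← MonoidHom.comp_apply, hcomp]
    exact he
  · have : (commutator E).map ι ≤ commutator Q := by
      rw [commutator_def, Subgroup.map_commutator, commutator_def]
      exact Subgroup.commutator_mono le_top le_top
    exact this ⟨e, hcomm he, rfl⟩

theorem multiplier : Cfsg.HasCyclicSchurMultiplier Cfsg.Spor.Fi22 6 :=
  ⟨exists_cover, fun Γ _ _ σ hσ => stem_ker σ hσ⟩

end Cfsg.Lib.CosetEnum.Fi22Mult
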