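import Cfsg.Agent.Lib.CosetEnum.Suborbits
import Cfsg.Agent.Lib.CosetEnum.Central
import Cfsg.Prelude.Def_SporadicB

/-!
# Classes of 3-transpositions from a rank three action
-/

set_option autoImplicit false

namespace Cfsg.Lib.CosetEnum

/-- A word carrying a tabulated element to a generator, read in a faithful table. -/
theorem conj_eq_of_table {G : Type*} [Group G] {n : ℕ} (x : ℕ → G) (f : G →* Equiv.Perm (Fin n))
    (hinj : Function.Injective f) {Z T : Tab} {k : ℕ} {R : List (List ℕ)}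
    (hperm : permOK Z k n R n 0 = true) (hk : k ≤ eps)
    (hf : ∀ g < k, f (x g) = tperm Z k n g) {cw S w : List ℕ} {g : ℕ}
    (hc : centreOK Z T k n cw S n 0 = true) (hcw : ∀ a ∈ cw, a < k) (hw : ∀ a ∈ w, a < k) (hg : g < k)
    (h : ∀ i < n, twalk Z k w (T.getP i) = img Z k g (twalk Z k w i)) :
    wordVal x w * wordVal x cw * (wordVal x w)⁻¹ = x g := by
  rw [mul_inv_eq_iff_eq_mul]
  apply hinj
  ext i
  rw [map_mul, map_mul, Equiv.Perm.mul_apply, Equiv.Perm.mul_apply,
    map_wordVal_tperm x f hk hf hw, map_wordVal_tperm x f hk hf hcw, hf g hg,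
    wordVal_tperm hperm hk w hw, wordVal_tperm hperm hk cw hcw, tperm_apply hperm hg,
    wordVal_tperm hperm hk w hw, (centreOK_get hc i.1 (Nat.zero_le _) (by omega)).2.2.1, h i.1 i.2]

/-- An isomorphism carries non-split double covers along. -/
theorem isNonsplitDoubleCover_congr {H H' K : Type*} [Group H] [Group H'] [Group K]
    (e : H ≃* H') (h : Cfsg.IsNonsplitDoubleCover H K) : Cfsg.IsNonsplitDoubleCover H' K := by
  obtain ⟨h2, ⟨φ⟩, hL⟩ := h
  have hmap : (Subgroup.center H).map e.toMonoidHom = Subgroup.center H' := by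
    ext z
    rw [Subgroup.mem_map_equiv, Subgroup.mem_center_iff, Subgroup.mem_center_iff]
    constructor
    · intro hz g
      have := congrArg e (hz (e.symm g))
      simpa using this
    · intro hz g
      apply e.injective
      simpa using hz (e g)
  refine ⟨?_, ⟨(QuotientGroup.congr _ _ e hmap).symm.trans φ⟩, fun L hc => hL (L.map e.symm.toMonoidHom) ?_⟩
  · rw [← hmap, Subgroup.card_map_of_injective e.injective, h2]
  · have hinf : Subgroup.center H ⊓ L.map e.symm.toMonoidHom = ⊥ := by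
      rw [eq_bot_iff]
      rintro x ⟨hxc, y, hy, rfl⟩
      have hyc : y ∈ Subgroup.center H' := by
        rw [← hmap, Subgroup.mem_map_equiv]
        exact hxc
      have : y ∈ Subgroup.center H' ⊓ L := ⟨hyc, hy⟩
      rw [hc.disjoint.eq_bot, Subgroup.mem_bot] at this
      simp [this]
    refine Subgroup.isComplement'_of_disjoint_and_mul_eq_univ (disjoint_iff.2 hinf)
      (Set.eq_univ_of_forall fun x => ?_)
    obtain ⟨⟨a, b⟩, hab⟩ := hc.2 (e x)
    refine ⟨e.symm a.1, ?_, e.symm b.1, ⟨b.1, b.2, rfl⟩, ?_⟩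
    · have ha : a.1 ∈ (Subgroup.center H).map e.toMonoidHom := hmap.symm ▸ a.2
      rwa [Subgroup.mem_map_equiv] at ha
    · show e.symm a.1 * e.symm b.1 = x
      rw [← map_mul, show a.1 * b.1 = e x from hab, MulEquiv.symm_apply_apply]

/-- The centralisers of conjugate elements are isomorphic. -/
noncomputable def centralizerConjEquiv {G : Type*} [Group G] (g d : G) :
    Subgroup.centralizer ({d} : Set G) ≃* Subgroup.centralizer ({g * d * g⁻¹} : Set G) where
  toFun x := ⟨g * x * g⁻¹, Subgroup.mem_centralizer_singleton_iff.2 (by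
    have hx : (x : G) * d = d * x := Subgroup.mem_centralizer_singleton_iff.1 x.2
    calc g * x * g⁻¹ * (g * d * g⁻¹) = g * ((x : G) * d) * g⁻¹ := by group
      _ = g * (d * x) * g⁻¹ := by rw [hx]
      _ = g * d * g⁻¹ * (g * x * g⁻¹) := by group)⟩
  invFun x := ⟨g⁻¹ * x * g, Subgroup.mem_centralizer_singleton_iff.2 (by
    have hx : (x : G) * (g * d * g⁻¹) = g * d * g⁻¹ * x :=
      Subgroup.mem_centralizer_singleton_iff.1 x.2
    calc g⁻¹ * x * g * d = g⁻¹ * ((x : G) * (g * d * g⁻¹)) * g := by group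
      _ = g⁻¹ * (g * d * g⁻¹ * x) * g := by rw [hx]
      _ = d * (g⁻¹ * x * g) := by group)⟩
  left_inv x := Subtype.ext (by show g⁻¹ * (g * x * g⁻¹) * g = x; group)
  right_inv x := Subtype.ext (by show g * (g⁻¹ * x * g) * g⁻¹ = x; group)
  map_mul' x y := Subtype.ext (by show g * (x * y : G) * g⁻¹ = g * x * g⁻¹ * (g * y * g⁻¹); group)

variable {G : Type*} [Group G] [Finite G] [IsSimpleGroup G] {d : G} {K : Subgroup G} {nb nc : ℕ}

/-- A subgroup with two suborbits whose sizes give no blocks is the whole centraliser. -/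
theorem centralizer_eq (hd : d ≠ 1) (hna : ¬ ∀ a b : G, a * b = b * a)
    (hK : ∀ k ∈ K, k * d = d * k) {qb qc : G ⧸ K}
    (hb : (MulAction.orbit K qb).ncard = nb) (hc : (MulAction.orbit K qc).ncard = nc)
    (hnb : 2 ≤ nb) (hnc : 2 ≤ nc) (hne : nb ≠ nc) (htot : 1 + nb + nc = K.index)
    (h1 : ¬ 1 + nb ∣ K.index) (h2 : ¬ 1 + nc ∣ K.index) :
    Subgroup.centralizer ({d} : Set G) = K := by
  set C := Subgroup.centralizer ({d} : Set G) with hC
  have hle : K ≤ C := fun k hk => Subgroup.mem_centralizer_singleton_iff.2 (hK k hk)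
  have hfix : ∀ k : K, k • ((1 : G) : G ⧸ K) = ((1 : G) : G ⧸ K) := by
    intro k
    show (((k : G) * 1 : G) : G ⧸ K) = _
    rw [QuotientGroup.eq]
    simp
  have ha : MulAction.orbit K ((1 : G) : G ⧸ K) = {((1 : G) : G ⧸ K)} := by
    ext z
    constructor
    · rintro ⟨k, rfl⟩
      exact hfix k
    · intro hz
      rw [Set.mem_singleton_iff.1 hz]
      exact MulAction.mem_orbit_self _
  have hab : ∀ {q : G ⧸ K} {m : ℕ}, (MulAction.orbit K q).ncard = m → 2 ≤ m →
      ((1 : G) : G ⧸ K) ∉ MulAction.orbit K q := by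
    intro q m hm h2m hmem
    rw [← MulAction.orbit_eq_iff.2 hmem, ha, Set.ncard_singleton] at hm
    omega
  have hbc : qc ∉ MulAction.orbit K qb := fun hmem => hne (by
    rw [← hb, ← hc, MulAction.orbit_eq_iff.2 hmem])
  have hcard : Nat.card (G ⧸ K) = K.index := (Subgroup.index_eq_card K).symm
  let Δ : Set (G ⧸ K) := MulAction.orbit C ((1 : G) : G ⧸ K)
  have hΔ : ∀ k : K, ∀ q ∈ Δ, k • q ∈ Δ := by
    rintro k _ ⟨c, rfl⟩
    exact ⟨⟨(k : G), hle k.2⟩ * c, mul_smul _ _ _⟩
  have hdvd : Δ.ncard ∣ K.index := by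
    have hs : MulAction.stabilizer C ((1 : G) : G ⧸ K) = K.subgroupOf C := by
      ext c
      rw [MulAction.mem_stabilizer_iff, Subgroup.mem_subgroupOf]
      show (((c : G) * 1 : G) : G ⧸ K) = _ ↔ _
      rw [QuotientGroup.eq, mul_one, mul_one, inv_mem_iff]
    rw [← MulAction.index_stabilizer, hs]
    exact Dvd.intro _ (Subgroup.relIndex_mul_index hle)
  rcases ncard_invariant_of_three_orbits ha hb hc (hab hb hnb) (hab hc hnc) hbc
    (by rw [hcard, htot]) (MulAction.mem_orbit_self _) hΔ with h | h | h | h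
  · refine le_antisymm (fun c hc' => ?_) hle
    obtain ⟨z, hz⟩ := Set.ncard_eq_one.1 h
    have h0 : ((1 : G) : G ⧸ K) ∈ Δ := MulAction.mem_orbit_self _
    have h3 : (((c : G) * 1 : G) : G ⧸ K) ∈ Δ := ⟨⟨c, hc'⟩, rfl⟩
    rw [show Δ = {z} from hz, Set.mem_singleton_iff] at h0 h3
    rw [← h0, QuotientGroup.eq, mul_one, mul_one, inv_mem_iff] at h3
    exact h3
  · exact absurd (h ▸ hdvd) h1
  · exact absurd (h ▸ hdvd) h2
  · exfalso
    have htop : C = ⊤ := by
      refine eq_top_iff.2 fun g _ => ?_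
      have hu : Δ = Set.univ := Set.eq_of_subset_of_ncard_le (Set.subset_univ _)
        (by rw [Set.ncard_univ, h]) (Set.toFinite _)
      obtain ⟨c, hc'⟩ : ((g : G) : G ⧸ K) ∈ Δ := hu ▸ Set.mem_univ _
      replace hc' : (((c : G) * 1 : G) : G ⧸ K) = ((g : G) : G ⧸ K) := hc'
      rw [QuotientGroup.eq, mul_one] at hc'
      have := mul_mem c.2 (hle hc')
      simpa using this
    have hcen : d ∈ Subgroup.center G := Subgroup.mem_center_iff.2 fun g =>
      Subgroup.mem_centralizer_singleton_iff.1 (show g ∈ C from htop ▸ Subgroup.mem_top g)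
    rcases (Subgroup.center G).normal_of_characteristic.eq_bot_or_eq_top with hz | hz
    · rw [hz, Subgroup.mem_bot] at hcen
      exact hd hcen
    · exact hna fun a b => (Subgroup.mem_center_iff.1 (hz ▸ Subgroup.mem_top a) b).symm

/-- With rank three, two conjugates of different kinds represent all pairs. -/
theorem isThreeTranspositionClass_of_rank_three (hd1 : d ≠ 1) (hd2 : d * d = 1)
    (hC : Subgroup.centralizer ({d} : Set G) = K) {qb qc : G ⧸ K}
    (hb : (MulAction.orbit K qb).ncard = nb) (hc : (MulAction.orbit K qc).ncard = nc)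
    (hnb : 2 ≤ nb) (hnc : 2 ≤ nc) (hne : nb ≠ nc) (htot : 1 + nb + nc = K.index)
    {e₁ e₂ : G} (he1 : IsConj d e₁) (he2 : IsConj d e₂) (hd1' : e₁ ≠ d) (hd2' : e₂ ≠ d)
    (h3 : (d * e₁) ^ 3 = 1) (h2 : (d * e₂) ^ 2 = 1) :
    Cfsg.IsThreeTranspositionClass (conjugatesOf d) ∧ Nat.card (conjugatesOf d) = K.index ∧
      ∀ e ∈ conjugatesOf d, Nonempty (K ≃* Subgroup.centralizer ({e} : Set G)) := by
  have hfix : ∀ k : K, k • ((1 : G) : G ⧸ K) = ((1 : G) : G ⧸ K) := by
    intro k
    show (((k : G) * 1 : G) : G ⧸ K) = _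
    rw [QuotientGroup.eq]
    simp
  have hab : ∀ {q : G ⧸ K} {m : ℕ}, (MulAction.orbit K q).ncard = m → 2 ≤ m →
      ((1 : G) : G ⧸ K) ∉ MulAction.orbit K q := by
    intro q m hm h2m hmem
    have h1 : MulAction.orbit K q = {((1 : G) : G ⧸ K)} := by
      rw [← MulAction.orbit_eq_iff.2 hmem]
      ext z
      constructor
      · rintro ⟨k, rfl⟩
        exact hfix k
      · intro hz
        rw [Set.mem_singleton_iff.1 hz]
        exact MulAction.mem_orbit_self _
    rw [h1, Set.ncard_singleton] at hm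
    omega
  have hcard : Nat.card (G ⧸ K) = K.index := (Subgroup.index_eq_card K).symm
  have hbc : qc ∉ MulAction.orbit K qb := fun hmem => hne (by
    rw [← hb, ← hc, MulAction.orbit_eq_iff.2 hmem])
  -- the cover by three orbits
  have hcover : ∀ z, z ∈ ({((1 : G) : G ⧸ K)} : Set (G ⧸ K)) ∨
      ∃ r ∈ [qb, qc], z ∈ MulAction.orbit K r :=
    cover_of_sum (by
      intro r hr
      simp only [List.mem_cons, List.not_mem_nil, or_false] at hr
      rcases hr with rfl | rfl
      exacts [hab hb hnb, hab hc hnc]) (by simp [hbc]) (by simp [hb, hc, hcard, ← htot, add_assoc])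
  have hK : ∀ k ∈ K, k * d * k⁻¹ = d := by
    intro k hk
    rw [← hC, Subgroup.mem_centralizer_singleton_iff] at hk
    rw [hk, mul_inv_cancel_right]
  -- conjugates from cosets
  have hwd : ∀ {a b : G}, ((a : G) : G ⧸ K) = (b : G ⧸ K) → a * d * a⁻¹ = b * d * b⁻¹ := by
    intro a b hab
    rw [QuotientGroup.eq] at hab
    have h := hK _ hab
    calc a * d * a⁻¹ = a * (a⁻¹ * b * d * (a⁻¹ * b)⁻¹) * a⁻¹ := by rw [h]
      _ = b * d * b⁻¹ := by group
  obtain ⟨g₁, rfl⟩ := isConj_iff.1 he1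
  obtain ⟨g₂, rfl⟩ := isConj_iff.1 he2
  have hne0 : ∀ {g : G}, g * d * g⁻¹ ≠ d → (g : G ⧸ K) ≠ ((1 : G) : G ⧸ K) := by
    intro g hg he
    exact hg (by simpa using hwd he)
  -- the predicate is invariant along suborbits
  have hinv : ∀ (m : ℕ) {g : G} {z : G ⧸ K}, z ∈ MulAction.orbit K (g : G ⧸ K) →
      (d * (g * d * g⁻¹)) ^ m = 1 → ∀ h : G, (h : G ⧸ K) = z → (d * (h * d * h⁻¹)) ^ m = 1 := by
    rintro m g _ ⟨k, rfl⟩ hm h hh
    rw [hwd (a := h) (b := (k : G) * g) hh]
    have : d * ((k : G) * g * d * ((k : G) * g)⁻¹) = (k : G) * (d * (g * d * g⁻¹)) * (k : G)⁻¹ := by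
      calc _ = (k : G) * d * (k : G)⁻¹ * ((k : G) * g * d * ((k : G) * g)⁻¹) := by rw [hK k k.2]
        _ = _ := by group
    rw [this, conj_pow, hm, mul_one, mul_inv_cancel]
  have hdiff : (g₂ : G ⧸ K) ∉ MulAction.orbit K (g₁ : G ⧸ K) := by
    intro hmem
    have h5 := hinv 3 hmem h3 g₂ rfl
    rw [pow_succ, h2, one_mul] at h5
    apply hd2'
    calc g₂ * d * g₂⁻¹ = d * d * (g₂ * d * g₂⁻¹) := by rw [hd2, one_mul]
      _ = d := by rw [mul_assoc, h5, mul_one]
  have hkey : ∀ h : G, (d * (h * d * h⁻¹)) ^ 2 = 1 ∨ (d * (h * d * h⁻¹)) ^ 3 = 1 := by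
    intro h
    rcases hcover (h : G ⧸ K) with hh | ⟨r, hr, hh⟩
    · left
      have := hwd (Set.mem_singleton_iff.1 hh)
      rw [this, one_mul, inv_one, mul_one, hd2, one_pow]
    rcases hcover (g₁ : G ⧸ K) with h4 | ⟨r₁, hr₁, h4⟩
    · exact absurd (Set.mem_singleton_iff.1 h4) (hne0 hd1')
    rcases hcover (g₂ : G ⧸ K) with h5 | ⟨r₂, hr₂, h5⟩
    · exact absurd (Set.mem_singleton_iff.1 h5) (hne0 hd2')
    have e4 := MulAction.orbit_eq_iff.2 h4
    have e5 := MulAction.orbit_eq_iff.2 h5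
    have hr12 : r₁ ≠ r₂ := fun he => hdiff (by
      rw [e4, he, ← e5]; exact MulAction.mem_orbit_self _)
    have hr' : r = r₁ ∨ r = r₂ := by
      simp only [List.mem_cons, List.not_mem_nil, or_false] at hr hr₁ hr₂
      grind
    rcases hr' with rfl | rfl
    · exact Or.inr (hinv 3 (e4 ▸ hh) h3 h rfl)
    · exact Or.inl (hinv 2 (e5 ▸ hh) h2 h rfl)
  refine ⟨⟨⟨?_, ?_⟩, ⟨d, mem_conjugatesOf_self, rfl⟩, ?_⟩, ?_, ?_⟩
  · intro e he
    obtain ⟨g, rfl⟩ := isConj_iff.1 he
    refine orderOf_eq_prime ?_ ?_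
    · rw [conj_pow, pow_two, hd2, mul_one, mul_inv_cancel]
    · exact fun h1 => hd1 (conj_eq_one_iff.1 h1)
  · intro e he e' he'
    obtain ⟨g, rfl⟩ := isConj_iff.1 he
    obtain ⟨g', rfl⟩ := isConj_iff.1 he'
    have : g * d * g⁻¹ * (g' * d * g'⁻¹) = g * (d * (g⁻¹ * g' * d * (g⁻¹ * g')⁻¹)) * g⁻¹ := by group
    rw [this, conj_pow, conj_pow]
    rcases hkey (g⁻¹ * g') with h | h
    · left; rw [h, mul_one, mul_inv_cancel]
    · right; rw [h, mul_one, mul_inv_cancel]
  · have hn : (Subgroup.closure (conjugatesOf d)).Normal := by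
      refine ⟨fun n hn g => ?_⟩
      induction hn using Subgroup.closure_induction with
      | mem y hy => exact Subgroup.subset_closure (hy.trans (isConj_iff.2 ⟨g, rfl⟩))
      | one => simp
      | mul y z _ _ hy hz =>
        have : g * (y * z) * g⁻¹ = g * y * g⁻¹ * (g * z * g⁻¹) := by group
        rw [this]; exact mul_mem hy hz
      | inv y _ hy =>
        have : g * y⁻¹ * g⁻¹ = (g * y * g⁻¹)⁻¹ := by group
        rw [this]; exact inv_mem hy
    refine hn.eq_bot_or_eq_top.resolve_left fun h => ?_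
    have : d ∈ Subgroup.closure (conjugatesOf d) := Subgroup.subset_closure mem_conjugatesOf_self
    rw [h, Subgroup.mem_bot] at this
    exact hd1 this
  · rw [← hcard]
    refine (Nat.card_congr (Equiv.ofBijective (fun q : G ⧸ K => Quotient.liftOn' q
      (fun a => (⟨a * d * a⁻¹, isConj_iff.2 ⟨a, rfl⟩⟩ : conjugatesOf d))
      (fun a b hab => Subtype.ext (hwd (Quotient.sound hab)))) ⟨?_, ?_⟩)).symm
    · intro p q
      induction p using QuotientGroup.induction_on with | _ a => ?_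
      induction q using QuotientGroup.induction_on with | _ b => ?_
      intro he
      have he' : a * d * a⁻¹ = b * d * b⁻¹ := congrArg Subtype.val he
      rw [QuotientGroup.eq, ← hC, Subgroup.mem_centralizer_singleton_iff]
      calc a⁻¹ * b * d = a⁻¹ * (b * d * b⁻¹) * b := by group
        _ = a⁻¹ * (a * d * a⁻¹) * b := by rw [he']
        _ = d * (a⁻¹ * b) := by group
    · rintro ⟨e, he⟩
      obtain ⟨g, rfl⟩ := isConj_iff.1 he
      exact ⟨(g : G ⧸ K), rfl⟩
  · intro e he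
    obtain ⟨g, rfl⟩ := isConj_iff.1 he
    exact ⟨(MulEquiv.subgroupCongr hC.symm).trans (centralizerConjEquiv g d)⟩

end Cfsg.Lib.CosetEnum
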