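import Cfsg.Agent.S1687
import Cfsg.Agent.Lib.CosetEnum.Groups.Fi22Simple
import Cfsg.Agent.Lib.CosetEnum.Central
import Cfsg.Agent.Lib.CosetEnum.ThreeTrans
import Cfsg.Agent.Lib.CosetEnum.Fi22Trans.Comm
import Cfsg.Agent.Lib.CosetEnum.Fi22U62.Valid
import Cfsg.Agent.Lib.CosetEnum.Fi22Out.Data
import Cfsg.Agent.Lib.CosetEnum.Trans.ClassTwo

/-!
# The transpositions of the presented group Fi22 on the table
-/

set_option autoImplicit false

namespace Cfsg.Lib.CosetEnum.Fi22Out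

open Cfsg.Spor

set_option maxRecDepth 100000

/-- Braided generators are conjugate by their product. -/
theorem braid_conj {G : Type*} [Group G] {a b : G} (ha : a * a = 1) (hb : b * b = 1)
    (h : (a * b) ^ 3 = 1) : (a * b) * a * (a * b)⁻¹ = b := by
  rw [mul_inv_eq_iff_eq_mul]
  calc a * b * a = (a * b) ^ 3 * ((a * b)⁻¹ * (a * b)⁻¹ * a) := by rw [pow_succ, pow_two]; group
    _ = b * (a * b) := by
      rw [h, one_mul, mul_inv_rev, inv_eq_of_mul_eq_one_left ha, inv_eq_of_mul_eq_one_left hb]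
      simp only [mul_assoc, ha, mul_one]

theorem exists_table : ∃ A : TransTable Cfsg.Spor.Fi22 3510,
    A.Z = Fi22U62.tabP ∧ A.k = 9 ∧ A.pts = pts ∧ A.x = Fi22Pres.numbering.gens Fi22.extra ∧
      A.d = A.x 0 ∧ A.p₀.1 = 0 ∧ A.d ≠ 1 ∧
      (Subgroup.centralizer ({A.d} : Set Cfsg.Spor.Fi22)).index = 3510 ∧
      Cfsg.IsThreeTranspositionClass (conjugatesOf A.d) := by
  let N := Fi22Pres.numbering
  let x : ℕ → Cfsg.Spor.Fi22 := N.gens Fi22.extra
  have hx : ∀ g, x g * x g = 1 := N.gens_mul_self Fi22.extra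
  have hk : N.k ≤ eps := by decide
  have hR : Fi22U62.cert.R0 = N.pairs ++ Fi22Pres.extra := by decide +kernel
  have hrel : ∀ r ∈ Fi22U62.cert.R0, wordVal x r = 1 := fun r hr =>
    N.wordVal_gens hk (Fi22Pres.map_extra x hx) r (hR ▸ hr)
  obtain ⟨f, hf⟩ := N.exists_hom hk Fi22.extra Fi22U62.cert_valid hR rfl
    (Fi22Pres.map_extra _ fun g => tperm_mul_self _ _ _ g)
  have hK := N.map_closure Fi22.extra (Us := [Fi22.a, Fi22.c, Fi22.d, Fi22.e, Fi22.f, Fi22.g, Fi22.h, Fi22.i,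
      (Fi22.a * Fi22.b * Fi22.c * Fi22.d * Fi22.e * Fi22.h) ^ 5])
    (U := Fi22U62.subWords)
    (by simp [Fi22U62.subWords, wordVal, gen, eps, N, Fi22Pres.numbering, Fi22Pres.num, pow_succ, mul_assoc])
    (s := {Fi22.a, Fi22.c, Fi22.d, Fi22.e, Fi22.f, Fi22.g, Fi22.h, Fi22.i,
      (Fi22.a * Fi22.b * Fi22.c * Fi22.d * Fi22.e * Fi22.h) ^ 5})
    (by ext w; simp)
  obtain ⟨hidx, q₁, q₂, hq₁, hq₂⟩ := Cfsg.Agent.S1687.result
  have hFi : Cfsg.IsFi22 Cfsg.Spor.Fi22 := Fi22Pres.isFi22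
  have hsimple : IsSimpleGroup Cfsg.Spor.Fi22 := hFi.1
  have hfin : Finite Cfsg.Spor.Fi22 := Nat.finite_of_card_ne_zero (by rw [hFi.2]; decide)
  have hperm := Fi22U62.cert_valid.perm
  -- a generator moves a point, so the action is faithful
  have hval : ∀ g < 9, ∀ i : Fin 3510, (f (x g) i).1 = img Fi22U62.tabP 9 g i.1 := fun g hg i => by
    rw [show f (x g) = tperm Fi22U62.cert.step.P Fi22U62.cert.step.k Fi22U62.cert.step.n g from
      hf g hg]
    exact tperm_apply hperm hg i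
  have hinj : Function.Injective f := by
    rw [← MonoidHom.ker_eq_bot_iff]
    refine (f.normal_ker.eq_bot_or_eq_top).resolve_right fun h => ?_
    have h1 : f (x 1) = 1 := f.mem_ker.1 (h ▸ Subgroup.mem_top _)
    have h2 := hval 1 (by decide) ⟨0, by decide⟩
    rw [h1] at h2
    exact absurd h2.symm (show img Fi22U62.tabP 9 1 0 ≠ 0 by decide +kernel)
  have hdist : ∀ g < 3, g ≠ 0 → x g ≠ x 0 := by
    intro g hg hg0 he
    obtain ⟨p, hp, hne⟩ : ∃ p < 3510, img Fi22U62.tabP 9 g p ≠ img Fi22U62.tabP 9 0 p := by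
      interval_cases g
      · exact absurd rfl hg0
      · exact ⟨0, by decide, by decide +kernel⟩
      · exact ⟨1, by decide, by decide +kernel⟩
    refine hne ?_
    rw [← hval g (by omega) ⟨p, hp⟩, ← hval 0 (by decide) ⟨p, hp⟩, he]
  set H := (Subgroup.closure _).map (PresentedGroup.mk _) with hH
  have hd1 : x 0 ≠ 1 := fun h => by
    have h1 : (x 0 * x 1) ^ 3 = 1 := by
      have hr : (List.replicate 3 [1, 0]).flatten ∈ Fi22U62.cert.R0 := by decide +kernel
      have := hrel _ hr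
      rwa [wordVal_replicate x _ _ (by decide) (by decide)] at this
    rw [h, one_mul, pow_succ, pow_two, hx, one_mul] at h1
    exact hdist 1 (by decide) (by decide) (h1.trans h.symm)
  have hcomm : ∀ k ∈ H, k * x 0 = x 0 * k := by
    intro k hk'
    rw [hK] at hk'
    refine Subgroup.mem_centralizer_singleton_iff.1 ((Subgroup.closure_le
      (K := Subgroup.centralizer ({x 0} : Set Cfsg.Spor.Fi22))).2 ?_ hk')
    rintro _ ⟨u, hu, rfl⟩
    rw [SetLike.mem_coe, Subgroup.mem_centralizer_singleton_iff]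
    simp only [Fi22U62.subWords, Set.mem_ofPred_eq, List.mem_cons, List.not_mem_nil, or_false] at hu
    have hshort : ∀ g, g < 9 → g ≠ 1 → g ≠ 0 → wordVal x [g] * x 0 = x 0 * wordVal x [g] := by
      intro g hg hg1 hg0
      have hr : (List.replicate 2 [g, 0]).flatten ∈ Fi22U62.cert.R0 := by
        interval_cases g
        all_goals first | omega | decide +kernel
      have h2 := hrel _ hr
      rw [wordVal_replicate x _ _ (by decide) (by simp only [eps]; omega)] at h2
      have e : ∀ a, wordVal x [a] = gen x a := fun a => one_mul _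
      rw [e, gen, if_neg (by simp only [eps]; omega)]
      calc x g * x 0 = (x 0 * x g)⁻¹ := by
            rw [mul_inv_rev, inv_eq_of_mul_eq_one_left (hx g), inv_eq_of_mul_eq_one_left (hx 0)]
        _ = x 0 * x g := by rw [inv_eq_iff_mul_eq_one, ← pow_two, h2]
    rcases hu with rfl | rfl | rfl | rfl | rfl | rfl | rfl | rfl | rfl
    · simp [wordVal, gen, eps, x]
    · exact hshort 2 (by decide) (by decide) (by decide)
    · exact hshort 3 (by decide) (by decide) (by decide)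
    · exact hshort 4 (by decide) (by decide) (by decide)
    · exact hshort 5 (by decide) (by decide) (by decide)
    · exact hshort 6 (by decide) (by decide) (by decide)
    · exact hshort 7 (by decide) (by decide) (by decide)
    · exact hshort 8 (by decide) (by decide) (by decide)
    have h1 : f (wordVal x Fi22Trans.commWord) = f 1 := by
      rw [map_one, map_wordVal_tperm x f (k := 9) (by decide) hf (by decide +kernel)]
      exact wordVal_tperm_eq_one Fi22Trans.comm_ok (by decide) (List.mem_singleton_self _)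
    replace h1 := hinj h1
    set w : List ℕ := [7, 4, 3, 2, 1, 0, 7, 4, 3, 2, 1, 0, 7, 4, 3, 2, 1, 0, 7, 4, 3, 2, 1, 0, 7, 4, 3, 2, 1, 0]
    rw [show Fi22Trans.commWord = [0] ++ w ++ [0] ++ w.reverse by decide +kernel] at h1
    rw [wordVal_append, wordVal_append, wordVal_append, wordVal_reverse hx] at h1
    simp only [wordVal, gen, eps, one_mul] at h1
    have h3 : x 0 * (wordVal x w * x 0) = wordVal x w := eq_of_inv_mul_eq_one h1 |>.symm
    calc wordVal x w * x 0 = x 0 * x 0 * (wordVal x w * x 0) := by rw [hx, one_mul]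
      _ = x 0 * wordVal x w := by rw [mul_assoc, h3]
  have hna : ¬ ∀ a b : Cfsg.Spor.Fi22, a * b = b * a := fun h => by
    let : CommGroup Cfsg.Spor.Fi22 := { (inferInstance : Group Cfsg.Spor.Fi22) with mul_comm := h }
    have := IsSimpleGroup.prime_card (α := Cfsg.Spor.Fi22)
    rw [hFi.2] at this
    exact Nat.not_prime_mul (a := 2) (b := 32280875827200) (by decide) (by decide) this
  have hC := centralizer_eq (d := x 0) (K := H) hd1 hna hcomm hq₁ hq₂ (by decide) (by decide)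
    (by decide) (by rw [hidx]) (by rw [hidx]; decide) (by rw [hidx]; decide)
  have hbraid : ∀ p ∈ [(0, 1), (1, 2)], (x p.1 * x p.2) ^ 3 = 1 ∧ IsConj (x p.1) (x p.2) := by
    intro p hp
    have hw : (List.replicate 3 [p.2, p.1]).flatten ∈ Fi22U62.cert.R0 ∧ p.1 ≠ eps ∧ p.2 ≠ eps := by
      revert p; decide +kernel
    have h1 := hrel _ hw.1
    rw [wordVal_replicate x _ _ hw.2.1 hw.2.2] at h1
    refine ⟨h1, isConj_iff.2 ⟨x p.1 * x p.2, ?_⟩⟩
    rw [mul_inv_eq_iff_eq_mul]
    have : x p.1 * x p.2 * x p.1 = x p.2 * (x p.1 * x p.2) := by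
      calc x p.1 * x p.2 * x p.1
          = (x p.1 * x p.2) ^ 3 * ((x p.1 * x p.2)⁻¹ * (x p.1 * x p.2)⁻¹ * x p.1) := by rw [pow_succ, pow_two]; group
        _ = x p.2 * (x p.1 * x p.2) := by
          rw [h1, one_mul, mul_inv_rev, inv_eq_of_mul_eq_one_left (hx p.1),
            inv_eq_of_mul_eq_one_left (hx p.2)]
          simp only [mul_assoc, hx, mul_one]
    exact this
  obtain ⟨h01, c01⟩ := hbraid (0, 1) (by simp)
  obtain ⟨-, c12⟩ := hbraid (1, 2) (by simp)
  have h02 : (x 0 * x 2) ^ 2 = 1 := by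
    have hr : (List.replicate 2 [2, 0]).flatten ∈ Fi22U62.cert.R0 := by decide +kernel
    have := hrel _ hr
    rwa [wordVal_replicate x _ _ (by decide) (by decide)] at this
  obtain ⟨hclass, hcardD, hcent⟩ := isThreeTranspositionClass_of_rank_three (d := x 0) (K := H) hd1
    (hx 0) hC hq₁ hq₂ (by decide) (by decide) (by decide) (by rw [hidx]) c01 (c01.trans c12)
    (hdist 1 (by decide) (by decide)) (hdist 2 (by decide) (by decide)) h01 h02
  obtain ⟨-, Φ, hΦ, heq, h0⟩ := Fi22U62.cert_valid.index_eq hx (N.closure_gens Fi22.extra) hrel f hf hK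
  obtain ⟨f', hf', hinj', Φ, hΦ, heq, h0⟩ : ∃ f' : Cfsg.Spor.Fi22 →* Equiv.Perm (Fin 3510),
      (∀ g < 9, f' (x g) = tperm Fi22U62.tabP 9 3510 g) ∧ Function.Injective f' ∧
      ∃ Φ : Cfsg.Spor.Fi22 ⧸ H → Fin 3510, Function.Bijective Φ ∧
        (∀ (a : Cfsg.Spor.Fi22) (q : Cfsg.Spor.Fi22 ⧸ H), Φ (a • q) = f' a (Φ q)) ∧
        (Φ ((1 : Cfsg.Spor.Fi22) : Cfsg.Spor.Fi22 ⧸ H)).1 = 0 := ⟨f, hf, hinj, Φ, hΦ, heq, h0⟩
  have hz : Φ ((1 : Cfsg.Spor.Fi22) : Cfsg.Spor.Fi22 ⧸ H) = (0 : Fin 3510) := Fin.ext h0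
  have happ : ∀ g : Cfsg.Spor.Fi22, f' g 0 = Φ (g : Cfsg.Spor.Fi22 ⧸ H) := fun g => by
    rw [← hz, ← heq]
    exact congrArg Φ (congrArg (fun a : Cfsg.Spor.Fi22 => (a : Cfsg.Spor.Fi22 ⧸ H)) (mul_one g))
  let A₀ : TransAct Cfsg.Spor.Fi22 3510 :=
    { f := f'
      inj := hinj'
      d := x 0
      p₀ := 0
      trans := fun p => by
        obtain ⟨q, rfl⟩ := hΦ.2 p
        obtain ⟨g, rfl⟩ := QuotientGroup.mk_surjective q
        exact ⟨g, happ g⟩
      stab := fun g => by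
        rw [happ, ← hz, hΦ.1.eq_iff, QuotientGroup.eq, mul_one, inv_mem_iff, ← hC,
          Subgroup.mem_centralizer_singleton_iff] }
  have hwalk : ∀ (u : List ℕ), (∀ g ∈ u, g < 9) → ∀ i : Fin 3510,
      (f' (wordVal x u) i).1 = twalk Fi22U62.tabP 9 u i.1 := fun u hu i => by
    rw [map_wordVal_tperm x f' (k := 9) (by decide) hf' hu]
    exact wordVal_tperm hperm (by decide) u hu i
  let Good : ℕ → Prop := fun g => ∃ h : pts.getD g 0 < 3510, A₀.delta ⟨pts.getD g 0, h⟩ = x g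
  have hg0 : Good 0 := by
    refine ⟨by decide +kernel, ?_⟩
    rw [show (⟨pts.getD 0 0, by decide +kernel⟩ : Fin 3510) = A₀.p₀ from Fin.ext rfl]
    exact A₀.delta_p₀
  have hstep : ∀ p ∈ [(0, 1), (1, 2), (2, 3), (3, 4), (4, 5), (5, 6), (3, 7), (7, 8)],
      Good p.1 → Good p.2 := by
    rintro p hp ⟨h1, h2⟩
    have hb : (x p.1 * x p.2) ^ 3 = 1 := by
      have hw : (List.replicate 3 [p.2, p.1]).flatten ∈ Fi22U62.cert.R0 ∧ p.1 ≠ eps ∧ p.2 ≠ eps :=
        (show ∀ q ∈ [(0, 1), (1, 2), (2, 3), (3, 4), (4, 5), (5, 6), (3, 7), (7, 8)],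
          (List.replicate 3 [q.2, q.1]).flatten ∈ Fi22U62.cert.R0 ∧ q.1 ≠ eps ∧ q.2 ≠ eps by
          decide +kernel) p hp
      have h1 := hrel _ hw.1
      rwa [wordVal_replicate x _ _ hw.2.1 hw.2.2] at h1
    have hc : pts.getD p.2 0 < 3510 ∧ p.1 < 9 ∧ p.2 < 9 ∧
        twalk Fi22U62.tabP 9 [p.2, p.1] (pts.getD p.1 0) = pts.getD p.2 0 := by
      have hall : ∀ q ∈ [(0, 1), (1, 2), (2, 3), (3, 4), (4, 5), (5, 6), (3, 7), (7, 8)],
          pts.getD q.2 0 < 3510 ∧ q.1 < 9 ∧ q.2 < 9 ∧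
            twalk Fi22U62.tabP 9 [q.2, q.1] (pts.getD q.1 0) = pts.getD q.2 0 := by decide +kernel
      exact hall p hp
    obtain ⟨hlt, ha, hb', htw⟩ := hc
    refine ⟨hlt, ?_⟩
    have e : (⟨pts.getD p.2 0, hlt⟩ : Fin 3510) =
        A₀.f (x p.1 * x p.2) ⟨pts.getD p.1 0, h1⟩ := Fin.ext <| by
      show pts.getD p.2 0 = (f' (x p.1 * x p.2) ⟨pts.getD p.1 0, h1⟩).1
      have := hwalk [p.2, p.1] (by simp [ha, hb']) ⟨pts.getD p.1 0, h1⟩
      rw [show wordVal x [p.2, p.1] = x p.1 * x p.2 by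
        simp [wordVal, gen, show p.1 ≠ eps by simp only [eps]; omega,
          show p.2 ≠ eps by simp only [eps]; omega]] at this
      rw [this, htw]
    rw [e, A₀.delta_apply, h2]
    exact braid_conj (hx _) (hx _) hb
  have hgood : ∀ g < 9, Good g := by
    have g1 := hstep (0, 1) (by simp) hg0
    have g2 := hstep (1, 2) (by simp) g1
    have g3 := hstep (2, 3) (by simp) g2
    have g4 := hstep (3, 4) (by simp) g3
    have g5 := hstep (4, 5) (by simp) g4
    have g6 := hstep (5, 6) (by simp) g5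
    have g7 := hstep (3, 7) (by simp) g3
    have g8 := hstep (7, 8) (by simp) g7
    intro g hg
    interval_cases g <;> assumption
  let A : TransTable Cfsg.Spor.Fi22 3510 :=
    { toTransAct := A₀
      x := x
      Z := Fi22U62.tabP
      k := 9
      R := _
      perm := hperm
      k_le := by decide
      f_gen := hf'
      gen := N.closure_gens Fi22.extra
      sq := hx
      pts := pts
      pts_spec := hgood }
  exact ⟨A, rfl, rfl, rfl, rfl, rfl, rfl, hd1,
    by show (Subgroup.centralizer ({x 0} : Set _)).index = 3510; rw [hC, hidx], hclass⟩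

end Cfsg.Lib.CosetEnum.Fi22Out
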