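import Cfsg.Agent.Lib.CosetEnum.O73Geom
import Cfsg.Agent.Lib.CosetEnum.Defs

/-!
# Kernel check that a table is induced by reflections
-/

set_option autoImplicit false

namespace Cfsg.Lib.CosetEnum.O73

/-- The digit at a place of a ternary code. -/
def dig (c j : ℕ) : ZMod 3 := ((Nat.mod (Nat.div c (3 ^ j)) 3 : ℕ) : ZMod 3)

/-- The vector with a code. -/
def vec (c : ℕ) : I7 → ZMod 3
  | .inl _ => dig c 0
  | .inr (.inl k) => dig c (1 + k.1)
  | .inr (.inr k) => dig c (4 + k.1)

/-- The code of a vector. -/
def code (x : I7 → ZMod 3) : ℕ :=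
  (x (.inl ())).val + 3 * (x (.inr (.inl 0))).val + 9 * (x (.inr (.inl 1))).val +
    27 * (x (.inr (.inl 2))).val + 81 * (x (.inr (.inr 0))).val +
    243 * (x (.inr (.inr 1))).val + 729 * (x (.inr (.inr 2))).val

theorem code_injective {x y : I7 → ZMod 3} (h : code x = code y) : x = y := by
  have hb : ∀ a : ZMod 3, a.val < 3 := fun a => ZMod.val_lt a
  simp only [code] at h
  have := hb (x (.inl ())); have := hb (x (.inr (.inl 0))); have := hb (x (.inr (.inl 1)))
  have := hb (x (.inr (.inl 2))); have := hb (x (.inr (.inr 0))); have := hb (x (.inr (.inr 1)))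
  have := hb (y (.inl ())); have := hb (y (.inr (.inl 0))); have := hb (y (.inr (.inl 1)))
  have := hb (y (.inr (.inl 2))); have := hb (y (.inr (.inr 0))); have := hb (y (.inr (.inr 1)))
  have := hb (x (.inr (.inr 2))); have := hb (y (.inr (.inr 2)))
  funext k
  apply ZMod.val_injective
  rcases k with u | k | k
  · cases u
    show (x (.inl ())).val = (y (.inl ())).val
    omega
  all_goals fin_cases k <;> simp <;> omega

/-- Scalar times vector. -/
def smulV (l : ZMod 3) (x : I7 → ZMod 3) : I7 → ZMod 3 := fun k => l * x k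

/-- Every generator moves the points as the reflection along its centre. -/
noncomputable def pointsOK (V Idx P : Tab) (cs : List ℕ) (k N : ℕ) : ℕ → ℕ → Bool
  | 0, _ => true
  | m + 1, j => force j fun j => ([(1 : ZMod 3), 2].all fun l =>
        Nat.beq (Idx.getP (code (smulV l (vec (V.getP j))))) j) &&
      ((List.range cs.length).all fun g => Nat.blt (img P k g j) N && [(1 : ZMod 3), 2].any fun l =>
        Nat.beq (code (move (vec (cs.getD g 0)) (vec (V.getP j))))
          (code (smulV l (vec (V.getP (img P k g j)))))) &&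
      pointsOK V Idx P cs k N m (j + 1)

theorem pointsOK_get {V Idx P : Tab} {cs : List ℕ} {k N : ℕ} : ∀ {m s : ℕ},
    pointsOK V Idx P cs k N m s = true → ∀ j, s ≤ j → j < s + m →
      (∀ l ∈ [(1 : ZMod 3), 2], Idx.getP (code (smulV l (vec (V.getP j)))) = j) ∧
        ∀ g < cs.length, ∃ l ∈ [(1 : ZMod 3), 2],
          code (move (vec (cs.getD g 0)) (vec (V.getP j))) =
            code (smulV l (vec (V.getP (img P k g j))))
  | 0, s, _, j, h1, h2 => by omega
  | m + 1, s, hc, j, h1, h2 => by
    rw [pointsOK, force_eq, Bool.and_eq_true] at hc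
    rcases Nat.eq_or_lt_of_le h1 with h | h
    · subst h
      have h3 := hc.1
      simp only [Bool.and_eq_true, List.all_eq_true, List.any_eq_true, List.mem_range, Nat.beq_eq,
        and_assoc] at h3
      exact ⟨h3.1, fun g hg => (h3.2 g hg).2⟩
    · exact pointsOK_get hc.2 j h (by omega)

end Cfsg.Lib.CosetEnum.O73
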