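import Mathlib

/-!
# The field with four elements as a type with computable operations
-/

set_option autoImplicit false

namespace Cfsg.Lib.CosetEnum

/-- The field with four elements: `w` is a root of `X² + X + 1`, `v` its square. -/
inductive GF4
  | o | i | w | v
  deriving DecidableEq

namespace GF4

instance : Fintype GF4 := ⟨⟨{o, i, w, v}, by decide⟩, fun a => by cases a <;> decide⟩

/-- Addition. -/
protected def add : GF4 → GF4 → GF4
  | o, b => b
  | a, o => a
  | i, i => o | w, w => o | v, v => o
  | i, w => v | w, i => v
  | i, v => w | v, i => w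
  | w, v => i | v, w => i

/-- Multiplication. -/
protected def mul : GF4 → GF4 → GF4
  | o, _ => o
  | _, o => o
  | i, b => b
  | a, i => a
  | w, w => v | w, v => i | v, w => i | v, v => w

/-- Inverse. -/
protected def inv : GF4 → GF4
  | o => o | i => i | w => v | v => w

instance : Zero GF4 := ⟨o⟩
instance : One GF4 := ⟨i⟩
instance : Add GF4 := ⟨GF4.add⟩
instance : Mul GF4 := ⟨GF4.mul⟩
instance : Neg GF4 := ⟨id⟩
instance : Inv GF4 := ⟨GF4.inv⟩

instance : CommRing GF4 where
  add_assoc := by decide
  zero_add := by decide
  add_zero := by decide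
  add_comm := by decide
  mul_assoc := by decide
  one_mul := by decide
  mul_one := by decide
  mul_comm := by decide
  left_distrib := by decide
  right_distrib := by decide
  zero_mul := by decide
  mul_zero := by decide
  neg_add_cancel := by decide
  nsmul := nsmulRec
  zsmul := zsmulRec
  npow := npowRec

instance : Field GF4 where
  exists_pair_ne := ⟨o, i, by decide⟩
  mul_inv_cancel := by decide
  inv_zero := rfl
  nnqsmul := _
  qsmul := _

theorem card_eq : Fintype.card GF4 = 4 := rfl

/-- The element with a two bit code. -/
def dec : ℕ → GF4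
  | 1 => i | 2 => w | 3 => v | _ => o

/-- The two bit code of an element. -/
def enc : GF4 → ℕ
  | o => 0 | i => 1 | w => 2 | v => 3

/-- The vector with a twelve bit code. -/
def vec (c : ℕ) (k : Fin 6) : GF4 := dec (Nat.land (Nat.shiftRight c (Nat.mul 2 k.1)) 3)

/-- The code of a vector. -/
def code (x : Fin 6 → GF4) : ℕ :=
  enc (x 0) + 4 * enc (x 1) + 16 * enc (x 2) + 64 * enc (x 3) + 256 * enc (x 4) +
    1024 * enc (x 5)

end GF4

end Cfsg.Lib.CosetEnum
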