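import Cfsg.Agent.Lib.CosetEnum.Fi23Table
import Cfsg.Agent.Lib.CosetEnum.Fi23Out.Valid
import Cfsg.Agent.Lib.CosetEnum.Trans.Inner

/-!
# All automorphisms of the presented group Fi23 are inner
-/

set_option autoImplicit false

namespace Cfsg.Lib.CosetEnum.Fi23Out

open Cfsg.Spor

set_option maxRecDepth 100000

theorem leaf_ok : leafOK Fi23Fi22.tabP 10 pts (5, 6, 7) leafWords leafPts = true := by decide +kernel

theorem mem_inn (φ : MulAut Cfsg.Spor.Fi23) : φ ∈ Cfsg.Inn Cfsg.Spor.Fi23 := by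
  obtain ⟨A, hZ, hk, hp, -, -, -, hd1, hidx, hD⟩ := exists_table
  have hFi : Cfsg.IsFi23 Cfsg.Spor.Fi23 := Fi23Pres.isFi23
  have hsimple : IsSimpleGroup Cfsg.Spor.Fi23 := hFi.1
  have hfin : Finite Cfsg.Spor.Fi23 := Nat.finite_of_card_ne_zero (by rw [hFi.2]; decide)
  have hc : Subgroup.center Cfsg.Spor.Fi23 = ⊥ := by
    refine ((Subgroup.center Cfsg.Spor.Fi23).normal_of_characteristic.eq_bot_or_eq_top).resolve_right
      fun h => ?_
    let : CommGroup Cfsg.Spor.Fi23 := Group.commGroupOfCenterEqTop h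
    have := IsSimpleGroup.prime_card (α := Cfsg.Spor.Fi23)
    rw [hFi.2] at this
    exact Nat.not_prime_mul (a := 2) (b := 2044735236646502400) (by decide) (by decide) this
  have hframe : frameOK A.Z A.k A.pts fg aux = true := by rw [hZ, hk, hp]; exact frame_ok
  have hchain : A.CentChain (frameWords fg aux) chain := by
    simp only [chain, TransTable.CentChain, hZ, hk, hp]
    exact ⟨by decide +kernel, chain0_ok, by decide +kernel, chain1_ok, by decide +kernel, chain2_ok,
      by decide +kernel, chain3_ok, by decide +kernel, chain4_ok, by decide +kernel⟩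
  have hcases : ∀ t ∈ A.cent (frameWords fg aux), t = 1 ∨ IsConj A.d t ∨
      ∃ a, (t * (a * t * a⁻¹)) ^ 2 ≠ 1 ∧ (t * (a * t * a⁻¹)) ^ 3 ≠ 1 := fun t ht =>
    A.cent_frame_cases hc hframe hchain entries_inc entries_len (ps := codePts)
      (fun p hp' => by simpa using List.all_eq_true.1 codePts_lt p hp')
      (fun e he => by rw [hZ, hk]; exact List.all_eq_true.1 entries_ok e he) ht
  have hmap := A.exists_delta_map (by rw [hidx]; decide) hd1 hD hframe hcases φ
  classical
  let τ : ℕ → Fin 31671 := fun r =>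
    if h : r < A.k then (hmap ⟨A.pts.getD r 0, A.pts_lt h⟩).choose else A.p₀
  have hτ : ∀ r < A.k, A.delta (τ r) = φ (A.x r) := by
    intro r hr
    simp only [τ, dif_pos hr]
    rw [(hmap ⟨A.pts.getD r 0, A.pts_lt hr⟩).choose_spec, A.delta_pts hr]
  have s0 : A.State τ [(0, 0)] := A.state_first τ (by rw [hk]; decide)
  have step : ∀ {prev : List (ℕ × ℕ)} {r : ℕ} {reps : List Rep},
      repsOK Fi23Fi22.tabP 10 pts prev r reps = true →
      scanOK Fi23Fi22.tabP 10 (roleConds Fi23Fi22.tabP 10 pts prev r) (roleMem pts prev reps) 31671 0 = true →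
      (∀ R ∈ reps, orbitOK Fi23Fi22.tabP R.O R.Pos 10 31671 R.c R.U R.c 0 = true) →
      A.State τ prev → ∃ R ∈ reps, A.State τ (prev ++ [(r, R.g)]) :=
    fun h1 h2 h3 h => A.state_step φ hτ (by rw [hZ, hk, hp]; exact h1) (by rw [hZ, hk, hp]; exact h2)
      (by rw [hZ, hk]; exact h3) h
  obtain ⟨R, hR, s1⟩ := step repsN1_ok scanN1_ok (by simpa [repsN1] using orbN1_1_ok) s0
  obtain rfl : R = repN1_1 := by simpa [repsN1] using hR
  obtain ⟨R, hR, s2⟩ := step repsN2_ok scanN2_ok (by simpa [repsN2] using orbN2_2_ok) s1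
  obtain rfl : R = repN2_2 := by simpa [repsN2] using hR
  obtain ⟨R, hR, s3⟩ := step repsN3_ok scanN3_ok (by simpa [repsN3] using orbN3_3_ok) s2
  obtain rfl : R = repN3_3 := by simpa [repsN3] using hR
  obtain ⟨R, hR, s4⟩ := step repsN4_ok scanN4_ok (by simpa [repsN4] using ⟨orbN4_8_ok, orbN4_4_ok⟩) s3
  obtain rfl | rfl : R = repN4_8 ∨ R = repN4_4 := by simpa [repsN4] using hR
  · obtain ⟨R, hR, s5⟩ := step repsN5_ok scanN5_ok (by simpa [repsN5] using orbN5_9_ok) s4
    obtain rfl : R = repN5_9 := by simpa [repsN5] using hR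
    obtain ⟨R, hR, s6⟩ := step repsN6_ok scanN6_ok (by simpa [repsN6] using orbN6_4_ok) s5
    obtain rfl : R = repN6_4 := by simpa [repsN6] using hR
    obtain ⟨R, hR, s7⟩ := step repsN7_ok scanN7_ok (by simpa [repsN7] using orbN7_5_ok) s6
    obtain rfl : R = repN7_5 := by simpa [repsN7] using hR
    obtain ⟨R, hR, s8⟩ := step repsN8_ok scanN8_ok (by simpa [repsN8] using orbN8_6_ok) s7
    obtain rfl : R = repN8_6 := by simpa [repsN8] using hR
    obtain ⟨R, hR, s9⟩ := step repsN9_ok scanN9_ok (by simpa [repsN9] using orbN9_7_ok) s8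
    obtain rfl : R = repN9_7 := by simpa [repsN9] using hR
    refine A.mem_inn φ hτ ?_ s9
    rw [hk]
    decide +kernel
  · obtain ⟨R, hR, s5⟩ := step repsM_ok scanM_ok (by simpa [repsM] using orbM_5_ok) s4
    obtain rfl : R = repM_5 := by simpa [repsM] using hR
    exact (A.leaf_false φ hτ (r := (5, 6, 7)) (by rw [hZ, hk, hp]; exact leaf_ok)
      (by rw [hk]; decide +kernel) (by
        intro s hs
        rw [hZ, hk, hp]
        simp only [List.mem_cons, List.not_mem_nil, or_false] at hs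
        rcases hs with rfl | rfl | rfl
        exacts [leaf5_ok, leaf6_ok, leaf7_ok]) s5).elim

theorem card_out : Nat.card (Cfsg.Out Cfsg.Spor.Fi23) = 1 := by
  rw [Cfsg.Out, ← Subgroup.index_eq_card, Subgroup.index_eq_one]
  exact eq_top_iff.2 fun φ _ => mem_inn φ

end Cfsg.Lib.CosetEnum.Fi23Out
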