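import Cfsg.Agent.Lib.CosetEnum.Fi23Table
import Cfsg.Agent.Lib.CosetEnum.Fi23Out.Valid
import Cfsg.Agent.Lib.CosetEnum.Fi23Sylow.Valid
import Cfsg.Agent.Lib.CosetEnum.Trans.NormalAbelian

/-!
# The normal elementary abelian subgroup of order 2^11 in a Sylow 2-subgroup of Fi23
-/

set_option autoImplicit false
set_option maxRecDepth 100000

namespace Cfsg.Lib.CosetEnum.Fi23Sylow

open Cfsg.Spor
open Fi23Out

theorem card_entries : entries.length = 2 ^ 11 := by decide +kernel

theorem sylow_normal_elementary_abelian (T : Sylow 2 Cfsg.Spor.Fi23) :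
    (∀ V : Subgroup Cfsg.Spor.Fi23, V ≤ T → (V.subgroupOf T).Normal → Cfsg.IsElementaryAbelian 2 V →
        Nat.card V ≤ 2 ^ 11) ∧
    ∃! V : Subgroup Cfsg.Spor.Fi23, V ≤ T ∧ (V.subgroupOf T).Normal ∧ Cfsg.IsElementaryAbelian 2 V ∧
        Nat.card V = 2 ^ 11 := by
  obtain ⟨A, hZ, hk, hp, -, hd2, -, -, -, -⟩ := exists_table
  have hFi : Cfsg.IsFi23 Cfsg.Spor.Fi23 := Fi23Pres.isFi23
  have hsimple : IsSimpleGroup Cfsg.Spor.Fi23 := hFi.1
  have hfin : Finite Cfsg.Spor.Fi23 := Nat.finite_of_card_ne_zero (by rw [hFi.2]; decide)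
  have hc : Subgroup.center Cfsg.Spor.Fi23 = ⊥ := by
    refine ((Subgroup.center Cfsg.Spor.Fi23).normal_of_characteristic.eq_bot_or_eq_top).resolve_right
      fun h => ?_
    let : CommGroup Cfsg.Spor.Fi23 := Group.commGroupOfCenterEqTop h
    have := IsSimpleGroup.prime_card (α := Cfsg.Spor.Fi23)
    rw [hFi.2] at this
    exact Nat.not_prime_mul (a := 2) (b := 2044735236646502400) (by decide) (by decide) this
  have hframe : frameOK A.Z A.k A.pts Fi23Out.fg aux = true := by rw [hZ, hk, hp]; exact frame_ok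
  have hchain : A.CentChain (frameWords Fi23Out.fg aux) chain := by
    simp only [chain, TransTable.CentChain, hZ, hk, hp]
    exact ⟨by decide +kernel, chain0_ok, by decide +kernel, chain1_ok, by decide +kernel, chain2_ok,
      by decide +kernel, chain3_ok, by decide +kernel, chain4_ok, by decide +kernel⟩
  have hsyl : 2 ^ (Nat.card Cfsg.Spor.Fi23).factorization 2 = entries.length * Dl.length := by
    have h : (Nat.card Cfsg.Spor.Fi23).factorization 2 = 18 := by
      rw [hFi.2, show (4089470473293004800 : ℕ) = 2 ^ 18 * 15600091832325 by norm_num,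
        Nat.factorization_mul (by norm_num) (by norm_num), Finsupp.add_apply,
        Nat.prime_two.factorization_pow, Finsupp.single_eq_same,
        Nat.factorization_eq_zero_of_not_dvd (show ¬ 2 ∣ 15600091832325 by norm_num)]
    rw [h, card_entries]
    decide +kernel
  rw [← card_entries]
  exact A.normal_elementary_abelian hc hd2 hframe hchain entries_inc entries_len (ps := codePts)
    (fun p hp' => by simpa using List.all_eq_true.1 codePts_lt p hp')
    (fun e he => by rw [hZ, hk]; exact List.all_eq_true.1 entries_ok e he)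
    (m := 23) (by rw [hZ, hk, hp]; exact pts_ok.1) (by rw [hZ, hk, hp]; exact pts_ok.2)
    group_ok (lifts := lifts) (by decide +kernel)
    (fun i hi => by
      rw [hZ, hk, hp]
      exact List.all_eq_true.1 lift_ok i (List.mem_range.2 hi))
    (Bs := subs) (by decide +kernel) (by decide +kernel) grow_ok (sel := sels)
    (fun b hb h0 => by rw [hZ, hk, hp]; exact bound_ok b hb h0)
    hsyl T

end Cfsg.Lib.CosetEnum.Fi23Sylow
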