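import Cfsg.Agent.S1689
import Cfsg.Agent.Lib.CosetEnum.Groups.Fi23Simple
import Cfsg.Agent.Lib.CosetEnum.Fi23Centre.Valid
import Cfsg.Agent.Lib.CosetEnum.Central
import Cfsg.Agent.Lib.CosetEnum.ThreeTrans
import Cfsg.Agent.Lib.CosetEnum.Fi23Trans.Valid
import Cfsg.Agent.Lib.CosetEnum.Fi23Out.Data
import Cfsg.Agent.Lib.CosetEnum.Trans.Class

/-!
# The transpositions of the presented group Fi23 on the table
-/

set_option autoImplicit false

open scoped commutatorElement

namespace Cfsg.Lib.CosetEnum.Fi23Out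

open Cfsg.Spor

set_option maxRecDepth 100000

/-- Braided generators are conjugate by their product. -/
theorem braid_conj {G : Type*} [Group G] {a b : G} (ha : a * a = 1) (hb : b * b = 1)
    (h : (a * b) ^ 3 = 1) : (a * b) * a * (a * b)⁻¹ = b := by
  rw [mul_inv_eq_iff_eq_mul]
  calc a * b * a = (a * b) ^ 3 * ((a * b)⁻¹ * (a * b)⁻¹ * a) := by rw [pow_succ, pow_two]; group
    _ = b * (a * b) := by
      rw [h, one_mul, mul_inv_rev, inv_eq_of_mul_eq_one_left ha, inv_eq_of_mul_eq_one_left hb]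
      simp only [mul_assoc, ha, mul_one]

theorem exists_table : ∃ A : TransTable Cfsg.Spor.Fi23 31671,
    A.Z = Fi23Fi22.tabP ∧ A.k = 10 ∧ A.pts = pts ∧ A.x = Fi23Pres.numbering.gens Fi23.extra ∧
      A.d * A.d = 1 ∧ Subgroup.centralizer ({A.d} : Set Cfsg.Spor.Fi23) ≤
        ⁅Subgroup.centralizer ({A.d} : Set Cfsg.Spor.Fi23),
          Subgroup.centralizer ({A.d} : Set Cfsg.Spor.Fi23)⁆ ∧ A.d ≠ 1 ∧
      (Subgroup.centralizer ({A.d} : Set Cfsg.Spor.Fi23)).index = 31671 ∧
      Cfsg.IsThreeTranspositionClass (conjugatesOf A.d) := by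
  let N := Fi23Pres.numbering
  let x : ℕ → Cfsg.Spor.Fi23 := N.gens Fi23.extra
  have hx : ∀ g, x g * x g = 1 := N.gens_mul_self Fi23.extra
  have hk : N.k ≤ eps := by decide
  have hR : Fi23Fi22.cert.R0 = N.pairs ++ Fi23Pres.extra := by decide +kernel
  have hrel : ∀ r ∈ Fi23Fi22.cert.R0, wordVal x r = 1 := fun r hr =>
    N.wordVal_gens hk (Fi23Pres.map_extra x hx) r (hR ▸ hr)
  obtain ⟨f, hf⟩ := N.exists_hom hk Fi23.extra Fi23Fi22.cert_valid hR rfl
    (Fi23Pres.map_extra _ fun g => tperm_mul_self _ _ _ g)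
  have hK := N.map_closure Fi23.extra (Us := [Fi23.a, Fi23.b, Fi23.c, Fi23.d, Fi23.e, Fi23.f, Fi23.g, Fi23.h, Fi23.i])
    (U := Fi23Fi22.subWords)
    (by simp [Fi23Fi22.subWords, wordVal, gen, eps, N, Fi23Pres.numbering, Fi23Pres.num, pow_succ, mul_assoc])
    (s := {Fi23.a, Fi23.b, Fi23.c, Fi23.d, Fi23.e, Fi23.f, Fi23.g, Fi23.h, Fi23.i})
    (by ext w; simp)
  obtain ⟨hidx, q₁, q₂, hq₁, hq₂⟩ := Cfsg.Agent.S1689.result
  have hFi : Cfsg.IsFi23 Cfsg.Spor.Fi23 := Fi23Pres.isFi23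
  have hsimple : IsSimpleGroup Cfsg.Spor.Fi23 := hFi.1
  have hfin : Finite Cfsg.Spor.Fi23 := Nat.finite_of_card_ne_zero (by rw [hFi.2]; decide)
  have hperm := Fi23Fi22.cert_valid.perm
  have hval : ∀ g < 10, ∀ i : Fin 31671, (f (x g) i).1 = img Fi23Fi22.tabP 10 g i.1 := fun g hg i => by
    rw [show f (x g) = tperm Fi23Fi22.cert.step.P Fi23Fi22.cert.step.k Fi23Fi22.cert.step.n g from
      hf g hg]
    exact tperm_apply hperm hg i
  have hinj : Function.Injective f := by
    rw [← MonoidHom.ker_eq_bot_iff]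
    refine (f.normal_ker.eq_bot_or_eq_top).resolve_right fun h => ?_
    have h1 : f (x 7) = 1 := f.mem_ker.1 (h ▸ Subgroup.mem_top _)
    have h2 := hval 7 (by decide) ⟨0, by decide⟩
    rw [h1] at h2
    exact absurd h2.symm (show img Fi23Fi22.tabP 10 7 0 ≠ 0 by decide +kernel)
  obtain ⟨hz2, hzcomm, hzne⟩ := centre_word x f hinj (k := 10) hperm (by decide) hf
    Fi23Centre.centre_ok (by decide +kernel) (by decide +kernel)
  set z := wordVal x Fi23Centre.centreWord
  have hz1 : z ≠ 1 := hzne 1 (by decide) (by decide +kernel)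
  set H := (Subgroup.closure _).map (PresentedGroup.mk _) with hH
  have hcomm : ∀ k ∈ H, k * z = z * k := by
    intro k hk'
    rw [hK] at hk'
    refine Subgroup.mem_centralizer_singleton_iff.1 ((Subgroup.closure_le
      (K := Subgroup.centralizer ({z} : Set Cfsg.Spor.Fi23))).2 ?_ hk')
    rintro _ ⟨u, hu, rfl⟩
    rw [SetLike.mem_coe, Subgroup.mem_centralizer_singleton_iff]
    obtain ⟨g, hg, rfl, hge⟩ : ∃ g ∈ Fi23Centre.letters, [g] = u ∧ g ≠ eps :=
      (show ∀ u ∈ Fi23Fi22.subWords, ∃ g ∈ Fi23Centre.letters, [g] = u ∧ g ≠ eps by decide +kernel) u hu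
    rw [show wordVal x [g] = x g by simp [wordVal, gen, hge]]
    exact hzcomm g hg
  have hna : ¬ ∀ a b : Cfsg.Spor.Fi23, a * b = b * a := fun h => by
    let : CommGroup Cfsg.Spor.Fi23 := { (inferInstance : Group Cfsg.Spor.Fi23) with mul_comm := h }
    have := IsSimpleGroup.prime_card (α := Cfsg.Spor.Fi23)
    rw [hFi.2] at this
    exact Nat.not_prime_mul (a := 2) (b := 2044735236646502400) (by decide) (by decide) this
  have hC := centralizer_eq (d := z) (K := H) hz1 hna hcomm hq₁ hq₂ (by decide) (by decide)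
    (by decide) (by rw [hidx]) (by rw [hidx]; decide) (by rw [hidx]; decide)
  -- the central involution is conjugate to the first generator
  set W := wordVal x Fi23Trans.word with hWdef
  have hW : W * z * W⁻¹ = x 0 :=
    conj_eq_of_table x f hinj (k := 10) hperm (by decide) hf Fi23Centre.centre_ok
      (by decide +kernel) (by decide +kernel) (by decide) Fi23Trans.conj_get
  have hbraid : ∀ p ∈ [(0, 1), (1, 2), (2, 3), (3, 4), (4, 5), (5, 6), (6, 7), (3, 8), (8, 9)],
      (x p.1 * x p.2) ^ 3 = 1 := by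
    intro p hp
    have hw : (List.replicate 3 [p.2, p.1]).flatten ∈ Fi23Fi22.cert.R0 ∧ p.1 ≠ eps ∧ p.2 ≠ eps := by
      revert p; decide +kernel
    have h1 := hrel _ hw.1
    rwa [wordVal_replicate x _ _ hw.2.1 hw.2.2] at h1
  obtain ⟨-, Φ, hΦ, heq, h0⟩ := Fi23Fi22.cert_valid.index_eq hx (N.closure_gens Fi23.extra) hrel f hf hK
  obtain ⟨f', hf', hinj', Φ, hΦ, heq, h0⟩ : ∃ f' : Cfsg.Spor.Fi23 →* Equiv.Perm (Fin 31671),
      (∀ g < 10, f' (x g) = tperm Fi23Fi22.tabP 10 31671 g) ∧ Function.Injective f' ∧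
      ∃ Φ : Cfsg.Spor.Fi23 ⧸ H → Fin 31671, Function.Bijective Φ ∧
        (∀ (a : Cfsg.Spor.Fi23) (q : Cfsg.Spor.Fi23 ⧸ H), Φ (a • q) = f' a (Φ q)) ∧
        (Φ ((1 : Cfsg.Spor.Fi23) : Cfsg.Spor.Fi23 ⧸ H)).1 = 0 := ⟨f, hf, hinj, Φ, hΦ, heq, h0⟩
  have hz : Φ ((1 : Cfsg.Spor.Fi23) : Cfsg.Spor.Fi23 ⧸ H) = (0 : Fin 31671) := Fin.ext h0
  have happ : ∀ g : Cfsg.Spor.Fi23, f' g 0 = Φ (g : Cfsg.Spor.Fi23 ⧸ H) := fun g => by
    rw [← hz, ← heq]
    exact congrArg Φ (congrArg (fun a : Cfsg.Spor.Fi23 => (a : Cfsg.Spor.Fi23 ⧸ H)) (mul_one g))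
  let A₀ : TransAct Cfsg.Spor.Fi23 31671 :=
    { f := f'
      inj := hinj'
      d := z
      p₀ := 0
      trans := fun p => by
        obtain ⟨q, rfl⟩ := hΦ.2 p
        obtain ⟨g, rfl⟩ := QuotientGroup.mk_surjective q
        exact ⟨g, happ g⟩
      stab := fun g => by
        rw [happ, ← hz, hΦ.1.eq_iff, QuotientGroup.eq, mul_one, inv_mem_iff, ← hC,
          Subgroup.mem_centralizer_singleton_iff] }
  have hwalk : ∀ (u : List ℕ), (∀ g ∈ u, g < 10) → ∀ i : Fin 31671,
      (f' (wordVal x u) i).1 = twalk Fi23Fi22.tabP 10 u i.1 := fun u hu i => by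
    rw [map_wordVal_tperm x f' (k := 10) (by decide) hf' hu]
    exact wordVal_tperm hperm (by decide) u hu i
  let Good : ℕ → Prop := fun g => ∃ h : pts.getD g 0 < 31671, A₀.delta ⟨pts.getD g 0, h⟩ = x g
  have hg0 : Good 0 := by
    refine ⟨by decide +kernel, ?_⟩
    have e : (⟨pts.getD 0 0, by decide +kernel⟩ : Fin 31671) = A₀.f W A₀.p₀ := Fin.ext <| by
      show pts.getD 0 0 = (f' (wordVal x Fi23Trans.word) (0 : Fin 31671)).1
      rw [hwalk _ (by decide +kernel)]
      decide +kernel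
    rw [e, A₀.delta_move]
    exact hW
  have hstep : ∀ p ∈ [(0, 1), (1, 2), (2, 3), (3, 4), (4, 5), (5, 6), (6, 7), (3, 8), (8, 9)],
      Good p.1 → Good p.2 := by
    rintro p hp ⟨h1, h2⟩
    have hb := hbraid p hp
    have hc : pts.getD p.2 0 < 31671 ∧ p.1 < 10 ∧ p.2 < 10 ∧
        twalk Fi23Fi22.tabP 10 [p.2, p.1] (pts.getD p.1 0) = pts.getD p.2 0 := by
      have hall : ∀ q ∈ [(0, 1), (1, 2), (2, 3), (3, 4), (4, 5), (5, 6), (6, 7), (3, 8), (8, 9)],
          pts.getD q.2 0 < 31671 ∧ q.1 < 10 ∧ q.2 < 10 ∧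
            twalk Fi23Fi22.tabP 10 [q.2, q.1] (pts.getD q.1 0) = pts.getD q.2 0 := by decide +kernel
      exact hall p hp
    obtain ⟨hlt, ha, hb', htw⟩ := hc
    refine ⟨hlt, ?_⟩
    have e : (⟨pts.getD p.2 0, hlt⟩ : Fin 31671) =
        A₀.f (x p.1 * x p.2) ⟨pts.getD p.1 0, h1⟩ := Fin.ext <| by
      show pts.getD p.2 0 = (f' (x p.1 * x p.2) ⟨pts.getD p.1 0, h1⟩).1
      have := hwalk [p.2, p.1] (by simp [ha, hb']) ⟨pts.getD p.1 0, h1⟩
      rw [show wordVal x [p.2, p.1] = x p.1 * x p.2 by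
        simp [wordVal, gen, show p.1 ≠ eps by simp only [eps]; omega,
          show p.2 ≠ eps by simp only [eps]; omega]] at this
      rw [this, htw]
    rw [e, A₀.delta_apply, h2]
    exact braid_conj (hx _) (hx _) hb
  have hgood : ∀ g < 10, Good g := by
    have g1 := hstep (0, 1) (by simp) hg0
    have g2 := hstep (1, 2) (by simp) g1
    have g3 := hstep (2, 3) (by simp) g2
    have g4 := hstep (3, 4) (by simp) g3
    have g5 := hstep (4, 5) (by simp) g4
    have g6 := hstep (5, 6) (by simp) g5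
    have g7 := hstep (6, 7) (by simp) g6
    have g8 := hstep (3, 8) (by simp) g3
    have g9 := hstep (8, 9) (by simp) g8
    intro g hg
    interval_cases g <;> assumption
  let A : TransTable Cfsg.Spor.Fi23 31671 :=
    { toTransAct := A₀
      x := x
      Z := Fi23Fi22.tabP
      k := 10
      R := _
      perm := hperm
      k_le := by decide
      f_gen := hf'
      gen := N.closure_gens Fi23.extra
      sq := hx
      pts := pts
      pts_spec := hgood }
  have hperf : H ≤ ⁅H, H⁆ := by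
    have hmemH : ∀ g ∈ [0, 1, 2, 3, 4, 5, 6, 8, 9], x g ∈ H := by
      intro g hg
      rw [hK]
      have : [g] ∈ Fi23Fi22.subWords ∧ g ≠ eps :=
        (show ∀ g ∈ [0, 1, 2, 3, 4, 5, 6, 8, 9], [g] ∈ Fi23Fi22.subWords ∧ g ≠ eps by decide +kernel) g hg
      refine Subgroup.subset_closure ⟨[g], this.1, ?_⟩
      show wordVal x [g] = x g
      simp [wordVal, gen, this.2]
    let y : ℕ → H := fun g => if h : g ∈ [0, 1, 2, 3, 4, 5, 6, 8, 9] then ⟨x g, hmemH g h⟩ else 1
    have hy : ∀ g ∈ [0, 1, 2, 3, 4, 5, 6, 8, 9], (y g : Cfsg.Spor.Fi23) = x g := fun g hg => by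
      simp only [y, dif_pos hg]
    let φ : H →* Abelianization H := Abelianization.of
    have hsq : ∀ g, φ (y g) * φ (y g) = 1 := fun g => by
      rw [← map_mul, show y g * y g = 1 from ?_, map_one]
      simp only [y]
      split
      · exact Subtype.ext (hx g)
      · exact one_mul 1
    have hedge : ∀ p ∈ [(0, 1), (1, 2), (2, 3), (3, 4), (4, 5), (5, 6), (3, 8), (8, 9)],
        p.1 ∈ [0, 1, 2, 3, 4, 5, 6, 8, 9] → p.2 ∈ [0, 1, 2, 3, 4, 5, 6, 8, 9] → φ (y p.2) = φ (y p.1) := by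
      intro p hp h1 h2
      have hb := hbraid p (by
        simp only [List.mem_cons, List.not_mem_nil, or_false] at hp ⊢
        rcases hp with rfl | rfl | rfl | rfl | rfl | rfl | rfl | rfl <;> simp)
      have h3 : φ ((y p.1 * y p.2) ^ 3) = 1 := by
        rw [show (y p.1 * y p.2) ^ 3 = 1 from Subtype.ext (by
          rw [SubgroupClass.coe_pow, Subgroup.coe_mul, hy _ h1, hy _ h2, hb]; rfl), map_one]
      rw [map_pow, map_mul, mul_pow, pow_succ, pow_succ _ 2, pow_two, pow_two, hsq, hsq, one_mul,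
        one_mul] at h3
      rw [eq_inv_of_mul_eq_one_right h3, inv_eq_of_mul_eq_one_left (hsq _)]
    have hall : ∀ g ∈ [0, 1, 2, 3, 4, 5, 6, 8, 9], φ (y g) = φ (y 0) := by
      have g1 := hedge (0, 1) (by simp) (by decide) (by decide)
      have g2 := (hedge (1, 2) (by simp) (by decide) (by decide)).trans g1
      have g3 := (hedge (2, 3) (by simp) (by decide) (by decide)).trans g2
      have g4 := (hedge (3, 4) (by simp) (by decide) (by decide)).trans g3
      have g5 := (hedge (4, 5) (by simp) (by decide) (by decide)).trans g4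
      have g6 := (hedge (5, 6) (by simp) (by decide) (by decide)).trans g5
      have g9 : φ (y 9) = φ (y 0) := (hedge (8, 9) (by simp) (by decide) (by decide)).trans
        ((hedge (3, 8) (by simp) (by decide) (by decide)).trans g3)
      have g8 := (hedge (3, 8) (by simp) (by decide) (by decide)).trans g3
      intro g hg
      simp only [List.mem_cons, List.not_mem_nil, or_false] at hg
      rcases hg with rfl | rfl | rfl | rfl | rfl | rfl | rfl | rfl | rfl <;> first | rfl | assumption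
    have hodd : φ (y 0) = 1 := by
      set r : List ℕ := (List.replicate 9 [8, 5, 4, 3, 2, 1, 0]).flatten with hr
      have hw : ∀ u : List ℕ, (∀ g ∈ u, g ∈ [0, 1, 2, 3, 4, 5, 6, 8, 9]) →
          φ (wordVal y u) = φ (y 0) ^ u.length ∧ ((wordVal y u : H) : Cfsg.Spor.Fi23) = wordVal x u := by
        intro u
        induction u with
        | nil => intro _; exact ⟨map_one φ, rfl⟩
        | cons g u ih =>
          intro hu
          have hg := hu g (by simp)
          have hge : g ≠ eps :=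
            (show ∀ g ∈ [0, 1, 2, 3, 4, 5, 6, 8, 9], g ≠ eps by decide) g hg
          obtain ⟨h1, h2⟩ := ih fun a ha => hu a (by simp [ha])
          refine ⟨?_, ?_⟩
          · rw [wordVal, map_mul, h1, gen, if_neg hge, hall g hg, List.length_cons, pow_succ]
          · rw [wordVal, wordVal, Subgroup.coe_mul, h2, gen, gen, if_neg hge, if_neg hge]
            rw [hy g hg]
      obtain ⟨h1, h2⟩ := hw r (by decide +kernel)
      have h3 : wordVal y r = 1 := Subtype.ext (h2.trans (hrel r (by decide +kernel)))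
      rw [h3, map_one, show r.length = 2 * 31 + 1 by decide +kernel, pow_succ, pow_mul, pow_two, hsq,
        one_pow, one_mul] at h1
      exact h1.symm
    have hcomH : commutator H = ⊤ := by
      rw [← Abelianization.ker_of, eq_top_iff]
      rintro ⟨a, ha⟩ -
      have hle : H ≤ (φ.ker).map H.subtype := by
        refine le_trans hK.le ?_
        rw [Subgroup.closure_le]
        rintro _ ⟨u, hu, rfl⟩
        obtain ⟨g, hg, rfl⟩ : ∃ g, g ∈ [0, 1, 2, 3, 4, 5, 6, 8, 9] ∧ [g] = u :=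
          (show ∀ u ∈ Fi23Fi22.subWords, ∃ g, g ∈ [0, 1, 2, 3, 4, 5, 6, 8, 9] ∧ [g] = u by
            intro u hu
            simp only [Fi23Fi22.subWords, List.mem_cons, List.not_mem_nil, or_false] at hu
            rcases hu with rfl | rfl | rfl | rfl | rfl | rfl | rfl | rfl | rfl <;>
              exact ⟨_, by decide, rfl⟩) u hu
        refine ⟨y g, ?_, ?_⟩
        · show y g ∈ φ.ker
          rw [MonoidHom.mem_ker, hall g hg, hodd]
        · show (y g : Cfsg.Spor.Fi23) = wordVal x [g]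
          rw [hy g hg]
          simp [wordVal, gen, show g ≠ eps from (show ∀ g ∈ [0, 1, 2, 3, 4, 5, 6, 8, 9], g ≠ eps by decide) g hg]
      obtain ⟨b, hb, hba⟩ := hle ha
      rwa [show (⟨a, ha⟩ : H) = b from Subtype.ext hba.symm]
    intro a ha
    have : (⟨a, ha⟩ : H) ∈ commutator H := hcomH ▸ Subgroup.mem_top _
    rw [commutator_def] at this
    have h2 : a ∈ Subgroup.map H.subtype ⁅(⊤ : Subgroup H), (⊤ : Subgroup H)⁆ := ⟨_, this, rfl⟩
    rwa [Subgroup.map_commutator, ← MonoidHom.range_eq_map, Subgroup.range_subtype] at h2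
  refine ⟨A, rfl, rfl, rfl, rfl, hz2,
    by show Subgroup.centralizer ({z} : Set _) ≤ _; rw [hC]; exact hperf, hz1, by show (Subgroup.centralizer ({z} : Set _)).index = 31671; rw [hC, hidx], ?_⟩
  -- two generators next to the first give the two kinds of pairs
  have hdne : ∀ g, g < 3 → g ≠ 0 → W⁻¹ * x g * W ≠ z := by
    intro g hg hg0' he
    obtain ⟨h1, h2⟩ := hgood g (by omega)
    obtain ⟨h3, h4⟩ := hg0
    have e : A₀.delta ⟨pts.getD g 0, h1⟩ = A₀.delta ⟨pts.getD 0 0, h3⟩ := by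
      rw [h2, h4, ← hW, ← he]; group
    have := congrArg Fin.val (A₀.delta_injective e)
    revert this
    simp only
    interval_cases g
    · exact absurd rfl hg0'
    all_goals decide +kernel
  have hz0 : W⁻¹ * x 0 * W = z := by rw [← hW]; group
  have hback : ∀ g, IsConj (x 0) (x g) → IsConj z (W⁻¹ * x g * W) := fun g hg =>
    ((isConj_iff.2 ⟨W, hW⟩).trans hg).trans (isConj_iff.2 ⟨W⁻¹, by rw [inv_inv]⟩)
  have hprod : ∀ g m, (x 0 * x g) ^ m = 1 → (z * (W⁻¹ * x g * W)) ^ m = 1 := by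
    intro g m h
    have : z * (W⁻¹ * x g * W) = W⁻¹ * (x 0 * x g) * W⁻¹⁻¹ := by rw [← hz0]; group
    rw [this, conj_pow, h, mul_one, mul_inv_cancel]
  have h02 : (x 0 * x 2) ^ 2 = 1 := by
    have hr : (List.replicate 2 [2, 0]).flatten ∈ Fi23Fi22.cert.R0 := by decide +kernel
    have := hrel _ hr
    rwa [wordVal_replicate x _ _ (by decide) (by decide)] at this
  have c01 : IsConj (x 0) (x 1) :=
    isConj_iff.2 ⟨_, braid_conj (hx 0) (hx 1) (hbraid (0, 1) (by simp))⟩
  have c12 : IsConj (x 1) (x 2) :=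
    isConj_iff.2 ⟨_, braid_conj (hx 1) (hx 2) (hbraid (1, 2) (by simp))⟩
  exact (isThreeTranspositionClass_of_rank_three (d := z) (K := H) hz1 hz2 hC hq₁ hq₂ (by decide)
    (by decide) (by decide) (by rw [hidx]) (hback 1 c01) (hback 2 (c01.trans c12))
    (hdne 1 (by decide) (by decide)) (hdne 2 (by decide) (by decide))
    (hprod 1 3 (hbraid (0, 1) (by simp))) (hprod 2 2 h02)).1

end Cfsg.Lib.CosetEnum.Fi23Out
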