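import Cfsg.Agent.Lib.CosetEnum.Check

/-!
# Permutation tables: lower bounds and orbits
-/

set_option autoImplicit false

namespace Cfsg.Lib.CosetEnum

theorem permOK_get {Z : Tab} {k n : ℕ} {R : List (List ℕ)} : ∀ {m i : ℕ},
    permOK Z k n R m i = true → ∀ j, i ≤ j → j < i + m →
      (∀ g < k, img Z k g j < n ∧ img Z k g (img Z k g j) = j) ∧
        ∀ r ∈ R, (∀ g ∈ r, g < k) ∧ twalk Z k r j = j
  | 0, i, _, j, h1, h2 => by omega
  | m + 1, i, hc, j, h1, h2 => by
    rw [permOK, force_eq, Bool.and_eq_true] at hc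
    rcases Nat.eq_or_lt_of_le h1 with h | h
    · subst h
      have h3 := hc.1
      simp only [force_eq, Bool.and_eq_true, List.all_eq_true, List.mem_range, Nat.blt_eq, Nat.beq_eq] at h3
      exact h3
    · exact permOK_get hc.2 j h (by omega)

theorem treeOK_get {Z F : Tab} {k : ℕ} : ∀ {m i : ℕ},
    treeOK Z F k m i = true → ∀ j, i ≤ j → j < i + m →
      fu (F.getP j) ≤ j ∧ fg (F.getP j) < k ∧ img Z k (fg (F.getP j)) (fu (F.getP j)) = j + 1
  | 0, i, _, j, h1, h2 => by omega
  | m + 1, i, hc, j, h1, h2 => by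
    rw [treeOK, force_eq, Bool.and_eq_true] at hc
    rcases Nat.eq_or_lt_of_le h1 with h | h
    · subst h
      have h3 := hc.1
      simp only [Bool.and_eq_true, Nat.blt_eq, Nat.ble_eq, Nat.beq_eq, and_assoc] at h3
      exact h3
    · exact treeOK_get hc.2 j h (by omega)

theorem orbitOK_get {Z O Pos : Tab} {k n c : ℕ} {U : List (List ℕ)} : ∀ {m i : ℕ},
    orbitOK Z O Pos k n c U m i = true → ∀ j, i ≤ j → j < i + m →
      O.getP j / B / B < n ∧ Pos.getP (O.getP j / B / B) = j ∧
      (j = 0 ∨ (O.getP j / B % B < j ∧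
        twalk Z k (U.getD (O.getP j % B) []) (O.getP (O.getP j / B % B) / B / B) =
          O.getP j / B / B)) ∧
      ∀ u ∈ U, (∀ g ∈ u, g < k) ∧ Pos.getP (twalk Z k u (O.getP j / B / B)) < c ∧
        O.getP (Pos.getP (twalk Z k u (O.getP j / B / B))) / B / B = twalk Z k u (O.getP j / B / B)
  | 0, i, _, j, h1, h2 => by omega
  | m + 1, i, hc, j, h1, h2 => by
    rw [orbitOK, force_eq, Bool.and_eq_true] at hc
    rcases Nat.eq_or_lt_of_le h1 with h | h
    · subst h
      have h3 := hc.1
      simp only [member, force_eq, Bool.and_eq_true, Bool.or_eq_true, List.all_eq_true, Nat.blt_eq,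
        Nat.beq_eq, and_assoc] at h3
      exact h3
    · exact orbitOK_get hc.2 j h (by omega)

variable {n : ℕ}

/-- The generators as maps of `Fin n`. -/
noncomputable def tperm (Z : Tab) (k : ℕ) (n : ℕ) (g : ℕ) : Equiv.Perm (Fin n) :=
  open scoped Classical in
  if h : g < k ∧ ∀ i < n, img Z k g i < n ∧ img Z k g (img Z k g i) = i then
    Function.Involutive.toPerm (fun i => ⟨img Z k g i.1, (h.2 i.1 i.2).1⟩)
      (fun i => Fin.ext (h.2 i.1 i.2).2)
  else 1

theorem tperm_mul_self (Z : Tab) (k n g : ℕ) : tperm Z k n g * tperm Z k n g = 1 := by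
  unfold tperm
  split
  · next h => ext i; exact (h.2 i.1 i.2).2
  · simp

theorem tperm_apply {Z : Tab} {k : ℕ} {R : List (List ℕ)}
    (h : permOK Z k n R n 0 = true) {g : ℕ} (hg : g < k) (i : Fin n) :
    (tperm Z k n g i).1 = img Z k g i.1 := by
  have hc : g < k ∧ ∀ i < n, img Z k g i < n ∧ img Z k g (img Z k g i) = i :=
    ⟨hg, fun j hj => (permOK_get h j (Nat.zero_le _) (by omega)).1 g hg⟩
  rw [tperm, dif_pos hc]
  rfl

/-- The product of a word, first letter first in action order. -/
def wordVal {G : Type*} [Group G] (x : ℕ → G) : List ℕ → G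
  | [] => 1
  | g :: w => wordVal x w * gen x g

theorem act_eq_smul {G α : Type*} [Group G] [MulAction G α] (x : ℕ → G) :
    ∀ (w : List ℕ) (q : α), act x w q = wordVal x w • q
  | [], q => (one_smul G q).symm
  | g :: w, q => by rw [act_cons, act_eq_smul x w, wordVal, mul_smul]

theorem map_wordVal {G H : Type*} [Group G] [Group H] (f : G →* H) (x : ℕ → G) :
    ∀ w : List ℕ, f (wordVal x w) = wordVal (fun g => f (x g)) w
  | [] => map_one f
  | g :: w => by
    rw [wordVal, wordVal, map_mul, map_wordVal f x w]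
    congr 1
    unfold gen
    split <;> simp

theorem wordVal_tperm {Z : Tab} {k : ℕ} {R : List (List ℕ)} (h : permOK Z k n R n 0 = true)
    (hk : k ≤ eps) : ∀ (w : List ℕ), (∀ g ∈ w, g < k) → ∀ i : Fin n,
      (wordVal (tperm Z k n) w i).1 = twalk Z k w i.1
  | [], _, i => rfl
  | g :: w, hw, i => by
    have hg : g < k := hw g (by simp)
    rw [twalk_cons, wordVal, Equiv.Perm.mul_apply, wordVal_tperm h hk w (fun a ha => hw a (by simp [ha])),
      gen, if_neg (by omega), tperm_apply h hg]

theorem wordVal_tperm_eq_one {Z : Tab} {k : ℕ} {R : List (List ℕ)}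
    (h : permOK Z k n R n 0 = true) (hk : k ≤ eps) {r : List ℕ} (hr : r ∈ R) :
    wordVal (tperm Z k n) r = 1 := by
  ext i
  rw [wordVal_tperm h hk r fun g hg => ((permOK_get h i.1 (Nat.zero_le _) (by omega)).2 r hr).1 g hg]
  exact ((permOK_get h i.1 (Nat.zero_le _) (by omega)).2 r hr).2

/-- A group mapping onto the table acts transitively. -/
theorem exists_smul_eq {G : Type*} [Group G] (x : ℕ → G) (f : G →* Equiv.Perm (Fin n))
    {Z F : Tab} {k : ℕ} {R : List (List ℕ)} (h : permOK Z k n R n 0 = true)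
    (hf : ∀ g < k, f (x g) = tperm Z k n g) (ht : treeOK Z F k (n - 1) 0 = true)
    (hn : 0 < n) : ∀ (j : ℕ) (hj : j < n), ∃ a ∈ Subgroup.closure (x '' {g | g < k}),
      f a ⟨0, hn⟩ = ⟨j, hj⟩ := by
  intro j
  induction j using Nat.strong_induction_on with
  | _ j ih =>
    intro hj
    rcases j with _ | j
    · exact ⟨1, one_mem _, by simp⟩
    · obtain ⟨h1, h2, h3⟩ := treeOK_get ht j (Nat.zero_le _) (by omega)
      obtain ⟨a, ha, haj⟩ := ih (fu (F.getP j)) (by omega) (by omega)
      refine ⟨x (fg (F.getP j)) * a,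
        mul_mem (Subgroup.subset_closure ⟨_, h2, rfl⟩) ha, ?_⟩
      rw [map_mul, Equiv.Perm.mul_apply, haj, hf _ h2]
      exact Fin.ext (by rw [tperm_apply h h2]; exact h3)

/-- A listed orbit is the orbit of its first point under the group generated by the words. -/
theorem orbit_eq {G : Type*} [Group G] (x : ℕ → G) (f : G →* Equiv.Perm (Fin n))
    {Z O Pos : Tab} {k c : ℕ} {R U : List (List ℕ)} (h : permOK Z k n R n 0 = true) (hk : k ≤ eps)
    (hf : ∀ g < k, f (x g) = tperm Z k n g)
    (ho : orbitOK Z O Pos k n c U c 0 = true) (hc : 0 < c) :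
    ∃ p : Fin n, p.1 = O.getP 0 / B / B ∧
      ((fun a : G => f a p) '' (Subgroup.closure ((wordVal x) '' {u | u ∈ U}) : Set G)).ncard = c ∧
      ∀ a ∈ Subgroup.closure ((wordVal x) '' {u | u ∈ U}), Pos.getP (f a p).1 < c := by
  have hget := fun j (hj : j < c) => orbitOK_get ho j (Nat.zero_le _) (by omega)
  have hwalk : ∀ u : List ℕ, (∀ g ∈ u, g < k) → ∀ i : Fin n,
      (f (wordVal x u) i).1 = twalk Z k u i.1 := by
    intro u hu i
    have : ∀ w : List ℕ, (∀ g ∈ w, g < k) →
        f (wordVal x w) = wordVal (tperm Z k n) w := by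
      intro w
      induction w with
      | nil => intro _; exact map_one f
      | cons g w ih =>
        intro hw
        have hg : g < k := hw g (by simp)
        rw [wordVal, wordVal, map_mul, ih fun a ha => hw a (by simp [ha])]
        congr 1
        rw [gen, gen, if_neg (by omega), if_neg (by omega), hf g hg]
    rw [this u hu, wordVal_tperm h hk u hu]
  let p : Fin n := ⟨O.getP 0 / B / B, (hget 0 hc).1⟩
  let pt : Fin c → Fin n := fun j => ⟨O.getP j.1 / B / B, (hget j.1 j.2).1⟩
  refine ⟨p, rfl, ?_⟩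
  have hinj : Function.Injective pt := by
    intro a b hab
    have h1 := congrArg (fun z : Fin n => Pos.getP z.1) hab
    simp only [pt] at h1
    rw [(hget a.1 a.2).2.1, (hget b.1 b.2).2.1] at h1
    exact Fin.ext h1
  suffices hs : (fun a : G => f a p) ''
      (Subgroup.closure ((wordVal x) '' {u | u ∈ U}) : Set G) = Set.range pt by
    refine ⟨?_, fun a ha => ?_⟩
    · rw [hs, ← Set.image_univ, Set.ncard_image_of_injective _ hinj, Set.ncard_univ, Nat.card_fin]
    · obtain ⟨⟨j, hj⟩, hja⟩ : f a p ∈ Set.range pt := hs ▸ ⟨a, ha, rfl⟩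
      rw [← hja]
      simp only [pt]
      rw [(hget j hj).2.1]
      exact hj
  apply Set.Subset.antisymm
  · rintro _ ⟨a, ha, rfl⟩
    suffices hh : ∀ z ∈ Set.range pt, f a z ∈ Set.range pt from hh p ⟨⟨0, hc⟩, rfl⟩
    have hmove : ∀ u ∈ U, ∀ z ∈ Set.range pt, f (wordVal x u) z ∈ Set.range pt := by
      rintro u hu _ ⟨j, rfl⟩
      obtain ⟨hlt, hlt', heq⟩ := (hget j.1 j.2).2.2.2 u hu
      exact ⟨⟨_, hlt'⟩, Fin.ext (by rw [hwalk u hlt]; exact heq)⟩
    have hfin : ∀ u ∈ U, ∀ z ∈ Set.range pt, f (wordVal x u)⁻¹ z ∈ Set.range pt := by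
      intro u hu z hz
      have hm : Set.MapsTo (f (wordVal x u)) (Set.range pt) (Set.range pt) := hmove u hu
      obtain ⟨w, hw, hwz⟩ := (((Set.toFinite (Set.range pt)).injOn_iff_bijOn_of_mapsTo hm).1
        (f (wordVal x u)).injective.injOn).surjOn hz
      rwa [map_inv, ← hwz, Equiv.Perm.inv_def, Equiv.symm_apply_apply]
    induction ha using Subgroup.closure_induction'' with
    | one => intro z hz; simpa using hz
    | mul y z _ _ hy hz => intro w hw; rw [map_mul, Equiv.Perm.mul_apply]; exact hy _ (hz w hw)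
    | mem y hy => obtain ⟨u, hu, rfl⟩ := hy; exact hmove u hu
    | inv_mem y hy => obtain ⟨u, hu, rfl⟩ := hy; exact hfin u hu
  · rintro _ ⟨⟨j, hj⟩, rfl⟩
    induction j using Nat.strong_induction_on with
    | _ j ih =>
      rcases (hget j hj).2.2.1 with rfl | ⟨h1, h2⟩
      · exact ⟨1, one_mem _, by simp [pt, p]⟩
      · obtain ⟨a, ha, hap⟩ := ih _ h1 (by omega)
        simp only at hap
        by_cases hlt : O.getP j % B < U.length
        · rw [List.getD_eq_getElem _ _ hlt] at h2
          refine ⟨wordVal x U[O.getP j % B] * a,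
            mul_mem (Subgroup.subset_closure ⟨_, List.getElem_mem hlt, rfl⟩) ha, ?_⟩
          simp only [map_mul, Equiv.Perm.mul_apply, hap]
          exact Fin.ext (by
            rw [hwalk _ ((hget j hj).2.2.2 _ (List.getElem_mem hlt)).1]
            exact h2)
        · rw [List.getD_eq_default _ _ (by omega)] at h2
          rw [twalk_nil] at h2
          have h4 := congrArg Pos.getP h2
          rw [(hget _ (by omega)).2.1, (hget j hj).2.1] at h4
          omega

end Cfsg.Lib.CosetEnum
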