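import Cfsg.Agent.Lib.Chev.G2FourHom
import Cfsg.Agent.Lib.CosetEnum.Perm
import Cfsg.Agent.S1055

/-!
# The group of type G2 over four elements acting on hexagon lines
-/

set_option autoImplicit false

namespace Cfsg.Lib.CosetEnum.G2Lines

open Cfsg.Lie Cfsg.Lib.Chev Cfsg.Lib.Chev.G2Four

universe u

/-- The basis over two elements of a listed line. -/
noncomputable def basis (B : Tab) (i : ℕ) : List ℕ :=
  [B.getP (4 * i), B.getP (4 * i + 1), B.getP (4 * i + 2), B.getP (4 * i + 3)]

/-- Four coefficient vectors packed in a number. -/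
def coefList (c : ℕ) : List ℕ := [c % 16, c / 16 % 16, c / 256 % 16, c / 4096 % 16]

/-- The image of each line under each root element is a listed line. -/
noncomputable def linesOK (B C Co : Tab) (N : ℕ) : ℕ → ℕ → Bool
  | 0, _ => true
  | m + 1, i => Cfsg.Lib.CosetEnum.force i fun i => ((List.range 48).all fun g =>
      Cfsg.Lib.CosetEnum.force (img C 48 g i) fun k => Nat.blt k N &&
        beqW (mulM (mat (g / 4) (g % 4)) (basis B i))
          (mulM (basis B k) (coefList (img Co 48 g i)))) &&
      linesOK B C Co N m (i + 1)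

theorem linesOK_append {B C Co : Tab} {N : ℕ} : ∀ {a b i : ℕ},
    linesOK B C Co N a i = true → linesOK B C Co N b (i + a) = true →
      linesOK B C Co N (a + b) i = true
  | 0, b, i, _, h => by simpa using h
  | a + 1, b, i, h, h' => by
    rw [linesOK, Cfsg.Lib.CosetEnum.force_eq, Bool.and_eq_true] at h
    rw [show a + 1 + b = (a + b) + 1 by omega, linesOK, Cfsg.Lib.CosetEnum.force_eq, Bool.and_eq_true]
    exact ⟨h.1, linesOK_append h.2 (by rwa [show i + 1 + a = i + (a + 1) by omega])⟩

theorem linesOK_get {B C Co : Tab} {N : ℕ} : ∀ {m s : ℕ},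
    linesOK B C Co N m s = true → ∀ j, s ≤ j → j < s + m → ∀ g < 48,
      img C 48 g j < N ∧ mulM (mat (g / 4) (g % 4)) (basis B j) =
        mulM (basis B (img C 48 g j)) (coefList (img Co 48 g j))
  | 0, s, _, j, h1, h2 => by omega
  | m + 1, s, hc, j, h1, h2 => by
    rw [linesOK, Cfsg.Lib.CosetEnum.force_eq, Bool.and_eq_true] at hc
    rcases Nat.eq_or_lt_of_le h1 with h | h
    · subst h
      have h3 := hc.1
      simp only [Cfsg.Lib.CosetEnum.force_eq, Bool.and_eq_true, List.all_eq_true, List.mem_range, Nat.blt_eq] at h3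
      intro g hg
      exact ⟨(h3 g hg).1, beqW_eq (h3 g hg).2⟩
    · exact linesOK_get hc.2 j h (by omega)

/-- The bit mask of the points of a line. -/
noncomputable def mask (B : Tab) (i : ℕ) : ℕ :=
  ((List.range 16).map (app (basis B i))).foldl (fun a v => Nat.lor a (2 ^ v)) 0

/-- The lines have sixteen points below 4096. -/
noncomputable def basisOK (B : Tab) : ℕ → ℕ → Bool
  | 0, _ => true
  | m + 1, i => Cfsg.Lib.CosetEnum.force i fun i =>
      ((basis B i).all fun v => Nat.blt v 4096) &&
        ((List.range 15).all fun j => !(Nat.beq (app (basis B i) (j + 1)) 0)) &&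
      basisOK B m (i + 1)

theorem basisOK_get {B : Tab} : ∀ {m s : ℕ},
    basisOK B m s = true → ∀ j, s ≤ j → j < s + m →
      (∀ v ∈ basis B j, v < 4096) ∧ ∀ a < 15, app (basis B j) (a + 1) ≠ 0
  | 0, s, _, j, h1, h2 => by omega
  | m + 1, s, hc, j, h1, h2 => by
    rw [basisOK, Cfsg.Lib.CosetEnum.force_eq, Bool.and_eq_true] at hc
    rcases Nat.eq_or_lt_of_le h1 with h | h
    · subst h
      have h3 := hc.1
      simp only [Bool.and_eq_true, List.all_eq_true, List.mem_range, Nat.blt_eq, Bool.not_eq_true',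
        ← Bool.not_eq_true, Nat.beq_eq] at h3
      exact h3
    · exact basisOK_get hc.2 j h (by omega)

/-- The ranking sorts the lines strictly by their masks. -/
noncomputable def sortOK (B Ord Rk : Tab) (N : ℕ) : ℕ → ℕ → Bool
  | 0, _ => true
  | m + 1, r => Cfsg.Lib.CosetEnum.force r fun r =>
      Nat.blt (Rk.getP r) N && Nat.beq (Ord.getP (Rk.getP r)) r &&
        (Nat.ble N (r + 1) || Nat.blt (mask B (Ord.getP r)) (mask B (Ord.getP (r + 1)))) &&
      sortOK B Ord Rk N m (r + 1)

theorem sortOK_get {B Ord Rk : Tab} {N : ℕ} : ∀ {m s : ℕ},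
    sortOK B Ord Rk N m s = true → ∀ j, s ≤ j → j < s + m →
      Rk.getP j < N ∧ Ord.getP (Rk.getP j) = j ∧
        (N ≤ j + 1 ∨ mask B (Ord.getP j) < mask B (Ord.getP (j + 1)))
  | 0, s, _, j, h1, h2 => by omega
  | m + 1, s, hc, j, h1, h2 => by
    rw [sortOK, Cfsg.Lib.CosetEnum.force_eq, Bool.and_eq_true] at hc
    rcases Nat.eq_or_lt_of_le h1 with h | h
    · subst h
      have h3 := hc.1
      simp only [Bool.and_eq_true, Bool.or_eq_true, Nat.blt_eq, Nat.ble_eq, Nat.beq_eq, and_assoc] at h3
      exact h3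
    · exact sortOK_get hc.2 j h (by omega)

theorem testBit_foldl (n : ℕ) : ∀ (l : List ℕ) (a : ℕ),
    (l.foldl (fun a v => Nat.lor a (2 ^ v)) a).testBit n = true ↔ a.testBit n = true ∨ n ∈ l
  | [], a => by simp
  | v :: l, a => by
    rw [List.foldl_cons, testBit_foldl n l]
    have : (Nat.lor a (2 ^ v)).testBit n = (a.testBit n || (2 ^ v).testBit n) := Nat.testBit_or ..
    rw [this, Bool.or_eq_true, Nat.testBit_two_pow, decide_eq_true_eq, List.mem_cons]
    constructor
    · rintro ((h | h) | h)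
      exacts [Or.inl h, Or.inr (Or.inl h.symm), Or.inr (Or.inr h)]
    · rintro (h | h | h)
      exacts [Or.inl (Or.inl h), Or.inl (Or.inr h.symm), Or.inr h]

variable {F : Type u} [Field F] [Fintype F]

/-- The representation on vectors, with the values of the root elements. -/
theorem exists_rep (hF : Fintype.card F = 4) :
    ∃ (φ : ↥(chevG2.group F) →* MulAut Vec) (root : ℕ → ↥(chevG2.group F)),
      Subgroup.closure (root '' {g | g < 48}) = ⊤ ∧
        ∀ g < 48, ∀ v : Vec, (φ (root g) v).val = app (mat (g / 4) (g % 4)) v.val := by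
  classical
  obtain ⟨w, ok⟩ := exists_code hF
  have hcinj : Function.Injective fun t : F => code w t := fun t u h => by
    simp only at h
    have h0 : code w (t + u) = 0 := by rw [ok.add, h, Nat.xor_self]
    by_contra hne
    have := ok.nz (t + u) fun e => hne (by linear_combination e - u * ok.two)
    rw [h0] at this
    simp at this
  have hcode : ∀ c < 4, ∃ t : F, code w t = c := by
    have hb : Function.Bijective fun t : F => (⟨code w t, ok.lt t⟩ : Fin 4) :=
      (Fintype.bijective_iff_injective_and_card _).2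
        ⟨fun t u h => hcinj (congrArg Fin.val h), by rw [hF, Fintype.card_fin]⟩
    intro c hc
    obtain ⟨t, ht⟩ := hb.2 ⟨c, hc⟩
    exact ⟨t, congrArg Fin.val ht⟩
  choose el hel using hcode
  let C := fullCertG2.comm.cert
  let π := stHom C fullCertG2.comm (F := F)
  have hπ : ∀ r < chevG2.nroots, ∀ t, π (chevG2.stGen F r t) = xg C r t := fun r hr t =>
    stHom_gen C fullCertG2.comm hr t
  let π' : chevG2.SteinbergGroup F →* ↥(chevG2.group F) := π.codRestrict _ fun g =>
    (stHom_range C fullCertG2 π hπ).le ⟨g, rfl⟩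
  have hsurj : Function.Surjective π' := fun y => by
    obtain ⟨g, hg⟩ := (stHom_range C fullCertG2 π hπ).ge y.2
    exact ⟨g, Subtype.ext hg⟩
  have hcode' : ∀ c < 4, ∃ t : F, code w t = c := fun c hc => ⟨el c hc, hel c hc⟩
  have hker : π'.ker ≤ (repHom ok).ker := fun g hg => by
    have hg' : π g = 1 := congrArg Subtype.val hg
    have hc := (st_ker_le C fullCertG2 (by decide +kernel) π hπ hg').2
    have ht := Cfsg.Agent.S1097.result chevG2 (by simp) π' (fun r t hr => by
      show ((π (chevG2.stGen F r t) : GL chevG2.Idx F) : Matrix chevG2.Idx chevG2.Idx F) = _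
      rw [hπ r hr t, coe_xg C r t]) hg
    exact torus_central ok ht hc hcode'
  let φ := π'.liftOfSurjective hsurj ⟨repHom ok, hker⟩
  have hφ : ∀ g, φ (π' g) = repHom ok g := fun g =>
    MonoidHom.liftOfRightInverse_comp_apply _ _ _ _ g
  let root : ℕ → ↥(chevG2.group F) := fun g =>
    π' (chevG2.stGen F (g / 4) (el (g % 4) (Nat.mod_lt _ (by norm_num))))
  refine ⟨φ, root, ?_, fun g _ v => ?_⟩
  · apply Subgroup.map_injective (chevG2.group F).subtype_injective
    rw [MonoidHom.map_closure, ← MonoidHom.range_eq_map, Subgroup.range_subtype]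
    show Subgroup.closure _ = Subgroup.closure _
    congr 1
    ext M
    constructor
    · rintro ⟨_, ⟨g, hg, rfl⟩, rfl⟩
      have hr : g / 4 < 12 := by
        have : g < 48 := hg
        omega
      refine ⟨⟨g / 4, hr⟩, el (g % 4) (Nat.mod_lt _ (by norm_num)), ?_⟩
      show ((π (chevG2.stGen F (g / 4) _) : GL chevG2.Idx F) : Matrix chevG2.Idx chevG2.Idx F) = _
      rw [hπ _ hr, coe_xg C, ChevalleyDatum.x, dif_pos (show g / 4 < chevG2.nroots from hr)]
    · rintro ⟨r, t, hrt⟩
      have hr : r.1 < 12 := r.2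
      have hc : code w t < 4 := ok.lt t
      refine ⟨root (4 * r.1 + code w t), ⟨_, by show _ < 48; omega, rfl⟩, ?_⟩
      have h1 : (4 * r.1 + code w t) / 4 = r.1 := by omega
      have h2 : (4 * r.1 + code w t) % 4 = code w t := by omega
      have h3 : el ((4 * r.1 + code w t) % 4) (Nat.mod_lt _ (by norm_num)) = t :=
        hcinj (by simp only; rw [hel, h2])
      apply Units.ext
      show ((π (chevG2.stGen F ((4 * r.1 + code w t) / 4) _) : GL chevG2.Idx F) :
        Matrix chevG2.Idx chevG2.Idx F) = _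
      rw [h1, h3, hπ _ r.2, coe_xg C, hrt, ChevalleyDatum.x, dif_pos r.2]
  · rw [hφ, repHom_stGen, hel]

/-- The group acts on the listed lines, faithfully. -/
theorem exists_lines (hF : Fintype.card F = 4) {N : ℕ} {B C Co Ord Rk : Tab} {R : List (List ℕ)}
    (hperm : permOK C 48 N R N 0 = true) (hl : linesOK B C Co N N 0 = true)
    (hb : basisOK B N 0 = true) (hs : sortOK B Ord Rk N N 0 = true)
    (hmove : ∃ g < 48, ∃ i < N, img C 48 g i ≠ i) :
    ∃ Ψ : ↥(chevG2.group F) →* Equiv.Perm (Fin N), Function.Injective Ψ ∧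
      ∀ g < 48, tperm C 48 N g ∈ Ψ.range := by
  classical
  obtain ⟨φ, root, hgen, hroot⟩ := exists_rep hF
  have hbget := fun (i : Fin N) => basisOK_get hb i.1 (Nat.zero_le _) (by omega)
  let pt : Fin N → Fin 16 → Vec := fun i a => ⟨app (basis B i.1) a.1, app_lt _ (hbget i).1 _⟩
  have hptinj : ∀ i, Function.Injective (pt i) := by
    intro i a b hab
    have h : app (basis B i.1) (a.1 ^^^ b.1) = 0 := by
      rw [app_xor, show app (basis B i.1) a.1 = app (basis B i.1) b.1 from congrArg Vec.val hab,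
        Nat.xor_self]
    have hlt : a.1 ^^^ b.1 < 16 := Nat.xor_lt_two_pow (n := 4) a.2 b.2
    by_contra hne
    have hne' : a.1 ^^^ b.1 ≠ 0 := fun e => hne (Fin.ext (by
      have := congrArg (fun z => z ^^^ b.1) e
      simpa [Nat.xor_assoc, Nat.xor_self] using this))
    obtain ⟨c, hc⟩ : ∃ c, a.1 ^^^ b.1 = c + 1 := ⟨_, (Nat.succ_pred_eq_of_ne_zero hne').symm⟩
    refine (hbget i).2 c (by omega) ?_
    rw [← hc, h]
  let Ln : Fin N → Set Vec := fun i => Set.range (pt i)
  have hcard : ∀ i, (Ln i).ncard = 16 := fun i => by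
    show (Set.range (pt i)).ncard = 16
    rw [← Set.image_univ, Set.ncard_image_of_injective _ (hptinj i), Set.ncard_univ, Nat.card_fin]
  have hLn : Function.Injective Ln := by
    intro i k hik
    have hm : mask B i.1 = mask B k.1 := by
      have key : ∀ (i k : Fin N), Ln i = Ln k → ∀ n, (mask B i.1).testBit n = true →
          (mask B k.1).testBit n = true := by
        intro i k h n hn
        simp only [mask, testBit_foldl, Nat.zero_testBit, Bool.false_eq_true, false_or, List.mem_map,
          List.mem_range] at hn ⊢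
        obtain ⟨a, ha, rfl⟩ := hn
        obtain ⟨b, hb'⟩ : pt i ⟨a, ha⟩ ∈ Ln k := h ▸ ⟨_, rfl⟩
        exact ⟨b.1, b.2, congrArg Vec.val hb'⟩
      refine Nat.eq_of_testBit_eq fun n => ?_
      rw [Bool.eq_iff_iff]
      exact ⟨key i k hik n, key k i hik.symm n⟩
    have hmono : ∀ a b : ℕ, a < b → b < N → mask B (Ord.getP a) < mask B (Ord.getP b) := by
      intro a b hab hbN
      induction b with
      | zero => omega
      | succ b ih =>
        have h1 := ((sortOK_get hs b (Nat.zero_le _) (by omega)).2.2).resolve_left (by omega)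
        rcases Nat.lt_succ_iff_lt_or_eq.1 hab with h | h
        · exact (ih h (by omega)).trans h1
        · exact h ▸ h1
    obtain ⟨hi, hio, -⟩ := sortOK_get hs i.1 (Nat.zero_le _) (by omega)
    obtain ⟨hk, hko, -⟩ := sortOK_get hs k.1 (Nat.zero_le _) (by omega)
    rcases Nat.lt_trichotomy (Rk.getP i.1) (Rk.getP k.1) with h | h | h
    · have := hmono _ _ h hk
      rw [hio, hko] at this
      omega
    · exact Fin.ext (by rw [← hio, ← hko, h])
    · have := hmono _ _ h hi
      rw [hio, hko] at this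
      omega
  have hgenact : ∀ g < 48, ∀ i : Fin N, φ (root g) '' Ln i = Ln (tperm C 48 N g i) := by
    intro g hg i
    refine Set.eq_of_subset_of_ncard_le ?_ (by
      rw [Set.ncard_image_of_injective _ (φ (root g)).injective, hcard, hcard]) (Set.toFinite _)
    rintro _ ⟨_, ⟨a, rfl⟩, rfl⟩
    obtain ⟨-, he⟩ := linesOK_get hl i.1 (Nat.zero_le _) (by omega) g hg
    have hk : (tperm C 48 N g i).1 = img C 48 g i.1 := tperm_apply hperm hg i
    have hc : app (coefList (img Co 48 g i.1)) a.1 < 16 := by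
      have : ∀ (M : List ℕ), (∀ m ∈ M, m < 16) → ∀ v, app M v < 16 := by
        intro M
        induction M with
        | nil => intro _ v; simp [app]
        | cons m M ih =>
          intro h v
          refine Nat.xor_lt_two_pow (n := 4) ?_ (ih (fun x hx => h x (List.mem_cons_of_mem _ hx)) _)
          cases Nat.beq (v % 2) 1
          · simp
          · simpa using h m List.mem_cons_self
      refine this _ ?_ _
      intro m hm
      simp only [coefList, List.mem_cons, List.not_mem_nil, or_false] at hm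
      rcases hm with rfl | rfl | rfl | rfl <;> exact Nat.mod_lt _ (by norm_num)
    refine ⟨⟨_, hc⟩, Vec.eq ?_⟩
    rw [hroot g hg]
    show app (basis B (tperm C 48 N g i).1) _ = app (mat (g / 4) (g % 4)) (app (basis B i.1) a.1)
    rw [hk, ← app_mulM, ← app_mulM, he]
  have hex : ∀ a : ↥(chevG2.group F), ∃ σ : Equiv.Perm (Fin N), ∀ i, φ a '' Ln i = Ln (σ i) := by
    intro a
    have ha : a ∈ Subgroup.closure (root '' {g | g < 48}) := hgen ▸ Subgroup.mem_top a
    induction ha using Subgroup.closure_induction with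
    | mem y hy => obtain ⟨g, hg, rfl⟩ := hy; exact ⟨_, hgenact g hg⟩
    | one => exact ⟨1, fun i => by simp⟩
    | mul y z _ _ hy hz =>
      obtain ⟨σ, hσ⟩ := hy; obtain ⟨τ, hτ⟩ := hz
      exact ⟨σ * τ, fun i => by
        rw [map_mul, Equiv.Perm.mul_apply, ← hσ, ← hτ, Set.image_image]
        rfl⟩
    | inv y _ hy =>
      obtain ⟨σ, hσ⟩ := hy
      refine ⟨σ⁻¹, fun i => ?_⟩
      have h := hσ (σ⁻¹ i)
      rw [Equiv.Perm.inv_def, Equiv.apply_symm_apply] at h
      rw [← h, Set.image_image, Equiv.Perm.inv_def, map_inv]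
      simp [MulAut.inv_apply_self]
  choose σ hσ using hex
  have huniq : ∀ a τ, (∀ i, φ a '' Ln i = Ln (τ i)) → σ a = τ := fun a τ h =>
    Equiv.ext fun i => hLn ((hσ a i).symm.trans (h i))
  let Ψ : ↥(chevG2.group F) →* Equiv.Perm (Fin N) := MonoidHom.mk' σ fun a c =>
    huniq _ _ fun i => by
      rw [map_mul, Equiv.Perm.mul_apply, ← hσ a, ← hσ c, Set.image_image]
      rfl
  have hΨ : ∀ g < 48, Ψ (root g) = tperm C 48 N g := fun g hg => huniq _ _ (hgenact g hg)
  refine ⟨Ψ, ?_, fun g hg => ⟨_, hΨ g hg⟩⟩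
  have hne : ∃ t : F, t ≠ 0 ∧ t ≠ 1 := by
    obtain ⟨t, ht⟩ := Finset.exists_mem_notMem_of_card_lt_card (t := Finset.univ) (s := ({0, 1} : Finset F))
      (by have := Finset.card_le_two (a := (0 : F)) (b := 1); rw [Finset.card_univ, hF]; omega)
    simp only [Finset.mem_insert, Finset.mem_singleton, not_or] at ht
    exact ⟨t, ht.2⟩
  have := (Cfsg.Agent.S1055.result hne).1
  rw [← MonoidHom.ker_eq_bot_iff]
  refine (Ψ.normal_ker.eq_bot_or_eq_top).resolve_right fun h => ?_
  obtain ⟨g, hg, i, hi, hne'⟩ := hmove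
  have h1 : Ψ (root g) = 1 := Ψ.mem_ker.1 (h ▸ Subgroup.mem_top _)
  rw [hΨ g hg] at h1
  have h2 := congrArg Fin.val (congrArg (fun τ : Equiv.Perm (Fin N) => τ ⟨i, hi⟩) h1)
  rw [tperm_apply hperm hg] at h2
  exact hne' h2

end Cfsg.Lib.CosetEnum.G2Lines
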