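import Mathlib

/-!
# An isomorphism of subgroups given by listed pairs

A group generated by pairs, described as a product of two listed subgroups of the direct product,
is the graph of an isomorphism as soon as both projections have distinct values on the products and
the two subgroups it is mapped into are small enough.
-/

set_option autoImplicit false

open scoped Pointwise

namespace Cfsg.Lib.CosetEnum

/-- A list that is closed under left multiplication by the generators contains the group they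
generate. -/
theorem closure_subset_range_of_steps {P : Type*} [Group P] [Finite P] {n : ℕ} (f : Fin n → P)
    (S : Set P) (h1 : ∃ i, f i = 1) (hstep : ∀ s ∈ S, ∀ i, ∃ j, s * f i = f j) :
    ∀ p ∈ Subgroup.closure S, ∃ i, f i = p := by
  have hp : ∀ p ∈ Submonoid.closure S, ∀ i, ∃ j, p * f i = f j := by
    intro p hp
    induction hp using Submonoid.closure_induction with
    | mem s hs => exact hstep s hs
    | one => exact fun i => ⟨i, one_mul _⟩
    | mul a b _ _ ha hb =>
      intro i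
      obtain ⟨j, hj⟩ := hb i
      obtain ⟨k, hk⟩ := ha j
      exact ⟨k, by rw [mul_assoc, hj, hk]⟩
  intro p hmem
  have hm : p ∈ Submonoid.closure S := by
    rw [← Subgroup.closure_toSubmonoid_of_finite]
    exact hmem
  obtain ⟨i, hi⟩ := h1
  obtain ⟨j, hj⟩ := hp p hm i
  exact ⟨j, by rw [← hj, hi, mul_one]⟩

/-- Elements that come from earlier ones by a generator lie in the group generated. -/
theorem range_mem_closure_of_parents {P : Type*} [Group P] {n : ℕ} (f : Fin n → P) (S : Set P)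
    (h : ∀ i, f i = 1 ∨ ∃ s ∈ S, ∃ j, j.1 < i.1 ∧ f i = s * f j) :
    ∀ i, f i ∈ Subgroup.closure S := by
  rintro ⟨i, hi⟩
  induction i using Nat.strong_induction_on with
  | _ i ih =>
    rcases h ⟨i, hi⟩ with h | ⟨s, hs, ⟨j, hj⟩, hji, he⟩
    · rw [h]
      exact one_mem _
    · rw [he]
      exact mul_mem (Subgroup.subset_closure hs) (ih j hji hj)

/-- Products from two subgroups meeting trivially are distinct. -/
theorem injective_mul_of_disjoint {G : Type*} [Group G] (A B : Subgroup G) {ι κ : Type*}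
    (a : ι → G) (b : κ → G) (ha : ∀ i, a i ∈ A) (hb : ∀ j, b j ∈ B) (hai : Function.Injective a)
    (hbi : Function.Injective b) (hd : ∀ g, g ∈ A → g ∈ B → g = 1) :
    Function.Injective fun x : ι × κ => a x.1 * b x.2 := by
  rintro ⟨i, j⟩ ⟨i', j'⟩ h
  simp only at h
  have h1 : (a i')⁻¹ * a i = b j' * (b j)⁻¹ := by
    rw [eq_mul_inv_iff_mul_eq, mul_assoc, h, inv_mul_cancel_left]
  have h2 : (a i')⁻¹ * a i = 1 := hd _ (mul_mem (inv_mem (ha _)) (ha _))
    (h1 ▸ mul_mem (hb _) (inv_mem (hb _)))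
  obtain rfl : i' = i := hai (inv_mul_eq_one.1 h2)
  obtain rfl := hbi (mul_left_cancel h)
  rfl

/-- A map is bijective if it is injective after a surjection from a small enough set. -/
theorem bijective_of_comp_injective {A D C : Type*} [Finite A] [Finite C] (g : A → D)
    (hg : Function.Surjective g) (p : D → C) (hinj : Function.Injective (p ∘ g))
    (hC : Nat.card C ≤ Nat.card A) : Function.Bijective p := by
  have hgb : Function.Bijective g := ⟨hinj.of_comp, hg⟩
  have hpg : Function.Bijective (p ∘ g) :=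
    (Nat.bijective_iff_injective_and_card _).2
      ⟨hinj, le_antisymm (Nat.card_le_card_of_injective _ hinj) hC⟩
  exact (Function.Bijective.of_comp_iff p hgb).1 hpg

/-- The graph of an isomorphism from listed pairs. -/
theorem nonempty_mulEquiv_of_pairs {T H : Type*} [Group T] [Group H] [Finite T] [Finite H]
    {nQ nL : ℕ} (CT : Subgroup T) (CH : Subgroup H) (fQ : Fin nQ → T × H) (fL : Fin nL → T × H)
    (gQ gL : Set (T × H)) (hQ1 : ∃ i, fQ i = 1) (hL1 : ∃ i, fL i = 1)
    (hQstep : ∀ s ∈ gQ, ∀ i, ∃ j, s * fQ i = fQ j) (hLstep : ∀ s ∈ gL, ∀ i, ∃ j, s * fL i = fL j)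
    (hQpar : ∀ i, fQ i = 1 ∨ ∃ s ∈ gQ, ∃ j, j.1 < i.1 ∧ fQ i = s * fQ j)
    (hLpar : ∀ i, fL i = 1 ∨ ∃ s ∈ gL, ∃ j, j.1 < i.1 ∧ fL i = s * fL j)
    (hconj : ∀ a ∈ gL, ∀ q ∈ gQ, ∃ j, a * q = fQ j * a)
    (hmem : ∀ s ∈ gQ ∪ gL, s.1 ∈ CT ∧ s.2 ∈ CH)
    (hTQ : Function.Injective fun i => (fQ i).1) (hTL : Function.Injective fun i => (fL i).1)
    (hTd : ∀ i j, (fQ i).1 = (fL j).1 → (fQ i).1 = 1)
    (hHQ : Function.Injective fun i => (fQ i).2) (hHL : Function.Injective fun i => (fL i).2)
    (hHd : ∀ i j, (fQ i).2 = (fL j).2 → (fQ i).2 = 1)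
    (hT : Nat.card CT ≤ nQ * nL) (hH : Nat.card CH ≤ nQ * nL) :
    Nonempty (CT ≃* CH) := by
  classical
  set SQ := Subgroup.closure gQ with hSQ
  set SL := Subgroup.closure gL with hSL
  have hQr := closure_subset_range_of_steps fQ gQ hQ1 hQstep
  have hLr := closure_subset_range_of_steps fL gL hL1 hLstep
  have hQi := range_mem_closure_of_parents fQ gQ hQpar
  have hLi := range_mem_closure_of_parents fL gL hLpar
  have hN : SL ≤ Subgroup.normalizer (SQ : Set (T × H)) := by
    refine (Subgroup.closure_le _).2 fun a ha => ?_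
    refine Subgroup.mem_normalizer_fintype fun x hx => ?_
    suffices SQ ≤ SQ.comap (MulAut.conj a).toMonoidHom from this hx
    refine (Subgroup.closure_le _).2 fun q hq => ?_
    obtain ⟨j, hj⟩ := hconj a ha q hq
    show a * q * a⁻¹ ∈ SQ
    rw [hj, mul_inv_cancel_right]
    exact hQi j
  set D := SQ ⊔ SL with hD
  have hDC : D ≤ CT.prod CH := sup_le ((Subgroup.closure_le _).2 fun s hs => hmem s (Or.inl hs))
    ((Subgroup.closure_le _).2 fun s hs => hmem s (Or.inr hs))
  let g : Fin nQ × Fin nL → D := fun x =>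
    ⟨fQ x.1 * fL x.2, mul_mem (Subgroup.mem_sup_left (hQi _)) (Subgroup.mem_sup_right (hLi _))⟩
  have hgs : Function.Surjective g := by
    rintro ⟨d, hd⟩
    have hd' : d ∈ (SQ : Set (T × H)) * (SL : Set (T × H)) := by
      rw [← Subgroup.coe_mul_of_right_le_normalizer_left _ _ hN]
      exact hd
    obtain ⟨q, hq, l, hl, rfl⟩ := Set.mem_mul.1 hd'
    obtain ⟨i, rfl⟩ := hQr q hq
    obtain ⟨j, rfl⟩ := hLr l hl
    exact ⟨(i, j), rfl⟩
  have hT' : Function.Injective fun x : Fin nQ × Fin nL => (fQ x.1).1 * (fL x.2).1 :=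
    injective_mul_of_disjoint (SQ.map (MonoidHom.fst T H)) (SL.map (MonoidHom.fst T H))
      (fun i => (fQ i).1) (fun j => (fL j).1) (fun i => ⟨_, hQi i, rfl⟩) (fun j => ⟨_, hLi j, rfl⟩)
      hTQ hTL (by
        rintro _ ⟨q, hq, rfl⟩ ⟨l, hl, he⟩
        obtain ⟨i, rfl⟩ := hQr q hq
        obtain ⟨j, rfl⟩ := hLr l hl
        exact hTd i j he.symm)
  have hH' : Function.Injective fun x : Fin nQ × Fin nL => (fQ x.1).2 * (fL x.2).2 :=
    injective_mul_of_disjoint (SQ.map (MonoidHom.snd T H)) (SL.map (MonoidHom.snd T H))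
      (fun i => (fQ i).2) (fun j => (fL j).2) (fun i => ⟨_, hQi i, rfl⟩) (fun j => ⟨_, hLi j, rfl⟩)
      hHQ hHL (by
        rintro _ ⟨q, hq, rfl⟩ ⟨l, hl, he⟩
        obtain ⟨i, rfl⟩ := hQr q hq
        obtain ⟨j, rfl⟩ := hLr l hl
        exact hHd i j he.symm)
  let p1 : D →* CT := ((MonoidHom.fst T H).comp D.subtype).codRestrict CT fun d => (hDC d.2).1
  let p2 : D →* CH := ((MonoidHom.snd T H).comp D.subtype).codRestrict CH fun d => (hDC d.2).2
  have hcard : Nat.card (Fin nQ × Fin nL) = nQ * nL := by simp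
  have b1 := bijective_of_comp_injective g hgs p1
    (fun a b h => hT' (congrArg (fun z : CT => (z : T)) h)) (hT.trans hcard.ge)
  have b2 := bijective_of_comp_injective g hgs p2
    (fun a b h => hH' (congrArg (fun z : CH => (z : H)) h)) (hH.trans hcard.ge)
  exact ⟨(MulEquiv.ofBijective p1 b1).symm.trans (MulEquiv.ofBijective p2 b2)⟩

end Cfsg.Lib.CosetEnum
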