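import Cfsg.Agent.Lib.CosetEnum.Defs

/-! Generated words for subgroups of the O'Nan group. -/

set_option autoImplicit false
set_option maxRecDepth 20000

namespace Cfsg.Lib.CosetEnum.ONSubgroups

/-- Relators on four involutions presenting a group of order 175560. -/
def jRels : List (List Nat) :=
  [[0, 0],
    [1, 1],
    [2, 2],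
    [3, 3],
    [1, 0, 1, 0, 1, 0, 1, 0, 1, 0],
    [2, 0, 2, 0, 2, 0, 2, 0, 2, 0],
    [3, 0, 3, 0, 3, 0],
    [2, 1, 2, 1],
    [3, 1, 3, 1, 3, 1, 3, 1, 3, 1],
    [3, 2, 3, 2, 3, 2],
    [2, 1, 0, 2, 1, 0, 2, 1, 0, 2, 1, 0, 2, 1, 0],
    [2, 3, 2, 0, 2, 0, 1, 0, 2, 3, 2, 0, 2, 0, 1, 0]]

/-- Images of the four involutions, as words. -/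
def jImages : List (List Nat) :=
  [[2, 1, 0, 5, 6, 5, 0, 2, 0, 4, 5, 2, 6, 1, 2, 0, 2, 6, 0, 4, 1, 4, 0, 6, 2, 0, 2, 1, 6, 2, 5, 4, 0, 2, 0, 5, 6, 5, 0, 1, 2, 0, 1, 3, 0, 1, 3, 2, 1, 0, 5, 6, 5, 0, 2, 0, 4, 5, 2, 6, 1, 2, 0, 2, 6, 0, 4, 1, 4, 0, 6, 2, 0, 2, 1, 6, 2, 5, 4, 0, 2, 0, 5, 6, 5, 0, 1, 2, 3, 1, 0, 3, 1, 0, 2, 1, 0, 5, 6, 5, 0, 2, 0, 4, 5, 2, 6, 1, 2, 0, 2, 6, 0, 4, 1, 4, 0, 6, 2, 0, 2, 1, 6, 2, 5, 4, 0, 2, 0, 5, 6, 5, 0, 1, 2],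
    [0, 1, 3, 0, 1, 3, 0, 1, 3, 0, 1, 3, 2, 1, 0, 5, 6, 5, 0, 2, 0, 4, 5, 2, 6, 1, 2, 0, 2, 6, 0, 4, 1, 4, 0, 6, 2, 0, 2, 1, 6, 2, 5, 4, 0, 2, 0, 5, 6, 5, 0, 1, 2, 3, 1, 0, 3, 1, 0, 3, 1, 0, 3, 1, 0, 2, 1, 0, 5, 6, 5, 0, 2, 0, 4, 5, 2, 6, 1, 2, 0, 2, 6, 0, 4, 1, 4, 0, 6, 2, 0, 2, 1, 6, 2, 5, 4, 0, 2, 0, 5, 6, 5, 0, 1, 2, 0, 1, 3, 0, 1, 3, 0, 1, 3, 0, 1, 3, 2, 1, 0, 5, 6, 5, 0, 2, 0, 4, 5, 2, 6, 1, 2, 0, 2, 6, 0, 4, 1, 4, 0, 6, 2, 0, 2, 1, 6, 2, 5, 4, 0, 2, 0, 5, 6, 5, 0, 1, 2, 3, 1, 0, 3, 1, 0, 3, 1, 0, 3, 1, 0, 2, 1, 0, 5, 6, 5, 0, 2, 0, 4, 5, 2, 6, 1, 2, 0, 2, 6, 0, 4, 1, 4, 0, 6, 2, 0, 2, 1, 6, 2, 5, 4, 0, 2, 0, 5, 6, 5, 0, 1, 2, 0, 1, 3, 0,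 1, 3, 2, 1, 0, 5, 6, 5, 0, 2, 0, 4, 5, 2, 6, 1, 2, 0, 2, 6, 0, 4, 1, 4, 0, 6, 2, 0, 2, 1, 6, 2, 5, 4, 0, 2, 0, 5, 6, 5, 0, 1, 2, 3, 1, 0, 3, 1, 0, 2, 1, 0, 5, 6, 5, 0, 2, 0, 4, 5, 2, 6, 1, 2, 0, 2, 6, 0, 4, 1, 4, 0, 6, 2, 0, 2, 1, 6, 2, 5, 4, 0, 2, 0, 5, 6, 5, 0, 1, 2, 0, 1, 3, 0, 1, 3, 0, 1, 3, 0, 1, 3, 2, 1, 0, 5, 6, 5, 0, 2, 0, 4, 5, 2, 6, 1, 2, 0, 2, 6, 0, 4, 1, 4, 0, 6, 2, 0, 2, 1, 6, 2, 5, 4, 0, 2, 0, 5, 6, 5, 0, 1, 2, 3, 1, 0, 3, 1, 0, 2, 1, 0, 5, 6, 5, 0, 2, 0, 4, 5, 2, 6, 1, 2, 0, 2, 6, 0, 4, 1, 4, 0, 6, 2, 0, 2, 1, 6, 2, 5, 4, 0, 2, 0, 5, 6, 5, 0, 1, 2, 0, 1, 3, 0, 1, 3, 2, 1, 0, 5, 6, 5, 0, 2, 0, 4, 5, 2, 6, 1, 2, 0, 2, 6, 0, 4, 1, 4,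 0, 6, 2, 0, 2, 1, 6, 2, 5, 4, 0, 2, 0, 5, 6, 5, 0, 1, 2, 3, 1, 0, 3, 1, 0, 2, 1, 0, 5, 6, 5, 0, 2, 0, 4, 5, 2, 6, 1, 2, 0, 2, 6, 0, 4, 1, 4, 0, 6, 2, 0, 2, 1, 6, 2, 5, 4, 0, 2, 0, 5, 6, 5, 0, 1, 2, 0, 1, 3, 0, 1, 3, 2, 1, 0, 5, 6, 5, 0, 2, 0, 4, 5, 2, 6, 1, 2, 0, 2, 6, 0, 4, 1, 4, 0, 6, 2, 0, 2, 1, 6, 2, 5, 4, 0, 2, 0, 5, 6, 5, 0, 1, 2, 3, 1, 0, 3, 1, 0, 2, 1, 0, 5, 6, 5, 0, 2, 0, 4, 5, 2, 6, 1, 2, 0, 2, 6, 0, 4, 1, 4, 0, 6, 2, 0, 2, 1, 6, 2, 5, 4, 0, 2, 0, 5, 6, 5, 0, 1, 2, 0, 1, 3, 0, 1, 3, 2, 1, 0, 5, 6, 5, 0, 2, 0, 4, 5, 2, 6, 1, 2, 0, 2, 6, 0, 4, 1, 4, 0, 6, 2, 0, 2, 1, 6, 2, 5, 4, 0, 2, 0, 5, 6, 5, 0, 1, 2, 3, 1, 0, 3, 1, 0, 3, 1, 0, 3, 1,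 0, 2, 1, 0, 5, 6, 5, 0, 2, 0, 4, 5, 2, 6, 1, 2, 0, 2, 6, 0, 4, 1, 4, 0, 6, 2, 0, 2, 1, 6, 2, 5, 4, 0, 2, 0, 5, 6, 5, 0, 1, 2, 0, 1, 3, 0, 1, 3, 2, 1, 0, 5, 6, 5, 0, 2, 0, 4, 5, 2, 6, 1, 2, 0, 2, 6, 0, 4, 1, 4, 0, 6, 2, 0, 2, 1, 6, 2, 5, 4, 0, 2, 0, 5, 6, 5, 0, 1, 2, 3, 1, 0, 3, 1, 0, 2, 1, 0, 5, 6, 5, 0, 2, 0, 4, 5, 2, 6, 1, 2, 0, 2, 6, 0, 4, 1, 4, 0, 6, 2, 0, 2, 1, 6, 2, 5, 4, 0, 2, 0, 5, 6, 5, 0, 1, 2, 0, 1, 3, 0, 1, 3, 0, 1, 3, 0, 1, 3, 2, 1, 0, 5, 6, 5, 0, 2, 0, 4, 5, 2, 6, 1, 2, 0, 2, 6, 0, 4, 1, 4, 0, 6, 2, 0, 2, 1, 6, 2, 5, 4, 0, 2, 0, 5, 6, 5, 0, 1, 2, 3, 1, 0, 3, 1, 0, 3, 1, 0, 3, 1, 0, 2, 1, 0, 5, 6, 5, 0, 2, 0, 4, 5, 2, 6, 1, 2, 0, 2,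 6, 0, 4, 1, 4, 0, 6, 2, 0, 2, 1, 6, 2, 5, 4, 0, 2, 0, 5, 6, 5, 0, 1, 2, 0, 1, 3, 0, 1, 3, 0, 1, 3, 0, 1, 3, 2, 1, 0, 5, 6, 5, 0, 2, 0, 4, 5, 2, 6, 1, 2, 0, 2, 6, 0, 4, 1, 4, 0, 6, 2, 0, 2, 1, 6, 2, 5, 4, 0, 2, 0, 5, 6, 5, 0, 1, 2, 3, 1, 0, 3, 1, 0, 3, 1, 0, 3, 1, 0],
    [2, 1, 0, 5, 6, 5, 0, 2, 0, 4, 5, 2, 6, 1, 2, 0, 2, 6, 0, 4, 1, 4, 0, 6, 2, 0, 2, 1, 6, 2, 5, 4, 0, 2, 0, 5, 6, 5, 0, 1, 2, 0, 1, 3, 0, 1, 3, 0, 1, 3, 0, 1, 3, 2, 1, 0, 5, 6, 5, 0, 2, 0, 4, 5, 2, 6, 1, 2, 0, 2, 6, 0, 4, 1, 4, 0, 6, 2, 0, 2, 1, 6, 2, 5, 4, 0, 2, 0, 5, 6, 5, 0, 1, 2, 3, 1, 0, 3, 1, 0, 2, 1, 0, 5, 6, 5, 0, 2, 0, 4, 5, 2, 6, 1, 2, 0, 2, 6, 0, 4, 1, 4, 0, 6, 2, 0, 2,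 1, 6, 2, 5, 4, 0, 2, 0, 5, 6, 5, 0, 1, 2, 0, 1, 3, 0, 1, 3, 2, 1, 0, 5, 6, 5, 0, 2, 0, 4, 5, 2, 6, 1, 2, 0, 2, 6, 0, 4, 1, 4, 0, 6, 2, 0, 2, 1, 6, 2, 5, 4, 0, 2, 0, 5, 6, 5, 0, 1, 2, 3, 1, 0, 3, 1, 0, 3, 1, 0, 3, 1, 0, 2, 1, 0, 5, 6, 5, 0, 2, 0, 4, 5, 2, 6, 1, 2, 0, 2, 6, 0, 4, 1, 4, 0, 6, 2, 0, 2, 1, 6, 2, 5, 4, 0, 2, 0, 5, 6, 5, 0, 1, 2, 0, 1, 3, 0, 1, 3, 2, 1, 0, 5, 6, 5, 0, 2, 0, 4, 5, 2, 6, 1, 2, 0, 2, 6, 0, 4, 1, 4, 0, 6, 2, 0, 2, 1, 6, 2, 5, 4, 0, 2, 0, 5, 6, 5, 0, 1, 2, 3, 1, 0, 3, 1, 0, 2, 1, 0, 5, 6, 5, 0, 2, 0, 4, 5, 2, 6, 1, 2, 0, 2, 6, 0, 4, 1, 4, 0, 6, 2, 0, 2, 1, 6, 2, 5, 4, 0, 2, 0, 5, 6, 5, 0, 1, 2, 0, 1, 3, 0, 1, 3, 0, 1, 3, 0,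 1, 3, 2, 1, 0, 5, 6, 5, 0, 2, 0, 4, 5, 2, 6, 1, 2, 0, 2, 6, 0, 4, 1, 4, 0, 6, 2, 0, 2, 1, 6, 2, 5, 4, 0, 2, 0, 5, 6, 5, 0, 1, 2, 3, 1, 0, 3, 1, 0, 3, 1, 0, 3, 1, 0, 2, 1, 0, 5, 6, 5, 0, 2, 0, 4, 5, 2, 6, 1, 2, 0, 2, 6, 0, 4, 1, 4, 0, 6, 2, 0, 2, 1, 6, 2, 5, 4, 0, 2, 0, 5, 6, 5, 0, 1, 2, 0, 1, 3, 0, 1, 3, 0, 1, 3, 0, 1, 3, 2, 1, 0, 5, 6, 5, 0, 2, 0, 4, 5, 2, 6, 1, 2, 0, 2, 6, 0, 4, 1, 4, 0, 6, 2, 0, 2, 1, 6, 2, 5, 4, 0, 2, 0, 5, 6, 5, 0, 1, 2, 3, 1, 0, 3, 1, 0, 3, 1, 0, 3, 1, 0, 2, 1, 0, 5, 6, 5, 0, 2, 0, 4, 5, 2, 6, 1, 2, 0, 2, 6, 0, 4, 1, 4, 0, 6, 2, 0, 2, 1, 6, 2, 5, 4, 0, 2, 0, 5, 6, 5, 0, 1, 2, 0, 1, 3, 0, 1, 3, 2, 1, 0, 5, 6, 5, 0, 2, 0, 4,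 5, 2, 6, 1, 2, 0, 2, 6, 0, 4, 1, 4, 0, 6, 2, 0, 2, 1, 6, 2, 5, 4, 0, 2, 0, 5, 6, 5, 0, 1, 2, 3, 1, 0, 3, 1, 0, 2, 1, 0, 5, 6, 5, 0, 2, 0, 4, 5, 2, 6, 1, 2, 0, 2, 6, 0, 4, 1, 4, 0, 6, 2, 0, 2, 1, 6, 2, 5, 4, 0, 2, 0, 5, 6, 5, 0, 1, 2, 0, 1, 3, 0, 1, 3, 0, 1, 3, 0, 1, 3, 2, 1, 0, 5, 6, 5, 0, 2, 0, 4, 5, 2, 6, 1, 2, 0, 2, 6, 0, 4, 1, 4, 0, 6, 2, 0, 2, 1, 6, 2, 5, 4, 0, 2, 0, 5, 6, 5, 0, 1, 2, 3, 1, 0, 3, 1, 0, 3, 1, 0, 3, 1, 0, 2, 1, 0, 5, 6, 5, 0, 2, 0, 4, 5, 2, 6, 1, 2, 0, 2, 6, 0, 4, 1, 4, 0, 6, 2, 0, 2, 1, 6, 2, 5, 4, 0, 2, 0, 5, 6, 5, 0, 1, 2, 0, 1, 3, 0, 1, 3, 0, 1, 3, 0, 1, 3, 2, 1, 0, 5, 6, 5, 0, 2, 0, 4, 5, 2, 6, 1, 2, 0, 2, 6, 0, 4, 1, 4,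 0, 6, 2, 0, 2, 1, 6, 2, 5, 4, 0, 2, 0, 5, 6, 5, 0, 1, 2, 3, 1, 0, 3, 1, 0, 3, 1, 0, 3, 1, 0, 2, 1, 0, 5, 6, 5, 0, 2, 0, 4, 5, 2, 6, 1, 2, 0, 2, 6, 0, 4, 1, 4, 0, 6, 2, 0, 2, 1, 6, 2, 5, 4, 0, 2, 0, 5, 6, 5, 0, 1, 2, 0, 1, 3, 0, 1, 3, 2, 1, 0, 5, 6, 5, 0, 2, 0, 4, 5, 2, 6, 1, 2, 0, 2, 6, 0, 4, 1, 4, 0, 6, 2, 0, 2, 1, 6, 2, 5, 4, 0, 2, 0, 5, 6, 5, 0, 1, 2, 3, 1, 0, 3, 1, 0, 2, 1, 0, 5, 6, 5, 0, 2, 0, 4, 5, 2, 6, 1, 2, 0, 2, 6, 0, 4, 1, 4, 0, 6, 2, 0, 2, 1, 6, 2, 5, 4, 0, 2, 0, 5, 6, 5, 0, 1, 2, 0, 1, 3, 0, 1, 3, 0, 1, 3, 0, 1, 3, 2, 1, 0, 5, 6, 5, 0, 2, 0, 4, 5, 2, 6, 1, 2, 0, 2, 6, 0, 4, 1, 4, 0, 6, 2, 0, 2, 1, 6, 2, 5, 4, 0, 2, 0, 5, 6, 5, 0, 1,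 2, 3, 1, 0, 3, 1, 0, 2, 1, 0, 5, 6, 5, 0, 2, 0, 4, 5, 2, 6, 1, 2, 0, 2, 6, 0, 4, 1, 4, 0, 6, 2, 0, 2, 1, 6, 2, 5, 4, 0, 2, 0, 5, 6, 5, 0, 1, 2, 0, 1, 3, 0, 1, 3, 2, 1, 0, 5, 6, 5, 0, 2, 0, 4, 5, 2, 6, 1, 2, 0, 2, 6, 0, 4, 1, 4, 0, 6, 2, 0, 2, 1, 6, 2, 5, 4, 0, 2, 0, 5, 6, 5, 0, 1, 2, 3, 1, 0, 3, 1, 0, 3, 1, 0, 3, 1, 0, 2, 1, 0, 5, 6, 5, 0, 2, 0, 4, 5, 2, 6, 1, 2, 0, 2, 6, 0, 4, 1, 4, 0, 6, 2, 0, 2, 1, 6, 2, 5, 4, 0, 2, 0, 5, 6, 5, 0, 1, 2],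
    [0, 1, 3, 0, 1, 3, 2, 1, 0, 5, 6, 5, 0, 2, 0, 4, 5, 2, 6, 1, 2, 0, 2, 6, 0, 4, 1, 4, 0, 6, 2, 0, 2, 1, 6, 2, 5, 4, 0, 2, 0, 5, 6, 5, 0, 1, 2, 3, 1, 0, 3, 1, 0, 2, 1, 0, 5, 6, 5, 0, 2, 0, 4, 5, 2, 6, 1, 2, 0, 2, 6, 0, 4, 1, 4, 0, 6, 2, 0, 2, 1, 6, 2, 5, 4, 0, 2, 0, 5, 6, 5, 0, 1, 2, 0, 1, 3, 0, 1, 3, 0, 1, 3, 0, 1, 3, 2, 1, 0, 5, 6, 5, 0, 2, 0, 4, 5, 2, 6, 1, 2, 0, 2, 6, 0, 4, 1, 4, 0, 6, 2, 0, 2, 1, 6, 2, 5, 4, 0, 2, 0, 5, 6, 5, 0, 1, 2, 3, 1, 0, 3, 1, 0, 3, 1, 0, 3, 1, 0, 2, 1, 0, 5, 6, 5, 0, 2, 0, 4, 5, 2, 6, 1, 2, 0, 2, 6, 0, 4, 1, 4, 0, 6, 2, 0, 2, 1, 6, 2, 5, 4, 0, 2, 0, 5, 6, 5, 0, 1, 2, 0, 1, 3, 0, 1, 3, 2, 1, 0, 5, 6, 5, 0, 2, 0, 4,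 5, 2, 6, 1, 2, 0, 2, 6, 0, 4, 1, 4, 0, 6, 2, 0, 2, 1, 6, 2, 5, 4, 0, 2, 0, 5, 6, 5, 0, 1, 2, 3, 1, 0, 3, 1, 0, 2, 1, 0, 5, 6, 5, 0, 2, 0, 4, 5, 2, 6, 1, 2, 0, 2, 6, 0, 4, 1, 4, 0, 6, 2, 0, 2, 1, 6, 2, 5, 4, 0, 2, 0, 5, 6, 5, 0, 1, 2, 0, 1, 3, 0, 1, 3, 2, 1, 0, 5, 6, 5, 0, 2, 0, 4, 5, 2, 6, 1, 2, 0, 2, 6, 0, 4, 1, 4, 0, 6, 2, 0, 2, 1, 6, 2, 5, 4, 0, 2, 0, 5, 6, 5, 0, 1, 2, 3, 1, 0, 3, 1, 0, 2, 1, 0, 5, 6, 5, 0, 2, 0, 4, 5, 2, 6, 1, 2, 0, 2, 6, 0, 4, 1, 4, 0, 6, 2, 0, 2, 1, 6, 2, 5, 4, 0, 2, 0, 5, 6, 5, 0, 1, 2, 0, 1, 3, 0, 1, 3, 2, 1, 0, 5, 6, 5, 0, 2, 0, 4, 5, 2, 6, 1, 2, 0, 2, 6, 0, 4, 1, 4, 0, 6, 2, 0, 2, 1, 6, 2, 5, 4, 0, 2, 0, 5, 6, 5, 0, 1,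 2, 3, 1, 0, 3, 1, 0, 2, 1, 0, 5, 6, 5, 0, 2, 0, 4, 5, 2, 6, 1, 2, 0, 2, 6, 0, 4, 1, 4, 0, 6, 2, 0, 2, 1, 6, 2, 5, 4, 0, 2, 0, 5, 6, 5, 0, 1, 2, 0, 1, 3, 0, 1, 3, 2, 1, 0, 5, 6, 5, 0, 2, 0, 4, 5, 2, 6, 1, 2, 0, 2, 6, 0, 4, 1, 4, 0, 6, 2, 0, 2, 1, 6, 2, 5, 4, 0, 2, 0, 5, 6, 5, 0, 1, 2, 3, 1, 0, 3, 1, 0, 2, 1, 0, 5, 6, 5, 0, 2, 0, 4, 5, 2, 6, 1, 2, 0, 2, 6, 0, 4, 1, 4, 0, 6, 2, 0, 2, 1, 6, 2, 5, 4, 0, 2, 0, 5, 6, 5, 0, 1, 2, 0, 1, 3, 0, 1, 3, 0, 1, 3, 0, 1, 3, 2, 1, 0, 5, 6, 5, 0, 2, 0, 4, 5, 2, 6, 1, 2, 0, 2, 6, 0, 4, 1, 4, 0, 6, 2, 0, 2, 1, 6, 2, 5, 4, 0, 2, 0, 5, 6, 5, 0, 1, 2, 3, 1, 0, 3, 1, 0, 3, 1, 0, 3, 1, 0, 2, 1, 0, 5, 6, 5, 0, 2, 0, 4, 5,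 2, 6, 1, 2, 0, 2, 6, 0, 4, 1, 4, 0, 6, 2, 0, 2, 1, 6, 2, 5, 4, 0, 2, 0, 5, 6, 5, 0, 1, 2, 0, 1, 3, 0, 1, 3, 2, 1, 0, 5, 6, 5, 0, 2, 0, 4, 5, 2, 6, 1, 2, 0, 2, 6, 0, 4, 1, 4, 0, 6, 2, 0, 2, 1, 6, 2, 5, 4, 0, 2, 0, 5, 6, 5, 0, 1, 2, 3, 1, 0, 3, 1, 0]]

/-- Relators on three involutions presenting a group of order 7920. -/
def mRels : List (List Nat) :=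
  [[0, 0],
    [1, 1],
    [2, 2],
    [1, 0, 1, 0, 1, 0, 1, 0, 1, 0, 1, 0],
    [2, 0, 2, 0, 2, 0],
    [2, 1, 2, 1, 2, 1, 2, 1, 2, 1, 2, 1],
    [1, 2, 1, 0, 1, 2, 1, 0, 1, 2, 1, 0, 1, 2, 1, 0],
    [1, 2, 1, 0, 1, 0, 1, 2, 1, 0, 1, 0, 1, 2, 1, 0, 1, 0],
    [2, 1, 0, 1, 0, 2, 1, 0, 1, 0, 2, 1, 0, 1, 0, 2, 1, 0, 1, 0, 2, 1, 0, 1, 0]]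

/-- Images of the three involutions, as words. -/
def mImages : List (List Nat) :=
  [[5, 4, 1, 5, 6, 2, 4, 1, 3, 4, 6, 5, 6, 3, 6, 3, 6, 5, 6, 4, 3, 1, 4, 2, 6, 5, 1, 4, 5],
    [6, 2, 6, 2, 5, 4, 1, 5, 6, 2, 4, 1, 3, 4, 6, 5, 6, 3, 6, 3, 6, 5, 6, 4, 3, 1, 4, 2, 6, 5, 1, 4, 5, 2, 6, 2, 6],
    [6, 2, 6, 2, 6, 2, 6, 2, 5, 4, 1, 5, 6, 2, 4, 1, 3, 4, 6, 5, 6, 3, 6, 3, 6, 5, 6, 4, 3, 1, 4, 2, 6, 5, 1, 4, 5, 2, 6, 2, 6, 2, 6, 2, 6]]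

/-- The four involutions among the Janko matrices. -/
def jMats : List (List Bool) :=
  [[false, true, false, true, true, true, true],
    [false, true, true, true, true, false, false, true, false],
    [true, true, true, true, false, false, true, false, false],
    [true, false, true, false, true, false, false, true, false, false, true, false, true, false, true, true]]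

/-- The three involutions among packed permutations. -/
def mPerms : List Nat :=
  [973054518210042674313238929715267616, 970408745037899174542809581725223937, 984817528815023647423495829229537888]

/-- Words of given orders. -/
def jOrders : List (Nat × List Nat) :=
  [(3, [3, 0]), (5, [1, 0]), (7, [2, 3, 1, 0]), (11, [3, 1, 0, 1, 0]), (19, [3, 2, 0])]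

/-- Words of given orders. -/
def mOrders : List (Nat × List Nat) :=
  [(3, [2, 0]), (5, [2, 1, 0, 1, 0]), (8, [2, 1, 2, 1, 0]), (11, [2, 1, 0])]

end Cfsg.Lib.CosetEnum.ONSubgroups
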