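import Cfsg.Agent.Lib.CosetEnum.Index
import Mathlib.Data.Matrix.Basic
import Mathlib.Data.ZMod.Basic

/-!
# Listed matrices over the integers modulo seven
-/

set_option autoImplicit false

namespace Cfsg.Lib.CosetEnum.MatSeven

/-- Add a multiple of a row to another. -/
def addMul (c : ℕ) : List ℕ → List ℕ → List ℕ
  | x :: xs, y :: ys => (c * x + y) % 7 :: addMul c xs ys
  | _, _ => []

/-- A combination of rows of length `m`. -/
def comb (m : ℕ) : List ℕ → List (List ℕ) → List ℕ
  | c :: cs, r :: rs => addMul c r (comb m cs rs)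
  | _, _ => List.replicate m 0

/-- Evaluate a row before it is used. -/
noncomputable def forceRow {β : Sort _} : List ℕ → (List ℕ → β) → β
  | [], k => k []
  | a :: l, k => force a fun a => forceRow l fun l => k (a :: l)

/-- Evaluate rows before they are used. -/
noncomputable def forceMat {β : Sort _} : List (List ℕ) → (List (List ℕ) → β) → β
  | [], k => k []
  | r :: l, k => forceRow r fun r => forceMat l fun l => k (r :: l)

theorem forceRow_eq {β : Sort _} : ∀ (l : List ℕ) (k : List ℕ → β), forceRow l k = k l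
  | [], _ => rfl
  | a :: l, k => by rw [forceRow, force_eq, forceRow_eq l]

theorem forceMat_eq {β : Sort _} : ∀ (l : List (List ℕ)) (k : List (List ℕ) → β), forceMat l k = k l
  | [], _ => rfl
  | r :: l, k => by rw [forceMat, forceRow_eq, forceMat_eq l]

/-- The product of two listed matrices. -/
def mulL (m : ℕ) (A B : List (List ℕ)) : List (List ℕ) := A.map fun r => comb m r B

/-- A scalar matrix. -/
def scalL (m c : ℕ) : List (List ℕ) :=
  (List.range m).map fun i => (List.range m).map fun j => cond (Nat.beq i j) c 0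

/-- A square list. -/
def shapeOK (m : ℕ) (A : List (List ℕ)) : Bool :=
  Nat.beq A.length m && A.all fun r => Nat.beq r.length m

/-- The matrix of a list. -/
def toMat (m : ℕ) (A : List (List ℕ)) : Matrix (Fin m) (Fin m) (ZMod 7) :=
  fun i j => ((A.getD i.1 []).getD j.1 0 : ℕ)

theorem shapeOK_iff {m : ℕ} {A : List (List ℕ)} :
    shapeOK m A = true ↔ A.length = m ∧ ∀ r ∈ A, r.length = m := by
  simp [shapeOK, List.all_eq_true]

theorem addMul_spec (c : ℕ) : ∀ (xs ys : List ℕ), xs.length = ys.length →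
    (addMul c xs ys).length = xs.length ∧
      ∀ j, (((addMul c xs ys).getD j 0 : ℕ) : ZMod 7) = c * (xs.getD j 0 : ℕ) + (ys.getD j 0 : ℕ)
  | [], [], _ => ⟨rfl, fun j => by simp [addMul]⟩
  | x :: xs, y :: ys, h => by
    obtain ⟨h1, h2⟩ := addMul_spec c xs ys (by simpa using h)
    refine ⟨by simp [addMul, h1], fun j => ?_⟩
    cases j with
    | zero =>
      show (((c * x + y) % 7 : ℕ) : ZMod 7) = c * (x : ℕ) + (y : ℕ)
      rw [ZMod.natCast_mod]
      push_cast
      rfl
    | succ j => simpa [addMul] using h2 j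

theorem comb_spec (m : ℕ) : ∀ (cs : List ℕ) (rs : List (List ℕ)), cs.length = rs.length →
    (∀ r ∈ rs, r.length = m) →
    (comb m cs rs).length = m ∧ ∀ j, (((comb m cs rs).getD j 0 : ℕ) : ZMod 7) =
      ∑ i : Fin cs.length, (cs.getD i.1 0 : ℕ) * (((rs.getD i.1 []).getD j 0 : ℕ) : ZMod 7)
  | [], [], _, _ => by
    refine ⟨by simp [comb], fun j => ?_⟩
    simp only [List.length_nil, Finset.univ_eq_empty, Finset.sum_empty, comb,
      List.getD_eq_getElem?_getD, List.getElem?_replicate]
    split <;> simp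
  | c :: cs, r :: rs, hlen, hr => by
    obtain ⟨h1, h2⟩ := comb_spec m cs rs (by simpa using hlen) fun s hs => hr s (List.mem_cons_of_mem _ hs)
    obtain ⟨h3, h4⟩ := addMul_spec c r (comb m cs rs) (by rw [h1, hr r (List.mem_cons_self ..)])
    refine ⟨by rw [comb, h3, hr r (List.mem_cons_self ..)], fun j => ?_⟩
    rw [comb, h4 j, h2 j,
      show (∑ i : Fin (c :: cs).length, ((c :: cs).getD i.1 0 : ℕ) *
          ((((r :: rs).getD i.1 []).getD j 0 : ℕ) : ZMod 7)) =
        ∑ i : Fin (cs.length + 1), ((c :: cs).getD i.1 0 : ℕ) *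
          ((((r :: rs).getD i.1 []).getD j 0 : ℕ) : ZMod 7) from rfl,
      Fin.sum_univ_succ]
    rfl

theorem toMat_mulL {m : ℕ} {A B : List (List ℕ)} (hA : shapeOK m A = true) (hB : shapeOK m B = true) :
    shapeOK m (mulL m A B) = true ∧ toMat m (mulL m A B) = toMat m A * toMat m B := by
  obtain ⟨hA1, hA2⟩ := shapeOK_iff.1 hA
  obtain ⟨hB1, hB2⟩ := shapeOK_iff.1 hB
  have hspec := fun r (hr : r ∈ A) => comb_spec m r B (by rw [hA2 r hr, hB1]) hB2
  refine ⟨shapeOK_iff.2 ⟨by simp [mulL, hA1], fun r hr => ?_⟩, ?_⟩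
  · obtain ⟨s, hs, rfl⟩ := List.mem_map.1 hr
    exact (hspec s hs).1
  · ext i j
    have hi : i.1 < A.length := by rw [hA1]; exact i.2
    have hlen : A[i.1].length = m := hA2 _ (List.getElem_mem hi)
    rw [Matrix.mul_apply]
    show (((mulL m A B).getD i.1 []).getD j.1 0 : ℕ) = (_ : ZMod 7)
    rw [show (mulL m A B).getD i.1 [] = comb m A[i.1] B by
        simp [mulL, List.getD_eq_getElem?_getD, hi],
      (hspec _ (List.getElem_mem hi)).2 j.1]
    refine Fintype.sum_equiv (finCongr hlen) _ _ fun l => ?_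
    simp only [toMat, finCongr_apply, Fin.val_cast, List.getD_eq_getElem _ [] hi]

theorem toMat_scalL (m c : ℕ) : shapeOK m (scalL m c) = true ∧
    toMat m (scalL m c) = (c : ZMod 7) • (1 : Matrix (Fin m) (Fin m) (ZMod 7)) := by
  refine ⟨shapeOK_iff.2 ⟨by simp [scalL], fun r hr => ?_⟩, ?_⟩
  · obtain ⟨i, -, rfl⟩ := List.mem_map.1 hr
    simp
  · ext i j
    simp only [toMat, scalL, List.getD_eq_getElem?_getD, List.getElem?_map, List.getElem?_range i.2,
      List.getElem?_range j.2, Option.map_some, Option.getD_some, Matrix.smul_apply, Matrix.one_apply,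
      smul_eq_mul]
    by_cases h : i = j
    · subst h; simp
    · rw [if_neg h]
      have hne : Nat.beq i.1 j.1 = false := by
        cases hb : Nat.beq i.1 j.1
        · rfl
        · exact absurd (Fin.ext (Nat.eq_of_beq_eq_true hb)) h
      simp [hne]

/-- The product along a word, the first letter first. -/
noncomputable def prodL (m : ℕ) (Ms : List (List (List ℕ))) : List ℕ → List (List ℕ)
  | [] => scalL m 1
  | g :: rest => forceMat (prodL m Ms rest) (mulL m (Ms.getD g []))

/-- Equality of rows. -/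
def eqMat : List (List ℕ) → List (List ℕ) → Bool
  | [], [] => true
  | a :: l, b :: l' => beqW a b && eqMat l l'
  | _, _ => false

theorem eqMat_eq : ∀ {l l' : List (List ℕ)}, eqMat l l' = true → l = l'
  | [], [], _ => rfl
  | a :: l, b :: l', h => by
    simp only [eqMat, Bool.and_eq_true] at h
    rw [beqW_eq h.1, eqMat_eq h.2]

theorem prodL_spec {m : ℕ} {Ms : List (List (List ℕ))} {u : ℕ → (Matrix (Fin m) (Fin m) (ZMod 7))ˣ}
    (hM : ∀ g < Ms.length, shapeOK m (Ms.getD g []) = true)
    (hu : ∀ g < Ms.length, (u g : Matrix (Fin m) (Fin m) (ZMod 7)) = toMat m (Ms.getD g []))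
    (hlen : Ms.length ≤ eps) : ∀ l : List ℕ, (∀ g ∈ l, g < Ms.length) →
      shapeOK m (prodL m Ms l) = true ∧ toMat m (prodL m Ms l) =
        ((wordVal u l.reverse : (Matrix (Fin m) (Fin m) (ZMod 7))ˣ) : Matrix (Fin m) (Fin m) (ZMod 7))
  | [], _ => by
    refine ⟨(toMat_scalL m 1).1, ?_⟩
    rw [prodL, (toMat_scalL m 1).2, Nat.cast_one, one_smul]
    rfl
  | g :: l, h => by
    obtain ⟨h1, h2⟩ := prodL_spec hM hu hlen l fun a ha => h a (by simp [ha])
    have hg := h g (by simp)
    obtain ⟨h3, h4⟩ := toMat_mulL (hM g hg) h1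
    refine ⟨by rw [prodL, forceMat_eq]; exact h3, ?_⟩
    rw [prodL, forceMat_eq, h4, h2, List.reverse_cons, wordVal_append, Units.val_mul, ← hu g hg]
    simp [wordVal, gen, show g ≠ eps by omega]

/-- A word has the value of a scalar matrix. -/
noncomputable def valOK (m : ℕ) (Ms : List (List (List ℕ))) (c : ℕ) (w : List ℕ) : Bool :=
  (w.all fun g => Nat.blt g Ms.length) && eqMat (prodL m Ms w.reverse) (scalL m c)

theorem wordVal_of_valOK {m : ℕ} {Ms : List (List (List ℕ))} {u : ℕ → (Matrix (Fin m) (Fin m) (ZMod 7))ˣ}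
    (hM : ∀ g < Ms.length, shapeOK m (Ms.getD g []) = true)
    (hu : ∀ g < Ms.length, (u g : Matrix (Fin m) (Fin m) (ZMod 7)) = toMat m (Ms.getD g []))
    (hlen : Ms.length ≤ eps) {c : ℕ} {w : List ℕ} (h : valOK m Ms c w = true) :
    ((wordVal u w : (Matrix (Fin m) (Fin m) (ZMod 7))ˣ) : Matrix (Fin m) (Fin m) (ZMod 7)) =
      (c : ZMod 7) • (1 : Matrix (Fin m) (Fin m) (ZMod 7)) := by
  simp only [valOK, Bool.and_eq_true, List.all_eq_true, Nat.blt_eq] at h
  have := (prodL_spec hM hu hlen w.reverse fun g hg => h.1 g (List.mem_reverse.1 hg)).2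
  rw [eqMat_eq h.2, (toMat_scalL m c).2, List.reverse_reverse] at this
  exact this.symm

/-- Two listed matrices are inverse. -/
noncomputable def invOK (m : ℕ) (A A' : List (List ℕ)) : Bool :=
  shapeOK m A && shapeOK m A' && eqMat (mulL m A A') (scalL m 1) && eqMat (mulL m A' A) (scalL m 1)

theorem mul_eq_one {m : ℕ} {A A' : List (List ℕ)} (h : invOK m A A' = true) :
    shapeOK m A = true ∧ toMat m A * toMat m A' = 1 ∧ toMat m A' * toMat m A = 1 := by
  simp only [invOK, Bool.and_eq_true] at h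
  obtain ⟨⟨⟨h1, h2⟩, h3⟩, h4⟩ := h
  refine ⟨h1, ?_, ?_⟩
  · rw [← (toMat_mulL h1 h2).2, eqMat_eq h3, (toMat_scalL m 1).2, Nat.cast_one, one_smul]
  · rw [← (toMat_mulL h2 h1).2, eqMat_eq h4, (toMat_scalL m 1).2, Nat.cast_one, one_smul]

end Cfsg.Lib.CosetEnum.MatSeven
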