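import Cfsg.Agent.Lib.CosetEnum.Groups.HeSimple
import Cfsg.Prelude.Def_Sporadic

/-!
# The presented Held group on 2058 points
-/

set_option autoImplicit false

namespace Cfsg.Lib.CosetEnum.HePres

open Cfsg.Spor

set_option maxRecDepth 100000

/-- A group isomorphic to a group with the Held property has it. -/
theorem isHe_congr {G H : Type*} [Group G] [Group H] (e : G ≃* H) (h : Cfsg.IsHe G) :
    Cfsg.IsHe H := by
  have : IsSimpleGroup G := h.1
  have : Nontrivial H := e.symm.toEquiv.nontrivial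
  exact ⟨IsSimpleGroup.isSimpleGroup_of_surjective e.toMonoidHom e.surjective,
    (Nat.card_congr e.toEquiv).symm.trans h.2⟩

/-- Subgroups of index two go along isomorphisms. -/
theorem exists_index_two_congr {A B P : Type*} [Group A] [Group B] [Group P] (e : A ≃* B)
    (N : Subgroup A) (hN : N.index = 2) (f : N ≃* P) :
    ∃ M : Subgroup B, M.index = 2 ∧ Nonempty (M ≃* P) := by
  refine ⟨N.map e.toMonoidHom, ?_, ⟨(e.subgroupMap N).symm.trans f⟩⟩
  rw [← hN]
  exact Subgroup.index_map_equiv N e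

/-- The subgroup on whose cosets the group acts. -/
def pointGroup : Subgroup Cfsg.Spor.He :=
  (Subgroup.closure ({He.a, He.c, He.d, He.e, He.f, (He.a * He.b) ^ 2,
    (He.b * He.c * He.d * He.e) ^ 7} : Set (FreeGroup He.Gen))).map
    (PresentedGroup.mk (coxRelators He.edges ∪ {r | r ∈ He.extra}))

/-- A subgroup of index two of the point group gives one in the point stabiliser. -/
theorem realisation {P : Type} [Group P] (N : Subgroup pointGroup) (hN : N.index = 2)
    (e : N ≃* P) :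
    ∃ H : Subgroup (Equiv.Perm (Fin 2058)), Cfsg.IsHe H ∧ MulAction.IsPretransitive H (Fin 2058) ∧
      ∃ M : Subgroup (MulAction.stabilizer H (0 : Fin 2058)), M.index = 2 ∧ Nonempty (M ≃* P) := by
  let N' := numbering
  let x : ℕ → Cfsg.Spor.He := N'.gens He.extra
  have hx : ∀ g, x g * x g = 1 := N'.gens_mul_self He.extra
  have hk : N'.k ≤ eps := by decide
  have hR : HeS44.cert.R0 = N'.pairs ++ extra := by decide +kernel
  have hrel : ∀ r ∈ HeS44.cert.R0, wordVal x r = 1 := fun r hr =>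
    N'.wordVal_gens hk (map_extra x hx) r (hR ▸ hr)
  obtain ⟨f, hf⟩ := N'.exists_hom hk He.extra HeS44.cert_valid hR rfl
    (map_extra _ fun g => tperm_mul_self _ _ _ g)
  have hK := N'.map_closure He.extra (Us := [He.a, He.c, He.d, He.e, He.f, (He.a * He.b) ^ 2,
    (He.b * He.c * He.d * He.e) ^ 7]) (U := HeS44.subWords)
    (by simp [HeS44.subWords, wordVal, gen, eps, N', numbering, num, pow_succ, mul_assoc])
    (s := {He.a, He.c, He.d, He.e, He.f, (He.a * He.b) ^ 2, (He.b * He.c * He.d * He.e) ^ 7})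
    (by ext w; simp)
  obtain ⟨hidx, Φ', hΦ', heq', h0'⟩ := HeS44.cert_valid.index_eq (K := pointGroup) hx
    (N'.closure_gens He.extra) hrel f hf hK
  obtain ⟨f, Φ, hΦ, heq, h0⟩ : ∃ (f : Cfsg.Spor.He →* Equiv.Perm (Fin 2058))
      (Φ : Cfsg.Spor.He ⧸ pointGroup → Fin 2058), Function.Bijective Φ ∧
      (∀ (a : Cfsg.Spor.He) (q : Cfsg.Spor.He ⧸ pointGroup), Φ (a • q) = f a (Φ q)) ∧
      (Φ ((1 : Cfsg.Spor.He) : Cfsg.Spor.He ⧸ pointGroup)).1 = 0 := ⟨f, Φ', hΦ', heq', h0'⟩
  have hHe : Cfsg.IsHe Cfsg.Spor.He := isHe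
  have : IsSimpleGroup Cfsg.Spor.He := hHe.1
  have hinj : Function.Injective f := by
    rw [← MonoidHom.ker_eq_bot_iff]
    refine (f.normal_ker.eq_bot_or_eq_top).resolve_right fun h => ?_
    obtain ⟨q, hq⟩ := hΦ.2 (1 : Fin 2058)
    obtain ⟨g, rfl⟩ := QuotientGroup.mk_surjective q
    have h1 := heq g ((1 : Cfsg.Spor.He) : Cfsg.Spor.He ⧸ pointGroup)
    rw [f.mem_ker.1 (h ▸ Subgroup.mem_top g)] at h1
    have hg : g • ((1 : Cfsg.Spor.He) : Cfsg.Spor.He ⧸ pointGroup) = (g : Cfsg.Spor.He ⧸ pointGroup) :=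
      congrArg _ (mul_one g)
    rw [hg, hq] at h1
    have h2 : (1 : Fin 2058).1 = (Φ ((1 : Cfsg.Spor.He) : Cfsg.Spor.He ⧸ pointGroup)).1 :=
      congrArg Fin.val h1
    rw [h0] at h2
    simp at h2
  have hstab : ∀ a : Cfsg.Spor.He, a ∈ pointGroup ↔ f a (0 : Fin 2058) = 0 := by
    intro a
    have hz : Φ ((1 : Cfsg.Spor.He) : Cfsg.Spor.He ⧸ pointGroup) = (0 : Fin 2058) := Fin.ext h0
    have h1 := heq a ((1 : Cfsg.Spor.He) : Cfsg.Spor.He ⧸ pointGroup)
    rw [hz] at h1
    constructor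
    · intro ha
      rw [← h1]
      refine (congrArg Φ ?_).trans hz
      show ((a * 1 : Cfsg.Spor.He) : Cfsg.Spor.He ⧸ pointGroup) = _
      rw [QuotientGroup.eq]
      simpa using ha
    · intro ha
      have h2 := hΦ.1 (h1.trans (ha.trans hz.symm))
      replace h2 : ((a * 1 : Cfsg.Spor.He) : Cfsg.Spor.He ⧸ pointGroup) = _ := h2
      rw [QuotientGroup.eq, mul_one, mul_one, inv_mem_iff] at h2
      exact h2
  let e₀ : Cfsg.Spor.He ≃* f.range := MonoidHom.ofInjective hinj
  refine ⟨f.range, isHe_congr e₀ hHe, ?_, ?_⟩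
  · refine ⟨fun i j => ?_⟩
    obtain ⟨p, rfl⟩ := hΦ.2 i
    obtain ⟨q, rfl⟩ := hΦ.2 j
    obtain ⟨g, hg⟩ := MulAction.exists_smul_eq Cfsg.Spor.He p q
    exact ⟨e₀ g, by show f g _ = _; rw [← heq, hg]⟩
  · have hmap : pointGroup.map e₀.toMonoidHom = MulAction.stabilizer f.range (0 : Fin 2058) := by
      ext z
      obtain ⟨a, rfl⟩ := e₀.surjective z
      rw [Subgroup.mem_map_equiv, MulEquiv.symm_apply_apply, hstab, MulAction.mem_stabilizer_iff]
      rfl
    let e₁ : pointGroup ≃* MulAction.stabilizer f.range (0 : Fin 2058) :=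
      (pointGroup.equivMapOfInjective e₀.toMonoidHom e₀.injective).trans
        (MulEquiv.subgroupCongr hmap)
    exact exists_index_two_congr e₁ N hN e

end Cfsg.Lib.CosetEnum.HePres
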