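import Cfsg.Agent.Lib.CosetEnum.SpGeom
import Cfsg.Agent.Lib.CosetEnum.Defs

/-!
# Kernel checks for points of the symplectic space
-/

set_option autoImplicit false

namespace Cfsg.Lib.CosetEnum.SpGeom

open Matrix

/-- The position of a coordinate. -/
def place : I4 → ℕ
  | .inl k => k.1
  | .inr k => 2 + k.1

/-- The vector with a code. -/
def vec (c : ℕ) (r : I4) : GF4 :=
  GF4.dec (Nat.land (Nat.shiftRight c (Nat.mul 2 (place r))) 3)

/-- The code of a vector. -/
def code (x : I4 → GF4) : ℕ :=
  GF4.enc (x (.inl 0)) + 4 * GF4.enc (x (.inl 1)) + 16 * GF4.enc (x (.inr 0)) +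
    64 * GF4.enc (x (.inr 1))

theorem code_injective {x y : I4 → GF4} (h : code x = code y) : x = y := by
  have hb : ∀ a : GF4, GF4.enc a < 4 := by decide
  have he : ∀ a b : GF4, GF4.enc a = GF4.enc b → a = b := by decide
  simp only [code] at h
  have := hb (x (.inl 0)); have := hb (x (.inl 1)); have := hb (x (.inr 0)); have := hb (x (.inr 1))
  have := hb (y (.inl 0)); have := hb (y (.inl 1)); have := hb (y (.inr 0)); have := hb (y (.inr 1))
  funext k
  apply he
  rcases k with k | k <;> fin_cases k <;> simp <;> omega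

/-- The matrix with the given row codes. -/
def matOf (rows : List ℕ) : Matrix I4 I4 GF4 :=
  Matrix.of fun r s => vec (rows.getD (place r) 0) s

/-- Scalar times vector. -/
def smulV (l : GF4) (x : I4 → GF4) : I4 → GF4 := fun k => l * x k

/-- Each listed letter moves the points as its matrix. -/
noncomputable def pointsOK (V Idx P : Tab) (cs : List ℕ) (Ms : List (List ℕ)) (k N : ℕ) :
    ℕ → ℕ → Bool
  | 0, _ => true
  | m + 1, j => force j fun j => ([(GF4.i : GF4), GF4.w, GF4.v].all fun l =>
        Nat.beq (Idx.getP (code (smulV l (vec (V.getP j))))) j) &&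
      ((List.range cs.length).all fun t => Nat.blt (img P k (cs.getD t 0) j) N &&
        [(GF4.i : GF4), GF4.w, GF4.v].any fun l =>
          Nat.beq (code (matOf (Ms.getD t []) *ᵥ vec (V.getP j)))
            (code (smulV l (vec (V.getP (img P k (cs.getD t 0) j)))))) &&
      pointsOK V Idx P cs Ms k N m (j + 1)

theorem pointsOK_get {V Idx P : Tab} {cs : List ℕ} {Ms : List (List ℕ)} {k N : ℕ} : ∀ {m s : ℕ},
    pointsOK V Idx P cs Ms k N m s = true → ∀ j, s ≤ j → j < s + m →
      (∀ l ∈ [(GF4.i : GF4), GF4.w, GF4.v], Idx.getP (code (smulV l (vec (V.getP j)))) = j) ∧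
        ∀ t < cs.length, ∃ l ∈ [(GF4.i : GF4), GF4.w, GF4.v],
          code (matOf (Ms.getD t []) *ᵥ vec (V.getP j)) =
            code (smulV l (vec (V.getP (img P k (cs.getD t 0) j))))
  | 0, s, _, j, h1, h2 => by omega
  | m + 1, s, hc, j, h1, h2 => by
    rw [pointsOK, force_eq, Bool.and_eq_true] at hc
    rcases Nat.eq_or_lt_of_le h1 with h | h
    · subst h
      have h3 := hc.1
      simp only [Bool.and_eq_true, List.all_eq_true, List.any_eq_true, List.mem_range,
        Nat.beq_eq] at h3
      exact ⟨h3.1, fun t ht => (h3.2 t ht).2⟩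
    · exact pointsOK_get hc.2 j h (by omega)

end Cfsg.Lib.CosetEnum.SpGeom
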