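import Cfsg.Prelude.Def_Classical
import Cfsg.Agent.Lib.Linear.OrthOrderStd
import Cfsg.Agent.Lib.Linear.OrthCenter
import Cfsg.Agent.S0286
import Cfsg.Agent.S0292

/-!
# A permutation group on anisotropic points identified with PΩ(7, 3)
-/

set_option autoImplicit false

namespace Cfsg.Lib.CosetEnum.O73

open scoped Matrix

/-- The index type of the seven coordinates. -/
abbrev I7 : Type := Unit ⊕ (Fin 3 ⊕ Fin 3)

/-- The isometry group of the form. -/
abbrev O7 := Cfsg.isometryGroup (ZMod 3) (Cfsg.quadFormOdd 3 (ZMod 3))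

/-- The quadratic form written out. -/
def qf (x : I7 → ZMod 3) : ZMod 3 :=
  x (.inl ()) * x (.inl ()) + x (.inr (.inl 0)) * x (.inr (.inr 0)) +
    x (.inr (.inl 1)) * x (.inr (.inr 1)) + x (.inr (.inl 2)) * x (.inr (.inr 2))

theorem quadFormOdd_eq (x : I7 → ZMod 3) : Cfsg.quadFormOdd 3 (ZMod 3) x = qf x := by
  simp only [Cfsg.quadFormOdd, Fin.sum_univ_three, qf]
  ring

/-- The polar form. -/
def pol (x y : I7 → ZMod 3) : ZMod 3 :=
  2 * (x (.inl ()) * y (.inl ())) +
    (x (.inr (.inl 0)) * y (.inr (.inr 0)) + x (.inr (.inr 0)) * y (.inr (.inl 0))) +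
    (x (.inr (.inl 1)) * y (.inr (.inr 1)) + x (.inr (.inr 1)) * y (.inr (.inl 1))) +
    (x (.inr (.inl 2)) * y (.inr (.inr 2)) + x (.inr (.inr 2)) * y (.inr (.inl 2)))

/-- The reflection along a vector of norm `-1`. -/
def move (c x : I7 → ZMod 3) : I7 → ZMod 3 := fun k => x k + pol x c * c k

theorem qf_move {c : I7 → ZMod 3} (hc : qf c = 2) (x : I7 → ZMod 3) : qf (move c x) = qf x := by
  have h : ∀ a : ZMod 3, qf (fun k => x k + a * c k) = qf x + a * pol x c + a * a * qf c := by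
    intro a
    simp only [qf, pol]
    ring
  have h3 : ∀ a : ZMod 3, a * a + a * a * 2 = 0 := by decide
  rw [show move c x = fun k => x k + pol x c * c k from rfl, h, hc, add_assoc, h3, add_zero]

theorem move_move {c : I7 → ZMod 3} (hc : qf c = 2) (x : I7 → ZMod 3) :
    move c (move c x) = x := by
  have hcc : pol c c = 2 * qf c := by simp only [pol, qf]; ring
  have h : ∀ a : ZMod 3, pol (fun k => x k + a * c k) c = pol x c + a * pol c c := by
    intro a
    simp only [pol]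
    ring
  have h3 : ∀ a b : ZMod 3, a * b + (a + a * (2 * 2)) * b = 0 := by decide
  funext k
  show x k + pol x c * c k + pol (fun k => x k + pol x c * c k) c * c k = x k
  rw [h, hcc, hc, add_assoc, h3, add_zero]

/-- The coefficients of the polar form against `c`. -/
def coef (c : I7 → ZMod 3) : I7 → ZMod 3
  | .inl _ => 2 * c (.inl ())
  | .inr (.inl k) => c (.inr (.inr k))
  | .inr (.inr k) => c (.inr (.inl k))

/-- The matrix of a reflection. -/
def cmat (c : I7 → ZMod 3) : Matrix I7 I7 (ZMod 3) := 1 + Matrix.vecMulVec c (coef c)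

theorem cmat_mulVec (c x : I7 → ZMod 3) : cmat c *ᵥ x = move c x := by
  funext k
  rw [cmat, Matrix.add_mulVec, Matrix.one_mulVec, Matrix.vecMulVec_mulVec]
  simp only [Pi.add_apply, move]
  congr 1
  simp only [Pi.smul_apply, MulOpposite.smul_eq_mul_unop, MulOpposite.unop_op, dotProduct,
    Fintype.sum_sum_type, Fin.sum_univ_three, Finset.univ_unique, Finset.sum_singleton, coef, pol]
  ring

theorem cmat_sq {c : I7 → ZMod 3} (hc : qf c = 2) : cmat c * cmat c = 1 := by
  refine Matrix.toLin'.injective (LinearMap.ext fun x => ?_)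
  rw [Matrix.toLin'_apply, Matrix.toLin'_apply, ← Matrix.mulVec_mulVec, cmat_mulVec, cmat_mulVec,
    move_move hc, Matrix.one_mulVec]

/-- A reflection as an isometry. -/
def reflection (c : I7 → ZMod 3) (hc : qf c = 2) : O7 :=
  ⟨⟨cmat c, cmat c, cmat_sq hc, cmat_sq hc⟩, fun x y => by
    show Cfsg.quadFormOdd 3 (ZMod 3) (cmat c *ᵥ x) = _
    rw [cmat_mulVec, quadFormOdd_eq, qf_move hc]
    exact (quadFormOdd_eq x).symm⟩

theorem card_omega : Nat.card (Cfsg.Omega (ZMod 3) (Cfsg.quadFormOdd 3 (ZMod 3))) = 4585351680 ∧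
    Nat.card (Cfsg.POmega (ZMod 3) (Cfsg.quadFormOdd 3 (ZMod 3))) = 4585351680 := by
  have h2 : (2 : ZMod 3) ≠ 0 := by decide
  obtain ⟨B, C⟩ := Cfsg.Lib.Linear.Orth.exists_space (Cfsg.Lib.Linear.Orth.isQuad_odd (F := ZMod 3) 3 h2)
  obtain ⟨-, hidx, -⟩ :=
    Cfsg.Lib.Linear.Orth.omega_odd C h2 (by rw [Cfsg.Lib.Linear.Orth.card_odd_index]; omega)
  have hO := Cfsg.Agent.S0286.result (F := ZMod 3) (q := 3) (ZMod.card 3) (by decide) 3
  have hP := Cfsg.Agent.S0292.result (F := ZMod 3) (q := 3) (ZMod.card 3) (by decide) 3 le_rfl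
  have h := Subgroup.card_mul_index
    (commutator (Cfsg.isometryGroup (ZMod 3) (Cfsg.quadFormOdd 3 (ZMod 3))))
  rw [hidx, hO] at h
  simp only [Finset.prod_range_succ, Finset.prod_range_zero] at h hP
  norm_num at h hP
  exact ⟨by change Nat.card (commutator _) = _; omega, by omega⟩

variable {N : ℕ} (pt : Fin N → I7 → ZMod 3)

/-- The action of an isometry on the listed points. -/
def Maps (A : O7) (σ : Equiv.Perm (Fin N)) : Prop :=
  ∀ j, ∃ c : ZMod 3, c ≠ 0 ∧ (A.1 : Matrix I7 I7 (ZMod 3)) *ᵥ pt j = c • pt (σ j)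

/-- The pairs of an isometry and its action on the points. -/
def mapsGroup : Subgroup (O7 × Equiv.Perm (Fin N)) where
  carrier := {p | Maps pt p.1 p.2}
  one_mem' := fun j => ⟨1, one_ne_zero, by simp⟩
  mul_mem' := by
    rintro ⟨A, σ⟩ ⟨B, τ⟩ hA hB j
    obtain ⟨c, hc, hcj⟩ := hB j
    obtain ⟨d, hd, hdj⟩ := hA (τ j)
    refine ⟨c * d, mul_ne_zero hc hd, ?_⟩
    show ((A.1 : Matrix I7 I7 (ZMod 3)) * (B.1 : Matrix I7 I7 (ZMod 3))) *ᵥ pt j = _
    rw [← Matrix.mulVec_mulVec, hcj, Matrix.mulVec_smul, hdj, smul_smul]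
    rfl
  inv_mem' := by
    rintro ⟨A, σ⟩ hA j
    obtain ⟨c, hc, hcj⟩ := hA (σ⁻¹ j)
    refine ⟨c⁻¹, inv_ne_zero hc, ?_⟩
    simp only [Equiv.Perm.inv_def, Equiv.apply_symm_apply] at hcj
    have h := congrArg ((A⁻¹.1 : Matrix I7 I7 (ZMod 3)) *ᵥ ·) hcj
    simp only [Matrix.mulVec_mulVec, Matrix.mulVec_smul] at h
    rw [← Units.val_mul, ← Subgroup.coe_mul, inv_mul_cancel, Subgroup.coe_one, Units.val_one,
      Matrix.one_mulVec] at h
    show (A⁻¹.1 : Matrix I7 I7 (ZMod 3)) *ᵥ pt j = c⁻¹ • pt (σ⁻¹ j)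
    rw [Equiv.Perm.inv_def, h, smul_smul, inv_mul_cancel₀ hc, one_smul]

variable {pt}

/-- A large perfect group of permutations of points induced by isometries is PΩ(7, 3). -/
theorem equiv_pomega (hd : ∀ i j, ∀ c : ZMod 3, c ≠ 0 → c • pt i = pt j → i = j)
    {S : Set (Equiv.Perm (Fin N))} (hS : ∀ σ ∈ S, ∃ A, Maps pt A σ)
    (hperf : commutator (Subgroup.closure S) = ⊤)
    (hP : 4585351680 ≤ Nat.card (Subgroup.closure S)) :
    Nat.card (Subgroup.closure S) = 4585351680 ∧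
      Nonempty (Subgroup.closure S ≃* Cfsg.POmega (ZMod 3) (Cfsg.quadFormOdd 3 (ZMod 3))) := by
  obtain ⟨hom, hpom⟩ := card_omega
  set G := mapsGroup pt with hG
  let π₁ : G →* O7 := (MonoidHom.fst _ _).comp G.subtype
  let π₂ : G →* Equiv.Perm (Fin N) := (MonoidHom.snd _ _).comp G.subtype
  have hinj : Function.Injective π₁ := by
    rw [← MonoidHom.ker_eq_bot_iff, eq_bot_iff]
    rintro ⟨⟨A, σ⟩, hm⟩ h
    replace h : A = 1 := h
    subst h
    have hσ : σ = 1 := Equiv.ext fun j => by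
      obtain ⟨c, hc, hcj⟩ := hm j
      simp only [Subgroup.coe_one, Units.val_one, Matrix.one_mulVec] at hcj
      exact hd _ _ c hc hcj.symm
    subst hσ
    exact Subgroup.mem_bot.2 rfl
  set M := Subgroup.closure S
  have hle : M ≤ π₂.range := by
    rw [Subgroup.closure_le]
    intro σ hσ
    obtain ⟨A, hA⟩ := hS σ hσ
    exact ⟨⟨(A, σ), hA⟩, rfl⟩
  set D := commutator G
  have hD1 : D.map π₁ ≤ Cfsg.Omega (ZMod 3) (Cfsg.quadFormOdd 3 (ZMod 3)) := by
    show (commutator G).map π₁ ≤ commutator O7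
    rw [commutator_def, commutator_def, Subgroup.map_commutator]
    exact Subgroup.commutator_mono le_top le_top
  have hD2 : M ≤ D.map π₂ := by
    have h1 : M = (commutator M).map M.subtype := by
      rw [hperf, ← MonoidHom.range_eq_map, Subgroup.range_subtype]
    have h2 : D.map π₂ = ⁅π₂.range, π₂.range⁆ := by
      show (commutator G).map π₂ = _
      rw [commutator_def, Subgroup.map_commutator, ← MonoidHom.range_eq_map]
    rw [h1, h2, commutator_def, Subgroup.map_commutator, ← MonoidHom.range_eq_map,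
      Subgroup.range_subtype]
    exact Subgroup.commutator_mono hle hle
  have hfinO : Finite O7 := inferInstance
  have : Finite G := Finite.of_injective π₁ hinj
  have a1 : Nat.card D = Nat.card (D.map π₁) :=
    Nat.card_congr (D.equivMapOfInjective π₁ hinj).toEquiv
  have a2 : Nat.card (D.map π₁) ≤ 4585351680 := hom ▸ Subgroup.card_le_of_le hD1
  have a3 : Nat.card (D.map π₂) ≤ Nat.card D :=
    Nat.card_le_card_of_surjective _ (π₂.subgroupMap_surjective D)
  have a4 : Nat.card M ≤ Nat.card (D.map π₂) := Subgroup.card_le_of_le hD2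
  have hM : Nat.card M = 4585351680 := by omega
  refine ⟨hM, ?_⟩
  have hDM : D.map π₂ = M := (Subgroup.eq_of_le_of_card_ge hD2 (by omega)).symm
  have hDO : D.map π₁ = Cfsg.Omega (ZMod 3) (Cfsg.quadFormOdd 3 (ZMod 3)) :=
    Subgroup.eq_of_le_of_card_ge hD1 (by rw [hom]; omega)
  let e2 : D ≃* D.map π₂ := MulEquiv.ofBijective (π₂.subgroupMap D)
    ((π₂.subgroupMap_surjective D).bijective_of_nat_card_le (by omega))
  let e1 : D ≃* Cfsg.Omega (ZMod 3) (Cfsg.quadFormOdd 3 (ZMod 3)) :=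
    (D.equivMapOfInjective π₁ hinj).trans (MulEquiv.subgroupCongr hDO)
  let e3 : Cfsg.Omega (ZMod 3) (Cfsg.quadFormOdd 3 (ZMod 3)) ≃*
      Cfsg.POmega (ZMod 3) (Cfsg.quadFormOdd 3 (ZMod 3)) :=
    MulEquiv.ofBijective (QuotientGroup.mk' _)
      ((QuotientGroup.mk'_surjective _).bijective_of_nat_card_le (by rw [hpom, hom]))
  exact ⟨(MulEquiv.subgroupCongr hDM).symm.trans (e2.symm.trans (e1.trans e3))⟩

end Cfsg.Lib.CosetEnum.O73
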