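import Cfsg.Agent.Lib.CosetEnum.GFFour
import Cfsg.Agent.S0245

/-!
# A permutation group on points identified with Sp(4, 4)
-/

set_option autoImplicit false

namespace Cfsg.Lib.CosetEnum.SpGeom

open Matrix

/-- The index type of the four coordinates. -/
abbrev I4 : Type := Fin 2 ⊕ Fin 2

/-- The symplectic group. -/
abbrev Sp4 : Type := Matrix.symplecticGroup (Fin 2) GF4

theorem card_sp : Nat.card Sp4 = 979200 := by
  have h := Cfsg.Agent.S0245.result (F := GF4) (q := 4) GF4.card_eq 2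
  simp only [Finset.prod_range_succ, Finset.prod_range_zero] at h
  norm_num at h
  exact h

variable {N : ℕ} (pt : Fin N → I4 → GF4)

/-- The action of a matrix on the listed points. -/
def Maps (A : Sp4) (σ : Equiv.Perm (Fin N)) : Prop :=
  ∀ j, ∃ c : GF4, c ≠ 0 ∧ (A : Matrix I4 I4 GF4) *ᵥ pt j = c • pt (σ j)

theorem maps_one : Maps pt 1 1 := fun j => ⟨1, one_ne_zero, by simp⟩

variable {pt}

theorem Maps.mul {A B : Sp4} {σ τ : Equiv.Perm (Fin N)} (hA : Maps pt A σ) (hB : Maps pt B τ) :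
    Maps pt (A * B) (σ * τ) := by
  intro j
  obtain ⟨c, hc, hcj⟩ := hB j
  obtain ⟨d, hd, hdj⟩ := hA (τ j)
  refine ⟨c * d, mul_ne_zero hc hd, ?_⟩
  show ((A : Matrix I4 I4 GF4) * (B : Matrix I4 I4 GF4)) *ᵥ pt j = _
  rw [← Matrix.mulVec_mulVec, hcj, Matrix.mulVec_smul, hdj, smul_smul]
  rfl

/-- A large group of permutations of points induced by symplectic matrices is Sp(4, 4). -/
theorem equiv_sp (hd : ∀ i j, ∀ c : GF4, c ≠ 0 → c • pt i = pt j → i = j)
    {S : Set (Equiv.Perm (Fin N))} (hS : ∀ σ ∈ S, ∃ A, Maps pt A σ)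
    (hP : 979200 ≤ Nat.card (Subgroup.closure S)) :
    Nat.card (Subgroup.closure S) = 979200 ∧ Nonempty (Subgroup.closure S ≃* Sp4) := by
  have : Finite Sp4 := Nat.finite_of_card_ne_zero (by rw [card_sp]; decide)
  set M := Subgroup.closure S with hM
  have hex : ∀ σ : M, ∃ A, Maps pt A (σ : Equiv.Perm (Fin N)) := by
    rintro ⟨σ, hσ⟩
    show ∃ A, Maps pt A σ
    have hσ' : σ ∈ Subgroup.closure S := hσ
    clear hσ
    induction hσ' using Subgroup.closure_induction_left with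
    | one => exact ⟨1, maps_one pt⟩
    | mul_left y hy z _ hz =>
      obtain ⟨A, hA⟩ := hS y hy; obtain ⟨B, hB⟩ := hz
      exact ⟨A * B, hA.mul hB⟩
    | inv_mul_cancel y hy z _ hz =>
      obtain ⟨A, hA⟩ := hS y hy; obtain ⟨B, hB⟩ := hz
      have : ∀ m : ℕ, Maps pt (A ^ m) (y ^ m) := by
        intro m
        induction m with
        | zero => exact maps_one pt
        | succ m ih => rw [pow_succ, pow_succ]; exact ih.mul hA
      have hy' : y⁻¹ = y ^ (orderOf y - 1) := by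
        refine inv_eq_of_mul_eq_one_left ?_
        rw [← pow_succ, Nat.sub_add_cancel (orderOf_pos y), pow_orderOf_eq_one]
      exact ⟨A ^ (orderOf y - 1) * B, hy' ▸ (this _).mul hB⟩
  have hfun : ∀ (A : Sp4) (σ τ : Equiv.Perm (Fin N)), Maps pt A σ → Maps pt A τ → σ = τ := by
    intro A σ τ hσ hτ
    refine Equiv.ext fun j => ?_
    obtain ⟨c, hc, hcj⟩ := hσ j
    obtain ⟨d, hd', hdj⟩ := hτ j
    refine hd _ _ (d⁻¹ * c) (mul_ne_zero (inv_ne_zero hd') hc) ?_
    rw [← smul_smul, ← hcj, hdj, smul_smul, inv_mul_cancel₀ hd', one_smul]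
  choose A hA using hex
  have hinj : Function.Injective A := fun σ τ h =>
    Subtype.ext (hfun (A σ) _ _ (hA σ) (h ▸ hA τ))
  have hle : Nat.card M ≤ 979200 := card_sp ▸ Nat.card_le_card_of_injective A hinj
  have hcard : Nat.card M = 979200 := le_antisymm hle hP
  have hbij : Function.Bijective A :=
    hinj.bijective_of_nat_card_le (by rw [card_sp, hcard])
  refine ⟨hcard, ⟨MulEquiv.ofBijective (MonoidHom.mk' A fun σ τ => ?_) hbij⟩⟩
  obtain ⟨ρ, hρ⟩ := hbij.2 (A σ * A τ)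
  have h : (ρ : Equiv.Perm (Fin N)) = σ * τ := hfun (A σ * A τ) _ _ (hρ ▸ hA ρ) ((hA σ).mul (hA τ))
  rw [← hρ, show ρ = σ * τ from Subtype.ext h]

end Cfsg.Lib.CosetEnum.SpGeom
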